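import Cfsg.Agent.Lib.Char.FeitDegree.Translation

/-!
# Short exact sequences with projective middle term

A chain of length `d` is the quotient and the submodule of a projective module with complementary
chains, so the tensor product of two chains of length `d` is stably a tensor product of two chains
of length `p - d`.
-/

set_option autoImplicit false

namespace CfsgLib.Char.FeitDegree.Omega

open Matrix Stable Chains Translation
open scoped Classical Kronecker

section Seq

variable {k : Type*} [Field k] {G : Type*} [Group G]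
  {κ π α : Type*} [Fintype κ] [DecidableEq κ] [Fintype π] [DecidableEq π] [Fintype α] [DecidableEq α]

/-- A short exact sequence, split over the field. -/
structure IsSeq (K : G →* Matrix κ κ k) (P : G →* Matrix π π k) (A : G →* Matrix α α k)
    (i : Matrix π κ k) (p' : Matrix α π k) (r : Matrix κ π k) (s : Matrix π α k) : Prop where
  eq_i : IsEq K P i
  eq_p : IsEq P A p'
  zero : p' * i = 0
  left : r * i = 1
  right : p' * s = 1
  sum : i * r + s * p' = 1

/-- The contragredient representation. -/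
def dualRep {ι : Type*} [Fintype ι] [DecidableEq ι] (S : G →* Matrix ι ι k) : G →* Matrix ι ι k where
  toFun g := (S g⁻¹)ᵀ
  map_one' := by simp
  map_mul' g h := by rw [_root_.mul_inv_rev, map_mul, Matrix.transpose_mul]

theorem dualRep_apply {ι : Type*} [Fintype ι] [DecidableEq ι] (S : G →* Matrix ι ι k) (g : G) :
    dualRep S g = (S g⁻¹)ᵀ := rfl

theorem dual_dual {ι : Type*} [Fintype ι] [DecidableEq ι] (S : G →* Matrix ι ι k) : dualRep (dualRep S) = S :=
  MonoidHom.ext fun g => by simp [dualRep_apply]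

theorem isEq_dual {S : G →* Matrix κ κ k} {T : G →* Matrix π π k} {a : Matrix π κ k} (h : IsEq S T a) :
    IsEq (dualRep T) (dualRep S) aᵀ := fun g => by
  rw [dualRep_apply, dualRep_apply, ← Matrix.transpose_mul, ← Matrix.transpose_mul, h]

theorem InI.one_dual [Fintype G] {S : G →* Matrix π π k} (h : InI S S (1 : Matrix π π k)) :
    InI (dualRep S) (dualRep S) (1 : Matrix π π k) := by
  obtain ⟨u, hu⟩ := h
  refine ⟨uᵀ, ?_⟩
  rw [← Matrix.transpose_one, ← hu, trOne, trOne, Matrix.transpose_sum]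
  refine Fintype.sum_equiv (Equiv.refl G) _ _ fun g => ?_
  simp [cj, dualRep_apply, Matrix.transpose_mul, Matrix.mul_assoc]

theorem InI.one_kron [Fintype G] {S : G →* Matrix π π k} (h : InI S S (1 : Matrix π π k)) (T : G →* Matrix α α k) :
    InI (kronRep S T) (kronRep S T) (1 : Matrix (π × α) (π × α) k) := by
  obtain ⟨u, hu⟩ := h
  refine ⟨u ⊗ₖ (1 : Matrix α α k), ?_⟩
  rw [← one_kronecker_one, ← hu, trOne, trOne]
  ext a b
  simp only [Matrix.sum_apply, kroneckerMap_apply, Finset.sum_mul]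
  refine Finset.sum_congr rfl fun g _ => ?_
  rw [cj, kronRep_apply, kronRep_apply, ← Matrix.mul_kronecker_mul, ← Matrix.mul_kronecker_mul, Matrix.mul_one,
    Stable.mul_inv_eq_one (S := T)]
  rfl

theorem InI.one_kron' [Fintype G] (T : G →* Matrix α α k) {S : G →* Matrix π π k} (h : InI S S (1 : Matrix π π k)) :
    InI (kronRep T S) (kronRep T S) (1 : Matrix (α × π) (α × π) k) := by
  obtain ⟨u, hu⟩ := h
  refine ⟨(1 : Matrix α α k) ⊗ₖ u, ?_⟩
  rw [← one_kronecker_one, ← hu, trOne, trOne]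
  ext a b
  simp only [Matrix.sum_apply, kroneckerMap_apply, Finset.mul_sum]
  refine Finset.sum_congr rfl fun g _ => ?_
  rw [cj, kronRep_apply, kronRep_apply, ← Matrix.mul_kronecker_mul, ← Matrix.mul_kronecker_mul, Matrix.mul_one,
    Stable.mul_inv_eq_one (S := T)]
  rfl

variable {K : G →* Matrix κ κ k} {P : G →* Matrix π π k} {A : G →* Matrix α α k}
  {i : Matrix π κ k} {p' : Matrix α π k} {r : Matrix κ π k} {s : Matrix π α k}

theorem IsSeq.dual (h : IsSeq K P A i p' r s) :
    IsSeq (dualRep A) (dualRep P) (dualRep K) p'ᵀ iᵀ sᵀ rᵀ :=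
  ⟨isEq_dual h.eq_p, isEq_dual h.eq_i, by rw [← Matrix.transpose_mul, h.zero, Matrix.transpose_zero],
    by rw [← Matrix.transpose_mul, h.right, Matrix.transpose_one],
    by rw [← Matrix.transpose_mul, h.left, Matrix.transpose_one],
    by rw [← Matrix.transpose_mul, ← Matrix.transpose_mul, ← Matrix.transpose_add, add_comm, h.sum, Matrix.transpose_one]⟩

variable {μ : Type*} [Fintype μ] [DecidableEq μ]

theorem IsSeq.kron_right (h : IsSeq K P A i p' r s) (T : G →* Matrix μ μ k) :
    IsSeq (kronRep K T) (kronRep P T) (kronRep A T) (i ⊗ₖ (1 : Matrix μ μ k)) (p' ⊗ₖ (1 : Matrix μ μ k))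
      (r ⊗ₖ (1 : Matrix μ μ k)) (s ⊗ₖ (1 : Matrix μ μ k)) :=
  ⟨isEq_kron h.eq_i IsEq.one, isEq_kron h.eq_p IsEq.one,
    by rw [← Matrix.mul_kronecker_mul, h.zero, Matrix.zero_kronecker],
    by rw [← Matrix.mul_kronecker_mul, h.left, Matrix.mul_one, one_kronecker_one],
    by rw [← Matrix.mul_kronecker_mul, h.right, Matrix.mul_one, one_kronecker_one],
    by rw [← Matrix.mul_kronecker_mul, ← Matrix.mul_kronecker_mul, ← Matrix.add_kronecker, h.sum, Matrix.mul_one,
      one_kronecker_one]⟩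

theorem IsSeq.kron_left (h : IsSeq K P A i p' r s) (T : G →* Matrix μ μ k) :
    IsSeq (kronRep T K) (kronRep T P) (kronRep T A) ((1 : Matrix μ μ k) ⊗ₖ i) ((1 : Matrix μ μ k) ⊗ₖ p')
      ((1 : Matrix μ μ k) ⊗ₖ r) ((1 : Matrix μ μ k) ⊗ₖ s) :=
  ⟨isEq_kron IsEq.one h.eq_i, isEq_kron IsEq.one h.eq_p,
    by rw [← Matrix.mul_kronecker_mul, h.zero, Matrix.kronecker_zero],
    by rw [← Matrix.mul_kronecker_mul, h.left, Matrix.mul_one, one_kronecker_one],
    by rw [← Matrix.mul_kronecker_mul, h.right, Matrix.mul_one, one_kronecker_one],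
    by rw [← Matrix.mul_kronecker_mul, ← Matrix.mul_kronecker_mul, ← Matrix.kronecker_add, h.sum, Matrix.mul_one,
      one_kronecker_one]⟩

theorem IsSeq.extend [Fintype G] (h : IsSeq K P A i p' r s) {π' : Type*} [Fintype π'] [DecidableEq π']
    {P' : G →* Matrix π' π' k} (hP' : InI P' P' (1 : Matrix π' π' k)) {i' : Matrix π' κ k} (hi' : IsEq K P' i') :
    ∃ f : Matrix π' π k, IsEq P P' f ∧ f * i = i' := by
  obtain ⟨u, hu⟩ := hP'
  refine ⟨trOne P P' (u * (i' * r)), trOne_isEq _, ?_⟩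
  rw [trOne, Matrix.sum_mul]
  have : ∀ g, cj P P' g (u * (i' * r)) * i = cj P' P' g u * i' := fun g => by
    rw [cj, cj, Matrix.mul_assoc _ (P g⁻¹), h.eq_i, Matrix.mul_assoc _ (P' g⁻¹), hi']
    simp only [Matrix.mul_assoc]
    rw [← Matrix.mul_assoc r i, h.left, Matrix.one_mul]
  rw [Finset.sum_congr rfl fun g _ => this g, ← Matrix.sum_mul]
  show trOne P' P' u * i' = i'
  rw [hu, Matrix.one_mul]

theorem IsSeq.one_sub_comp [Fintype G] (h : IsSeq K P A i p' r s) (hP : InI P P (1 : Matrix π π k))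
    {π' β : Type*} [Fintype π'] [DecidableEq π'] [Fintype β] [DecidableEq β] {P' : G →* Matrix π' π' k}
    {B : G →* Matrix β β k} {i' : Matrix π' κ k} {q : Matrix β π' k} {r' : Matrix κ π' k} {t : Matrix π' β k}
    (h' : IsSeq K P' B i' q r' t) {f : Matrix π' π k} (hf : IsEq P P' f) (hfi : f * i = i')
    {g : Matrix π π' k} (hg : IsEq P' P g) (hgi : g * i' = i) :
    IsEq A B (q * f * s) ∧ InI A A (1 - p' * g * t * (q * f * s)) := by
  have eA : ∀ (M N' : Matrix β α k), M * p' = N' * p' → M = N' := fun M N' e => by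
    rw [← Matrix.mul_one M, ← h.right, ← Matrix.mul_assoc, e, Matrix.mul_assoc, h.right, Matrix.mul_one]
  have eA' : ∀ (M N' : Matrix π α k), M * p' = N' * p' → M = N' := fun M N' e => by
    rw [← Matrix.mul_one M, ← h.right, ← Matrix.mul_assoc, e, Matrix.mul_assoc, h.right, Matrix.mul_one]
  have e1 : q * f * s * p' = q * f := by
    conv_rhs => rw [← Matrix.mul_one (q * f), ← h.sum, Matrix.mul_add, ← Matrix.mul_assoc (q * f) i r,
      Matrix.mul_assoc q f i, hfi, h'.zero, Matrix.zero_mul, zero_add]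
    simp only [Matrix.mul_assoc]
  have ha : IsEq A B (q * f * s) := fun x => eA _ _ (by
    rw [Matrix.mul_assoc, e1, Matrix.mul_assoc, h.eq_p, ← Matrix.mul_assoc _ p', e1]
    exact (h'.eq_p.comp hf) x)
  refine ⟨ha, ?_⟩
  set M : Matrix π π k := 1 - g * f
  have hM : IsEq P P M := IsEq.one.sub (hg.comp hf)
  have hMi : M * i = 0 := by rw [Matrix.sub_mul, Matrix.one_mul, Matrix.mul_assoc, hfi, hgi, sub_self]
  have e2 : p' * g * t * q = p' * g := by
    conv_rhs => rw [← Matrix.mul_one (p' * g), ← h'.sum, Matrix.mul_add, ← Matrix.mul_assoc (p' * g) i' r',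
      Matrix.mul_assoc p' g i', hgi, h.zero, Matrix.zero_mul, zero_add]
    simp only [Matrix.mul_assoc]
  have e3 : M * s * p' = M := by
    conv_rhs => rw [← Matrix.mul_one M, ← h.sum, Matrix.mul_add, ← Matrix.mul_assoc M i r, hMi, Matrix.zero_mul,
      zero_add]
    simp only [Matrix.mul_assoc]
  have hMs : IsEq A P (M * s) := fun x => eA' _ _ (by
    rw [Matrix.mul_assoc, e3, Matrix.mul_assoc, h.eq_p, ← Matrix.mul_assoc _ p', e3]
    exact hM x)
  have key : 1 - p' * g * t * (q * f * s) = p' * (1 : Matrix π π k) * (M * s) := by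
    rw [show p' * g * t * (q * f * s) = p' * g * t * q * (f * s) by simp only [Matrix.mul_assoc], e2,
      Matrix.mul_one, Matrix.sub_mul, Matrix.one_mul, Matrix.mul_sub, h.right]
    simp only [Matrix.mul_assoc]
  rw [key]
  exact InI.mul_right hMs (InI.mul_left h.eq_p hP)

/-- Two sequences with the same first term and projective middle terms. -/
theorem IsSeq.stEq [Fintype G] (h : IsSeq K P A i p' r s) (hP : InI P P (1 : Matrix π π k))
    {π' β : Type*} [Fintype π'] [DecidableEq π'] [Fintype β] [DecidableEq β] {P' : G →* Matrix π' π' k}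
    {B : G →* Matrix β β k} {i' : Matrix π' κ k} {q : Matrix β π' k} {r' : Matrix κ π' k} {t : Matrix π' β k}
    (h' : IsSeq K P' B i' q r' t) (hP' : InI P' P' (1 : Matrix π' π' k)) : StEq A B := by
  obtain ⟨f, hf, hfi⟩ := h.extend hP' h'.eq_i
  obtain ⟨g, hg, hgi⟩ := h'.extend hP h.eq_i
  obtain ⟨ha, h1⟩ := h.one_sub_comp hP h' hf hfi hg hgi
  obtain ⟨hb, h2⟩ := h'.one_sub_comp hP' h hg hgi hf hfi
  exact ⟨_, _, ha, hb, h1, h2⟩

end Seq

section Regular

variable {p : ℕ} [hp : Fact p.Prime] {N : Type*} [Group N] [Fintype N] (Δ : Semi p N)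
  {k : Type*} [Field k] [CharP k p]

/-- The parts of an element. -/
noncomputable def parts : ZMod p × Δ.A ≃ N :=
  Equiv.ofBijective (fun w => Δ.x ^ w.1.val * (w.2 : N))
    ⟨fun w w' h => by
      obtain ⟨e1, e2⟩ := unique Δ h
      refine Prod.ext (ZMod.val_injective p ?_) e1
      rw [← Nat.mod_eq_of_lt w.1.val_lt, ← Nat.mod_eq_of_lt w'.1.val_lt]
      exact e2,
    fun n => by
      obtain ⟨i, a, rfl⟩ := Δ.decomp n
      refine ⟨((i : ZMod p), a), ?_⟩
      show Δ.x ^ (i : ZMod p).val * _ = _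
      congr 1
      rw [ZMod.val_natCast]
      conv_rhs => rw [← Nat.mod_add_div i p, pow_add, pow_mul, x_pow Δ, one_pow, mul_one]⟩

/-- Translation on `ZMod p`. -/
def rot (k : Type*) [Field k] (h : ZMod p) : Matrix (ZMod p) (ZMod p) k := fun i j => if i = j + h then 1 else 0

theorem rot_mul (h h' : ZMod p) : rot (p := p) k h * rot k h' = rot k (h + h') := by
  ext i j
  rw [Matrix.mul_apply, Finset.sum_eq_single (j + h') (fun b _ hb => by simp [rot, hb])
    (fun hn => absurd (Finset.mem_univ _) hn)]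
  simp [rot, add_assoc, add_comm h' h]

theorem rot_pow (h : ZMod p) (n : ℕ) : rot (p := p) k h ^ n = rot k (n • h) := by
  induction n with
  | zero => ext i j; simp [rot, Matrix.one_apply]
  | succ n ih => rw [pow_succ, ih, rot_mul, succ_nsmul]

/-- The monomial matrix of an element of `A`. -/
def monMat (c : Δ.A →* k) (a : Δ.A) : Matrix (ZMod p) (ZMod p) k := fun i j =>
  if i = ((Δ.ε a : (ZMod p)ˣ) : ZMod p) * j then c a else 0

/-- The monomial action of `A`. -/
noncomputable def mon (c : Δ.A →* k) : Δ.A →* Matrix (ZMod p) (ZMod p) k where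
  toFun := monMat Δ c
  map_one' := by ext i j; simp [monMat, Matrix.one_apply]
  map_mul' a b := by
    ext i j
    rw [Matrix.mul_apply, Finset.sum_eq_single (((Δ.ε b : (ZMod p)ˣ) : ZMod p) * j) (fun l _ hl => by simp [monMat, hl])
      (fun hn => absurd (Finset.mem_univ _) hn)]
    simp [monMat, mul_assoc]

theorem mon_apply (c : Δ.A →* k) (a : Δ.A) (i j : ZMod p) :
    mon Δ c a i j = if i = ((Δ.ε a : (ZMod p)ˣ) : ZMod p) * j then c a else 0 := rfl

/-- The projective chain. -/
noncomputable def regular (c : Δ.A →* k) : N →* Matrix (ZMod p) (ZMod p) k :=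
  ofSemi Δ (rot k 1) (mon Δ c)
    (by rw [rot_pow, nsmul_one, ZMod.natCast_self]; ext i j; simp [rot, Matrix.one_apply])
    (fun a => by
      rw [rot_pow, nsmul_one, ZMod.natCast_val, ZMod.cast_id]
      ext i j
      rw [Matrix.mul_apply, Matrix.mul_apply, Finset.sum_eq_single (j + 1) (fun l _ hl => by simp [rot, hl])
        (fun hn => absurd (Finset.mem_univ _) hn),
        Finset.sum_eq_single (((Δ.ε a : (ZMod p)ˣ) : ZMod p) * j) (fun l _ hl => by simp [mon_apply, hl])
          (fun hn => absurd (Finset.mem_univ _) hn)]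
      simp [rot, mon_apply, mul_add])

theorem regular_mat (c : Δ.A →* k) (h : ZMod p) (a : Δ.A) (i j : ZMod p) :
    regular Δ c (Δ.x ^ h.val * (a : N)) i j =
      if i = ((Δ.ε a : (ZMod p)ˣ) : ZMod p) * j + h then c a else 0 := by
  rw [regular, ofSemi_mul, rot_pow, nsmul_one, ZMod.natCast_val, ZMod.cast_id, Matrix.mul_apply,
    Finset.sum_eq_single (((Δ.ε a : (ZMod p)ˣ) : ZMod p) * j) (fun l _ hl => by simp [mon_apply, hl])
      (fun hn => absurd (Finset.mem_univ _) hn)]
  simp [rot, mon_apply]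

theorem regular_apply (c : Δ.A →* k) (h : ZMod p) (a : Δ.A) (u : ZMod p → k) (i : ZMod p) :
    (regular Δ c (Δ.x ^ h.val * (a : N)) *ᵥ u) i =
      c a * u ((((Δ.ε a)⁻¹ : (ZMod p)ˣ) : ZMod p) * (i - h)) := by
  simp only [mulVec, dotProduct, regular_mat, ite_mul, zero_mul]
  rw [Finset.sum_eq_single ((((Δ.ε a)⁻¹ : (ZMod p)ˣ) : ZMod p) * (i - h)) (fun l _ hl => by
      rw [if_neg (fun e => hl (by rw [e, add_sub_cancel_right, Units.inv_mul_cancel_left]))])
    (fun hn => absurd (Finset.mem_univ _) hn), if_pos (by rw [Units.mul_inv_cancel_left, sub_add_cancel])]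

theorem regular_projective (c : Δ.A →* k) : InI (regular Δ c) (regular Δ c) (1 : Matrix (ZMod p) (ZMod p) k) := by
  refine ⟨(Fintype.card Δ.A : k)⁻¹ • Matrix.single 0 0 1, ?_⟩
  rw [trOne, Finset.sum_congr rfl fun g _ => cj_smul g _ _, ← Finset.smul_sum,
    ← Fintype.sum_equiv (parts Δ) (fun w => cj (regular Δ c) (regular Δ c) (parts Δ w) (Matrix.single 0 0 1)) _
      fun w => rfl, Fintype.sum_prod_type]
  have key : ∀ (i : ZMod p) (a : Δ.A),
      cj (regular Δ c) (regular Δ c) (parts Δ (i, a)) (Matrix.single 0 0 1) = Matrix.single i i 1 := by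
    intro i a
    have e1 : regular Δ c (parts Δ (i, a)) * Matrix.single 0 0 1
        = Matrix.single i i 1 * regular Δ c (parts Δ (i, a)) := by
      show regular Δ c (Δ.x ^ i.val * (a : N)) * _ = _ * regular Δ c (Δ.x ^ i.val * (a : N))
      ext u w
      rw [Matrix.mul_apply, Matrix.mul_apply, Finset.sum_eq_single 0 (fun l _ hl => by simp [Matrix.single_apply, Ne.symm hl])
        (fun hn => absurd (Finset.mem_univ _) hn), Finset.sum_eq_single i (fun l _ hl => by simp [Matrix.single_apply, Ne.symm hl])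
        (fun hn => absurd (Finset.mem_univ _) hn)]
      simp only [regular_mat, Matrix.single_apply]
      rcases em (u = i) with hu | hu <;> rcases em (w = 0) with hw | hw
      · simp [hu, hw]
      · simp [hu, hw, Ne.symm hw, (Δ.ε a).ne_zero, (Δ.ε a).ne_zero.symm]
      · simp [hu, hw, Ne.symm hu]
      · simp [hu, hw, Ne.symm hu, Ne.symm hw]
    rw [cj, e1, Matrix.mul_assoc, Stable.mul_inv_eq_one, Matrix.mul_one]
  rw [Finset.sum_congr rfl fun i _ => Finset.sum_congr rfl fun a _ => key i a]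
  simp only [Finset.sum_const, Finset.card_univ, ← Nat.cast_smul_eq_nsmul k, ← Finset.smul_sum, smul_smul,
    inv_mul_cancel₀ (Chains.card_ne_zero (p := p) (k := k) (Δ := Δ)), one_smul]
  ext u w
  simp [Matrix.sum_apply, Matrix.single_apply, Matrix.one_apply, ite_and, eq_comm]

theorem regular_socle (c : Δ.A →* k) : tee Δ (regular Δ c) ^ (p - 1) *ᵥ (Pi.single 0 1 : ZMod p → k) ≠ 0 := by
  have ht : tee Δ (regular Δ c) = rot k 1 - 1 := by rw [tee, regular, ofSemi_x]
  have key : ∀ m : ℕ, m < p → ∀ j : ZMod p, m ≤ j.val →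
      (tee Δ (regular Δ c) ^ m *ᵥ (Pi.single 0 1 : ZMod p → k)) j = if j.val = m then 1 else 0 := by
    intro m
    induction m with
    | zero =>
      intro _ j _
      simp [Pi.single_apply, Matrix.one_apply, ZMod.val_eq_zero]
    | succ m ih =>
      intro hm j hj
      have hj0 : j ≠ 0 := fun e => by rw [e, ZMod.val_zero] at hj; omega
      have hv : (j - 1).val = j.val - 1 := ZMod.val_sub (by rw [ZMod.val_one]; omega) |>.trans (by rw [ZMod.val_one])
      rw [pow_succ', ← mulVec_mulVec, ht, sub_mulVec, one_mulVec, Pi.sub_apply, ← ht]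
      have e1 : (rot k 1 *ᵥ (tee Δ (regular Δ c) ^ m *ᵥ (Pi.single 0 1 : ZMod p → k))) j
          = (tee Δ (regular Δ c) ^ m *ᵥ (Pi.single 0 1 : ZMod p → k)) (j - 1) := by
        conv_lhs => rw [mulVec, dotProduct]
        rw [Finset.sum_eq_single (j - 1) (fun l _ hl => by
          simp only [rot]
          rw [if_neg (fun e => hl (by rw [e, add_sub_cancel_right])), zero_mul])
          (fun hn => absurd (Finset.mem_univ _) hn)]
        simp [rot]
      rw [e1, ih (by omega) _ (by omega), ih (by omega) j (by omega), hv, if_neg (show j.val ≠ m by omega), sub_zero]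
      simp only [show j.val - 1 = m ↔ j.val = m + 1 by omega]
  intro h
  have := key (p - 1) (by have := hp.out.pos; omega) ((p - 1 : ℕ) : ZMod p)
    (by rw [ZMod.val_natCast, Nat.mod_eq_of_lt (by have := hp.out.pos; omega)])
  rw [h, ZMod.val_natCast, Nat.mod_eq_of_lt (by have := hp.out.pos; omega), if_pos rfl] at this
  exact zero_ne_one this

omit [Fintype N] in
theorem tee_pow_eq_zero {ι : Type*} [Fintype ι] [DecidableEq ι] (S : N →* Matrix ι ι k) :
    tee Δ S ^ p = 0 := by
  rcases isEmpty_or_nonempty ι with h | h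
  · ext i; exact isEmptyElim i
  rw [tee, sub_pow_char_of_commute (Commute.one_right _) (p := p), ← map_pow, x_pow Δ, map_one, one_pow, sub_self]

omit [Fintype N] in
theorem tee_pow_card {ι : Type*} [Fintype ι] [DecidableEq ι] (S : N →* Matrix ι ι k) :
    tee Δ S ^ Fintype.card ι = 0 := by
  have h : IsNilpotent (tee Δ S) := ⟨p, tee_pow_eq_zero Δ S⟩
  have h1 : (tee Δ S).charpoly = Polynomial.X ^ Fintype.card ι :=
    sub_eq_zero.1 (isNilpotent_iff_eq_zero.1 (Matrix.isNilpotent_charpoly_sub_pow_of_isNilpotent h))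
  simpa [h1] using Matrix.aeval_self_charpoly (tee Δ S)

variable [IsAlgClosed k] (hcomm : ∀ a b : Δ.A, a * b = b * a)

include hcomm in
/-- A module of dimension `n` on which `x - 1` is regular nilpotent is a chain. -/
theorem exists_chain {ι : Type*} [Fintype ι] [DecidableEq ι] {n : ℕ} (S : N →* Matrix ι ι k)
    (hn : Fintype.card ι = n) (hne : tee Δ S ^ (n - 1) ≠ 0) (hn0 : 0 < n) :
    ∃ β v, IsChains Δ S (fun _ : Unit => n) (fun _ => β) v := by
  have hcard : tee Δ S ^ n = 0 := hn ▸ tee_pow_card Δ S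
  obtain ⟨v, β, hv, hv0⟩ := exists_top hcomm (L := n - 1) (by rw [Nat.sub_add_cancel hn0]; exact hcard) hne
  refine ⟨β, fun _ => v, ⟨fun _ => hv, fun _ => by rw [hcard, zero_mulVec],
    indep_of_socle (K := Unit) (L := fun _ => n) (v := fun _ => v) (T := tee Δ S)
      (fun _ => by rw [hcard, zero_mulVec]) (linearIndependent_unique_iff.2 hv0), by simp [hn]⟩⟩

include hcomm in
/-- A chain of length `d` is a quotient of a projective with kernel a chain of length `p - d`. -/
theorem exists_cover {ι : Type*} [Fintype ι] [DecidableEq ι] {S : N →* Matrix ι ι k} {d : ℕ} (hd : 0 < d)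
    (hdp : d < p) {β : Δ.A →* k} {v : Unit → ι → k} (h : IsChains Δ S (fun _ : Unit => d) (fun _ => β) v) :
    ∃ (K : N →* Matrix (Fin (p - d)) (Fin (p - d)) k) (β' : Δ.A →* k) (v' : Unit → Fin (p - d) → k)
      (i : Matrix (ZMod p) (Fin (p - d)) k) (p' : Matrix ι (ZMod p) k) (r : Matrix (Fin (p - d)) (ZMod p) k)
      (s : Matrix (ZMod p) ι k),
      IsSeq K (regular Δ β) S i p' r s ∧ IsChains Δ K (fun _ : Unit => p - d) (fun _ => β') v' := by
  set w := v () with hw
  let p' : Matrix ι (ZMod p) k := fun s j => (S (Δ.x ^ j.val) *ᵥ w) s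
  have hp' : ∀ u : ZMod p → k, p' *ᵥ u = ∑ j, u j • (S (Δ.x ^ j.val) *ᵥ w) := fun u => by
    ext s; simp [p', mulVec, dotProduct, Finset.sum_apply, mul_comm]
  have hxpow : ∀ m : ℕ, S (Δ.x ^ m) = S (Δ.x ^ ((m : ZMod p)).val) := fun m => by
    rw [ZMod.val_natCast]
    conv_lhs => rw [← Nat.mod_add_div m p, pow_add, pow_mul, x_pow Δ, one_pow, mul_one]
  have heq : IsEq (regular Δ β) S p' := by
    intro n
    obtain ⟨⟨h0, a⟩, rfl⟩ := (parts Δ).surjective n
    show S (Δ.x ^ h0.val * (a : N)) * p' = p' * regular Δ β (Δ.x ^ h0.val * (a : N))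
    refine Matrix.toLin'.injective (LinearMap.ext fun u => ?_)
    simp only [Matrix.toLin'_apply, ← mulVec_mulVec, hp', regular_apply, mulVec_sum, mulVec_smul]
    refine Fintype.sum_equiv ((Equiv.mulLeft₀ _ (Δ.ε a).ne_zero).trans (Equiv.addRight h0)) _ _ fun j => ?_
    simp only [Equiv.trans_apply, Equiv.mulLeft₀_apply, Equiv.coe_addRight, add_sub_cancel_right, Units.inv_mul_cancel_left]
    have e : S (Δ.x ^ h0.val * (a : N)) *ᵥ (S (Δ.x ^ j.val) *ᵥ w)
        = β a • (S (Δ.x ^ (((Δ.ε a : (ZMod p)ˣ) : ZMod p) * j + h0).val) *ᵥ w) := by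
      have e1 : Δ.x ^ h0.val * (a : N) * Δ.x ^ j.val
          = Δ.x ^ (h0.val + ((Δ.ε a : (ZMod p)ˣ) : ZMod p).val * j.val) * (a : N) := by
        rw [pow_add, pow_mul, ← Δ.conj, _root_.conj_pow]; group
      rw [mulVec_mulVec, ← map_mul, e1, map_mul, ← mulVec_mulVec, h.eig, mulVec_smul, hxpow]
      congr 4
      push_cast
      simp only [ZMod.natCast_val, ZMod.cast_id]
      ring
    rw [e, smul_smul, mul_comm]
  -- surjectivity
  have hsurj : Function.Surjective p'.mulVecLin := by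
    rw [← LinearMap.range_eq_top]
    refine eq_top_iff.2 ?_
    have hspan := h.indep.span_eq_top_of_card_eq_finrank' (by simp [Module.finrank_pi, ← h.card])
    rw [← hspan, Submodule.span_le]
    rintro _ ⟨⟨c, j⟩, rfl⟩
    show tee Δ S ^ (j : ℕ) *ᵥ v c ∈ _
    rw [show c = () from rfl, ← hw]
    generalize (j : ℕ) = m
    induction m with
    | zero =>
      refine ⟨Pi.single 0 1, ?_⟩
      rw [Matrix.mulVecLin_apply, hp', Finset.sum_eq_single 0 (fun b _ hb => by simp [hb])
        (fun hn => absurd (Finset.mem_univ _) hn)]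
      simp
    | succ m ih =>
      obtain ⟨u, hu⟩ := ih
      refine ⟨tee Δ (regular Δ β) *ᵥ u, ?_⟩
      rw [Matrix.mulVecLin_apply] at hu ⊢
      rw [pow_succ', ← mulVec_mulVec, ← hu, mulVec_mulVec, mulVec_mulVec]
      congr 1
      rw [tee, tee, Matrix.mul_sub, Matrix.mul_one, ← heq, Matrix.sub_mul, Matrix.one_mul]
  obtain ⟨sl, hsl⟩ := p'.mulVecLin.exists_rightInverse_of_surjective (LinearMap.range_eq_top.2 hsurj)
  set s := LinearMap.toMatrix' sl
  have hps : p' * s = 1 := Matrix.toLin'.injective (by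
    rw [Matrix.toLin'_mul, Matrix.toLin'_toMatrix', Matrix.toLin'_one]; exact hsl)
  haveI : IsLocalRing k := inferInstance
  have hidem : IsIdempotentElem (1 - s * p') := by
    refine IsIdempotentElem.one_sub ?_
    show s * p' * (s * p') = _
    rw [Matrix.mul_assoc, ← Matrix.mul_assoc p', hps, Matrix.one_mul]
  obtain ⟨m, i, r, hri, hir⟩ := Lattice.exists_split hidem
  have hzero : p' * i = 0 := by
    rw [← Matrix.mul_one (p' * i), ← hri, ← Matrix.mul_assoc, Matrix.mul_assoc p' i r, hir, Matrix.mul_sub,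
      Matrix.mul_one, ← Matrix.mul_assoc, hps, Matrix.one_mul, sub_self, Matrix.zero_mul]
  have hm : m = p - d := by
    have hker : LinearMap.ker p'.mulVecLin = LinearMap.range i.mulVecLin := by
      refine le_antisymm ?_ ?_
      · intro u hu
        refine ⟨r *ᵥ u, ?_⟩
        rw [LinearMap.mem_ker, Matrix.mulVecLin_apply] at hu
        rw [Matrix.mulVecLin_apply, mulVec_mulVec, hir, sub_mulVec, one_mulVec, ← mulVec_mulVec, hu, mulVec_zero, sub_zero]
      · rintro _ ⟨u, rfl⟩
        simp [mulVec_mulVec, hzero]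
    have hli : Function.Injective i.mulVecLin := Function.LeftInverse.injective (g := r.mulVecLin) fun u => by
      simp [mulVec_mulVec, hri]
    have := p'.mulVecLin.finrank_range_add_finrank_ker
    rw [LinearMap.range_eq_top.2 hsurj, finrank_top, hker, LinearMap.finrank_range_of_inj hli] at this
    simp only [Module.finrank_fin_fun, Module.finrank_pi, ZMod.card, ← h.card] at this
    simp at this
    omega
  subst hm
  have hinv : ∀ n, regular Δ β n * i = i * (r * regular Δ β n * i) := fun n => by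
    rw [Matrix.mul_assoc r, ← Matrix.mul_assoc i, hir, Matrix.sub_mul, Matrix.one_mul, Matrix.mul_assoc s,
      ← Matrix.mul_assoc p', ← heq, Matrix.mul_assoc (S n), hzero, Matrix.mul_zero, Matrix.mul_zero, sub_zero]
  let K : N →* Matrix (Fin (p - d)) (Fin (p - d)) k :=
    { toFun := fun n => r * regular Δ β n * i
      map_one' := by rw [map_one, Matrix.mul_one, hri]
      map_mul' := fun n n' => by
        rw [map_mul, Matrix.mul_assoc r, Matrix.mul_assoc (regular Δ β n), hinv n', ← Matrix.mul_assoc (regular Δ β n),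
          ← Matrix.mul_assoc r, ← Matrix.mul_assoc r] }
  have hiK : IsEq K (regular Δ β) i := hinv
  have hseq : IsSeq K (regular Δ β) S i p' r s := ⟨hiK, heq, hzero, hri, hps, by rw [hir, sub_add_cancel]⟩
  have hpow : ∀ j, tee Δ (regular Δ β) ^ j * i = i * tee Δ K ^ j := fun j => by
    induction j with
    | zero => simp
    | succ j ih =>
      rw [pow_succ', Matrix.mul_assoc, ih, ← Matrix.mul_assoc, pow_succ', ← Matrix.mul_assoc i, tee, tee,
        Matrix.sub_mul, hiK, Matrix.one_mul, Matrix.mul_sub, Matrix.mul_one]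
  have hpowp : ∀ j, p' * tee Δ (regular Δ β) ^ j = tee Δ S ^ j * p' := fun j => by
    induction j with
    | zero => simp
    | succ j ih =>
      rw [pow_succ, ← Matrix.mul_assoc, ih, Matrix.mul_assoc, pow_succ, Matrix.mul_assoc (tee Δ S ^ j), tee, tee,
        Matrix.mul_sub, Matrix.mul_one, ← heq, Matrix.sub_mul, Matrix.one_mul]
  have hne : tee Δ K ^ (p - d - 1) ≠ 0 := by
    intro h0
    set e0 : ZMod p → k := Pi.single 0 1
    set T := tee Δ (regular Δ β)
    have h1 : p' *ᵥ (T ^ d *ᵥ e0) = 0 := by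
      rw [mulVec_mulVec, hpowp, ← mulVec_mulVec, hp', Finset.sum_eq_single 0 (fun b _ hb => by simp [e0, hb])
        (fun hn => absurd (Finset.mem_univ _) hn)]
      simp only [e0, Pi.single_eq_same, one_smul, ZMod.val_zero, pow_zero, map_one, one_mulVec]
      exact h.kill ()
    have h2 : T ^ d *ᵥ e0 = i *ᵥ (r *ᵥ (T ^ d *ᵥ e0)) := by
      rw [mulVec_mulVec (T ^ d *ᵥ e0), hir, sub_mulVec, one_mulVec, ← mulVec_mulVec (T ^ d *ᵥ e0), h1, mulVec_zero,
        sub_zero]
    have h3 : T ^ (p - 1) *ᵥ e0 = 0 := by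
      rw [show p - 1 = (p - d - 1) + d by omega, pow_add, ← mulVec_mulVec, h2, mulVec_mulVec, hpow, h0,
        Matrix.mul_zero, zero_mulVec]
    exact regular_socle Δ β h3
  obtain ⟨β', v', hK⟩ := exists_chain Δ hcomm K (n := p - d) (Fintype.card_fin _) hne (by omega)
  exact ⟨K, β', v', i, p', r, s, hseq, hK⟩

include hcomm in
/-- The tensor product of two chains of length `d` is stably that of two chains of length `p - d`. -/
theorem tensor_stEq {ι κ : Type*} [Fintype ι] [DecidableEq ι] [Fintype κ] [DecidableEq κ]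
    {S₁ : N →* Matrix ι ι k} {S₂ : N →* Matrix κ κ k} {d : ℕ} (hd : 0 < d) (hdp : d < p)
    {β₁ β₂ : Δ.A →* k} {v₁ : Unit → ι → k} {v₂ : Unit → κ → k}
    (h₁ : IsChains Δ S₁ (fun _ : Unit => d) (fun _ => β₁) v₁)
    (h₂ : IsChains Δ S₂ (fun _ : Unit => d) (fun _ => β₂) v₂) :
    ∃ (E₁ E₂ : N →* Matrix (Fin (p - d)) (Fin (p - d)) k) (γ₁ γ₂ : Δ.A →* k) (u₁ u₂ : Unit → Fin (p - d) → k),
      IsChains Δ E₁ (fun _ : Unit => p - d) (fun _ => γ₁) u₁ ∧ IsChains Δ E₂ (fun _ : Unit => p - d) (fun _ => γ₂) u₂ ∧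
      StEq (kronRep S₁ S₂) (kronRep E₁ E₂) := by
  obtain ⟨E₂, γ₂, u₂, i, p', r, s, hseq, hE₂⟩ := exists_cover Δ hcomm hd hdp h₂
  have hpowd : ∀ (T : N →* Matrix ι ι k) (j : ℕ), tee Δ (dualRep T) ^ j = 0 ↔ tee Δ T ^ j = 0 := by
    intro T j
    have e : tee Δ (dualRep T) = (-(T Δ.x⁻¹) * tee Δ T)ᵀ := by
      rw [tee, tee, dualRep_apply, Matrix.neg_mul, Matrix.mul_sub, inv_mul_eq_one', Matrix.mul_one, neg_sub,
        Matrix.transpose_sub, Matrix.transpose_one]
    have hc : Commute (-(T Δ.x⁻¹)) (tee Δ T) := by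
      refine Commute.neg_left ((Commute.sub_right ?_ (Commute.one_right _)))
      show _ * _ = _ * _
      rw [inv_mul_eq_one', Stable.mul_inv_eq_one]
    rw [e, ← Matrix.transpose_pow, Matrix.transpose_eq_zero, hc.mul_pow]
    refine IsUnit.mul_right_eq_zero (IsUnit.pow _ (IsUnit.neg ⟨⟨T Δ.x⁻¹, T Δ.x, inv_mul_eq_one' _,
      Stable.mul_inv_eq_one _⟩, rfl⟩))
  have hne : tee Δ (dualRep S₁) ^ (d - 1) ≠ 0 := fun h0 => by
    have h := h₁.indep.ne_zero ⟨(), ⟨d - 1, by omega⟩⟩
    exact h (by simp [(hpowd S₁ _).1 h0])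
  obtain ⟨β', v', hdual⟩ := exists_chain Δ hcomm (dualRep S₁) (n := d)
    (by rw [← h₁.card]; simp) hne hd
  obtain ⟨K, γ', u', i₁, p₁, r₁, s₁, hseq₁, hK⟩ := exists_cover Δ hcomm hd hdp hdual
  have hseq₁' := hseq₁.dual
  rw [dual_dual] at hseq₁'
  have hne₂ : tee Δ (dualRep K) ^ (p - d - 1) ≠ 0 := fun h0 => by
    have e : tee Δ (dualRep K) = (-(K Δ.x⁻¹) * tee Δ K)ᵀ := by
      rw [tee, tee, dualRep_apply, Matrix.neg_mul, Matrix.mul_sub, inv_mul_eq_one', Matrix.mul_one, neg_sub,
        Matrix.transpose_sub, Matrix.transpose_one]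
    have hc : Commute (-(K Δ.x⁻¹)) (tee Δ K) := by
      refine Commute.neg_left ((Commute.sub_right ?_ (Commute.one_right _)))
      show _ * _ = _ * _
      rw [inv_mul_eq_one', Stable.mul_inv_eq_one]
    rw [e, ← Matrix.transpose_pow, Matrix.transpose_eq_zero, hc.mul_pow] at h0
    have h := hK.indep.ne_zero ⟨(), ⟨p - d - 1, by omega⟩⟩
    have h1 := (IsUnit.mul_right_eq_zero (IsUnit.pow (p - d - 1) (IsUnit.neg
      ⟨⟨K Δ.x⁻¹, K Δ.x, inv_mul_eq_one' _, Stable.mul_inv_eq_one _⟩, rfl⟩))).1 h0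
    exact h (by simp [h1])
  obtain ⟨γ₁, u₁, hE₁⟩ := exists_chain Δ hcomm (dualRep K) (n := p - d) (Fintype.card_fin _) hne₂ (by omega)
  refine ⟨dualRep K, E₂, γ₁, γ₂, u₁, u₂, hE₁, hE₂, ?_⟩
  exact (hseq.kron_left S₁).stEq (InI.one_kron' S₁ (regular_projective Δ β₂)) (hseq₁'.kron_right E₂)
    (InI.one_kron (InI.one_dual (regular_projective Δ β')) E₂)

end Regular

end CfsgLib.Char.FeitDegree.Omega
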