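import Cfsg.Agent.Lib.Char.FeitDegree.Chains
import Cfsg.Agent.Lib.Char.FeitDegree.Omega

/-!
# Lowering matrices of a unipotent element

For the nilpotent part `T` of an element of order `p` with short Jordan blocks there is a matrix `g`
with `[T, [T, g]] = -2 T`, and a single block gives one that pairs nontrivially with `T` only.
-/

set_option autoImplicit false

open scoped Classical

namespace CfsgLib.Char.FeitDegree.Lowering

open Matrix Stable Chains

variable {k : Type*} [Field k]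

/-- The commutator with `T`. -/
def br {ι : Type*} [Fintype ι] (T M : Matrix ι ι k) : Matrix ι ι k := T * M - M * T

theorem br_transfer {ι κ : Type*} [Fintype ι] [Fintype κ] {T : Matrix ι ι k} {T' : Matrix κ κ k}
    {i : Matrix ι κ k} {r : Matrix κ ι k} (hi : T * i = i * T') (hr : r * T = T' * r) (u : Matrix κ κ k) :
    br T (i * u * r) = i * br T' u * r := by
  simp only [br, Matrix.mul_sub, Matrix.sub_mul, Matrix.mul_assoc, hr]
  simp only [← Matrix.mul_assoc, hi]

theorem br_zero {ι : Type*} [Fintype ι] (T : Matrix ι ι k) : br T 0 = 0 := by simp [br]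

theorem br_add {ι : Type*} [Fintype ι] (T M M' : Matrix ι ι k) : br T (M + M') = br T M + br T M' := by
  simp only [br, Matrix.mul_add, Matrix.add_mul]
  abel

theorem br_smul_self {ι : Type*} [Fintype ι] (T : Matrix ι ι k) (c : k) : br T (c • T) = 0 := by
  simp [br]

variable (k) in
/-- The shift. -/
def J (L : ℕ) : Matrix (Fin L) (Fin L) k := fun a b => if (a : ℕ) = b + 1 then 1 else 0

variable (k) in
/-- The lowering matrix. -/
def F (L : ℕ) : Matrix (Fin L) (Fin L) k := fun a b =>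
  if (b : ℕ) = a + 1 then (b : k) * ((L : k) - b) else 0

theorem J_mul {L : ℕ} (u : Matrix (Fin L) (Fin L) k) (a b : Fin L) :
    (J k L * u : Matrix (Fin L) (Fin L) k) a b = if h : 0 < (a : ℕ) then u ⟨a - 1, by omega⟩ b else 0 := by
  rw [Matrix.mul_apply]
  split_ifs with h
  · rw [Finset.sum_eq_single (⟨a - 1, by omega⟩ : Fin L) (fun c _ hc => by
      rw [J, if_neg fun e => hc (Fin.ext (show (c : ℕ) = a - 1 by omega)), zero_mul])
      (fun hn => absurd (Finset.mem_univ _) hn), J, if_pos (show (a : ℕ) = (a : ℕ) - 1 + 1 by omega), one_mul]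
  · exact Finset.sum_eq_zero fun c _ => by rw [J, if_neg (by omega), zero_mul]

theorem mul_J {L : ℕ} (u : Matrix (Fin L) (Fin L) k) (a b : Fin L) :
    (u * J k L : Matrix (Fin L) (Fin L) k) a b = if h : (b : ℕ) + 1 < L then u a ⟨b + 1, h⟩ else 0 := by
  rw [Matrix.mul_apply]
  split_ifs with h
  · rw [Finset.sum_eq_single (⟨(b : ℕ) + 1, h⟩ : Fin L) (fun c _ hc => by
      rw [J, if_neg fun e => hc (Fin.ext e), mul_zero]) (fun hn => absurd (Finset.mem_univ _) hn), J,
      if_pos rfl, mul_one]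
  · exact Finset.sum_eq_zero fun c _ => by rw [J, if_neg (by have := c.isLt; omega), mul_zero]

theorem br_F (L : ℕ) : br (J k L : Matrix (Fin L) (Fin L) k) (F k L)
    = Matrix.diagonal fun a : Fin L => (2 * (a : ℕ) + 1 : k) - L := by
  ext a b
  rw [br, Matrix.sub_apply, J_mul, mul_J, Matrix.diagonal_apply]
  have := a.isLt
  have := b.isLt
  by_cases hab : a = b
  · subst hab
    rw [if_pos rfl]
    simp only [F]
    rcases Nat.eq_zero_or_pos (a : ℕ) with h0 | h0
    · rw [dif_neg (by omega)]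
      by_cases h1 : (a : ℕ) + 1 < L
      · rw [dif_pos h1, if_pos trivial, h0]
        push_cast
        ring
      · rw [dif_neg h1, h0, show L = 1 by omega]
        push_cast
        ring
    · rw [dif_pos h0, if_pos (by omega)]
      by_cases h1 : (a : ℕ) + 1 < L
      · rw [dif_pos h1, if_pos trivial]
        push_cast
        ring
      · rw [dif_neg h1, show (L : k) = (((a : ℕ) + 1 : ℕ) : k) from congrArg Nat.cast (by omega)]
        push_cast
        ring
  · rw [if_neg hab]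
    have hne : (a : ℕ) ≠ b := fun e => hab (Fin.ext e)
    simp only [F]
    split_ifs <;> first | omega | simp

theorem br2_F (L : ℕ) :
    br (J k L : Matrix (Fin L) (Fin L) k) (br (J k L) (F k L)) = (-2 : k) • J k L := by
  rw [br_F, br]
  ext a b
  rw [Matrix.sub_apply, Matrix.mul_diagonal, Matrix.diagonal_mul, Matrix.smul_apply, smul_eq_mul, J]
  split_ifs with h
  · rw [h, Nat.cast_add, Nat.cast_one]
    ring
  · ring

theorem J_pow {L : ℕ} : ∀ (m : ℕ) (a b : Fin L), (J k L ^ m : Matrix (Fin L) (Fin L) k) a b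
    = if (a : ℕ) = b + m then 1 else 0
  | 0, a, b => by simp [Matrix.one_apply, Fin.ext_iff]
  | m + 1, a, b => by
    rw [pow_succ', J_mul]
    split_ifs with h h' h'
    · rw [J_pow m, if_pos (by simp only; omega)]
    · rw [J_pow m, if_neg (by simp only; omega)]
    · omega
    · rfl

theorem trace_pow_F {L m : ℕ} :
    (J k L ^ m * F k L : Matrix (Fin L) (Fin L) k).trace
      = if m = 1 then ∑ a ∈ Finset.range L, (a : k) * ((L : k) - a) else 0 := by
  rw [Matrix.trace]
  split_ifs with h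
  · subst h
    rw [← Fin.sum_univ_eq_sum_range (fun a => (a : k) * ((L : k) - a))]
    refine Finset.sum_congr rfl fun a _ => ?_
    rw [Matrix.diag, pow_one, J_mul]
    split_ifs with h0
    · rw [F, if_pos (by simp only; omega)]
    · rw [show (a : ℕ) = 0 by omega]; simp
  · refine Finset.sum_eq_zero fun a _ => ?_
    rw [Matrix.diag, Matrix.mul_apply]
    refine Finset.sum_eq_zero fun c _ => ?_
    rw [J_pow, F]
    split_ifs <;> first | omega | simp

theorem six_mul_sum (K n : ℕ) : (6 : k) * ∑ a ∈ Finset.range n, (a : k) * ((K : k) - a)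
    = 3 * K * n * ((n : k) - 1) - n * ((n : k) - 1) * (2 * n - 1) := by
  induction n with
  | zero => simp
  | succ n ih =>
    rw [Finset.sum_range_succ, mul_add, ih]
    push_cast
    ring

variable {p : ℕ} [hp : Fact p.Prime] [CharP k p]

theorem sum_ne_zero {L : ℕ} (hL : 2 ≤ L) (hLp : L + 1 < p) :
    ∑ a ∈ Finset.range L, (a : k) * ((L : k) - a) ≠ 0 := by
  intro h
  have h6 := six_mul_sum (k := k) L L
  rw [h, mul_zero] at h6
  have hne : ∀ m : ℕ, 0 < m → m < p → (m : k) ≠ 0 := fun m h0 h1 e =>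
    absurd (Nat.le_of_dvd h0 ((CharP.cast_eq_zero_iff k p m).1 e)) (by omega)
  have h2 : ((L : k)) * ((L - 1 : ℕ) : k) * ((L + 1 : ℕ) : k) = 0 := by
    rw [Nat.cast_sub (by omega)]
    push_cast
    linear_combination -h6
  simp only [mul_eq_zero] at h2
  rcases h2 with (h2 | h2) | h2
  · exact hne L (by omega) (by omega) h2
  · exact hne (L - 1) (by omega) (by omega) h2
  · exact hne (L + 1) (by omega) (by omega) h2

/-- What a single block and the sum of all blocks give. -/
def HasLowering {ι : Type*} [Fintype ι] [DecidableEq ι] (T : Matrix ι ι k) : Prop :=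
  (∃ g, br T (br T g) = (-2 : k) • T) ∧
    (T ≠ 0 → ∃ gb, br T (br T (br T gb)) = 0 ∧ (T * gb).trace ≠ 0 ∧ ∀ m, 2 ≤ m → (T ^ m * gb).trace = 0)

/-- The matrix whose columns are the iterates. -/
def cols {L : ℕ} (T : Matrix (Fin L) (Fin L) k) (v : Fin L → k) : Matrix (Fin L) (Fin L) k := fun a j =>
  (T ^ (j : ℕ) *ᵥ v) a

variable {N : Type*} [Group N] [Fintype N] (Δ : Semi p N) [IsAlgClosed k]

set_option maxHeartbeats 800000 in
/-- Existence, by splitting off a longest chain. -/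
theorem exists_lowering (hcomm : ∀ a b : Δ.A, a * b = b * a) :
    ∀ (n : ℕ) (U : N →* Matrix (Fin n) (Fin n) k), tee Δ U ^ (p - 2) = 0 → HasLowering (tee Δ U) := by
  intro n
  induction n using Nat.strong_induction_on with
  | _ n ih =>
  intro U hU
  by_cases hT0 : tee Δ U = 0
  · exact ⟨⟨0, by rw [hT0]; simp [br]⟩, fun h => absurd hT0 h⟩
  set T := tee Δ U with hTdef
  have hex : ∃ L, T ^ (L + 1) = 0 := ⟨p - 2, by rw [pow_succ, hU, Matrix.zero_mul]⟩
  set L := Nat.find hex with hL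
  have hLspec : T ^ (L + 1) = 0 := Nat.find_spec hex
  have hL1 : 1 ≤ L := by
    by_contra h
    rw [show L = 0 by omega, zero_add, pow_one] at hLspec
    exact hT0 hLspec
  have hLne : T ^ L ≠ 0 := fun h =>
    Nat.find_min hex (m := L - 1) (by omega) (by rwa [Nat.sub_add_cancel hL1])
  have hLp : L + 1 ≤ p - 2 := by
    by_contra h
    exact hLne (pow_eq_zero_of_le (by omega) hU)
  obtain ⟨v, β, hv, hv0⟩ := exists_top hcomm hLspec hLne
  obtain ⟨c, hc⟩ := Function.ne_iff.1 hv0
  obtain ⟨V, i₀, r₀, v₀, hi₀, hr₀, hri₀, -, hV⟩ := exists_chain_summand hv (L := L + 1)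
    (by rw [← hTdef, hLspec, zero_mulVec]) (LinearMap.proj c)
    (fun u => by rw [← hTdef, hLspec, zero_mulVec, map_zero]) (by rw [Nat.add_sub_cancel]; exact hc)
  -- the standard basis
  set Q := cols (tee Δ V) v₀
  have hQu : IsUnit Q := by
    rw [← Matrix.linearIndependent_cols_iff_isUnit]
    exact hV.indep.comp (fun j => ⟨(), j⟩) fun a b h => eq_of_heq (Sigma.mk.inj h).2
  obtain ⟨Qi, hQi1, hQi2⟩ : ∃ Qi : Matrix (Fin (L + 1)) (Fin (L + 1)) k, Q * Qi = 1 ∧ Qi * Q = 1 :=
    ⟨↑hQu.unit⁻¹, hQu.mul_val_inv, hQu.val_inv_mul⟩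
  have hQJ : tee Δ V * Q = Q * J k (L + 1) := by
    ext a b
    rw [mul_J]
    have e : (tee Δ V * Q) a b = (tee Δ V ^ ((b : ℕ) + 1) *ᵥ v₀) a := by
      rw [pow_succ', ← mulVec_mulVec, Matrix.mul_apply]
      rfl
    rw [e]
    split_ifs with h
    · rfl
    · rw [show (b : ℕ) + 1 = L + 1 by have := b.isLt; omega, hV.kill ()]
      rfl
  set i : Matrix (Fin n) (Fin (L + 1)) k := i₀ * Q with hidef
  set r : Matrix (Fin (L + 1)) (Fin n) k := Qi * r₀ with hrdef
  have hti : T * i = i * J k (L + 1) := by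
    have e1 : T * i₀ = i₀ * tee Δ V := by
      rw [hTdef, tee, tee, Matrix.sub_mul, Matrix.mul_sub, hi₀ Δ.x, Matrix.one_mul, Matrix.mul_one]
    rw [hidef, ← Matrix.mul_assoc, e1, Matrix.mul_assoc, hQJ, Matrix.mul_assoc]
  have hrt : r * T = J k (L + 1) * r := by
    have e1 : r₀ * T = tee Δ V * r₀ := by
      rw [hTdef, tee, tee, Matrix.mul_sub, Matrix.sub_mul, Matrix.mul_one, Matrix.one_mul, hr₀ Δ.x]
    have e2 : Qi * tee Δ V = J k (L + 1) * Qi := by
      calc Qi * tee Δ V = Qi * (tee Δ V * Q) * Qi := by simp only [Matrix.mul_assoc, hQi1, Matrix.mul_one]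
        _ = J k (L + 1) * Qi := by rw [hQJ, ← Matrix.mul_assoc, hQi2, Matrix.one_mul]
    rw [hrdef, Matrix.mul_assoc, e1, ← Matrix.mul_assoc, e2, Matrix.mul_assoc]
  have hri : r * i = 1 := by
    rw [hrdef, hidef, Matrix.mul_assoc, ← Matrix.mul_assoc r₀, hri₀, Matrix.one_mul, hQi2]
  -- the complement
  set E := i₀ * r₀
  have hEid : IsIdempotentElem E := by
    show i₀ * r₀ * (i₀ * r₀) = i₀ * r₀
    rw [Matrix.mul_assoc, ← Matrix.mul_assoc r₀, hri₀, Matrix.one_mul]
  have hEeq : IsEq U U E := hi₀.comp hr₀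
  obtain ⟨m, i₂, r₂, hri₂, hir₂⟩ := Lattice.exists_split (R := k) hEid.one_sub
  have hE2 : IsEq U U (i₂ * r₂) := hir₂.symm ▸ IsEq.one.sub hEeq
  set U₂ := Lattice.corner U i₂ r₂ hri₂ hE2
  obtain ⟨hI, hR⟩ := Lattice.isEq_corner hri₂ hE2
  have hti₂ : T * i₂ = i₂ * tee Δ U₂ := by
    rw [hTdef, tee, tee, Matrix.sub_mul, Matrix.mul_sub, Matrix.one_mul, Matrix.mul_one, hI Δ.x]
  have hrt₂ : r₂ * T = tee Δ U₂ * r₂ := by
    rw [hTdef, tee, tee, Matrix.mul_sub, Matrix.sub_mul, Matrix.one_mul, Matrix.mul_one, hR Δ.x]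
  have hU₂ : tee Δ U₂ ^ (p - 2) = 0 := by
    have e : ∀ j, T ^ j * i₂ = i₂ * tee Δ U₂ ^ j := fun j => by
      induction j with
      | zero => simp
      | succ j ih => rw [pow_succ, Matrix.mul_assoc, hti₂, ← Matrix.mul_assoc, ih, Matrix.mul_assoc, ← pow_succ]
    calc tee Δ U₂ ^ (p - 2) = r₂ * (i₂ * tee Δ U₂ ^ (p - 2)) := by rw [← Matrix.mul_assoc, hri₂, Matrix.one_mul]
      _ = 0 := by rw [← e, hU, Matrix.zero_mul, Matrix.mul_zero]
  have hm : m < n := by
    have hsum : (i₀ * r₀).trace + (i₂ * r₂).trace = (n : k) := by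
      rw [hir₂, ← Matrix.trace_add, add_sub_cancel, Matrix.trace_one, Fintype.card_fin]
    by_contra hle
    have hinj : Function.Injective (i₂ *ᵥ ·) := fun u u' h => by
      have := congrArg (r₂ *ᵥ ·) h
      simpa [mulVec_mulVec, hri₂] using this
    have hsurj : ∀ u, ∃ w, i₂ *ᵥ w = u := by
      have hc := LinearMap.finrank_le_finrank_of_injective (f := i₂.mulVecLin) hinj
      rw [Module.finrank_fintype_fun_eq_card, Module.finrank_fintype_fun_eq_card, Fintype.card_fin,
        Fintype.card_fin] at hc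
      exact LinearMap.injective_iff_surjective_of_finrank_eq_finrank
        (f := i₂.mulVecLin) (by simp; omega) |>.1 hinj
    obtain ⟨w, hw⟩ := hsurj (i₀ *ᵥ v₀)
    have h1 : (1 - E) *ᵥ (i₀ *ᵥ v₀) = i₀ *ᵥ v₀ := by
      rw [← hir₂, ← hw, ← mulVec_mulVec, mulVec_mulVec w r₂ i₂, hri₂, one_mulVec]
    rw [sub_mulVec, one_mulVec, ← mulVec_mulVec, mulVec_mulVec v₀ r₀ i₀, hri₀, one_mulVec, sub_self] at h1
    have h2 := congrArg (r₀ *ᵥ ·) h1
    simp only [mulVec_zero, mulVec_mulVec, hri₀, one_mulVec] at h2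
    exact hV.indep.ne_zero ⟨(), 0⟩ (by simpa using h2.symm)
  obtain ⟨⟨g₂, hg₂⟩, -⟩ := ih m hm U₂ hU₂
  have hir : i * r = E := by
    rw [hidef, hrdef, Matrix.mul_assoc, ← Matrix.mul_assoc Q, hQi1, Matrix.one_mul]
  refine ⟨⟨i * F k (L + 1) * r + i₂ * g₂ * r₂, ?_⟩, fun _ => ⟨i * F k (L + 1) * r, ?_, ?_, fun q hq => ?_⟩⟩
  · rw [br_add, br_transfer hti hrt, br_transfer hti₂ hrt₂, br_add, br_transfer hti hrt, br_transfer hti₂ hrt₂,
      br2_F, hg₂]
    simp only [Matrix.mul_smul, Matrix.smul_mul, ← smul_add]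
    congr 1
    rw [← hti, ← hti₂, Matrix.mul_assoc, Matrix.mul_assoc T i₂, ← Matrix.mul_add, hir, hir₂, add_sub_cancel,
      Matrix.mul_one]
  · rw [br_transfer hti hrt, br_transfer hti hrt, br_transfer hti hrt, br2_F, br_smul_self, Matrix.mul_zero,
      Matrix.zero_mul]
  · have e : (T * (i * F k (L + 1) * r)).trace = (J k (L + 1) ^ 1 * F k (L + 1) : Matrix _ _ k).trace := by
      rw [pow_one, Matrix.trace_mul_comm, Matrix.mul_assoc, hrt, Matrix.trace_mul_cycle]
      simp only [Matrix.mul_assoc, ← Matrix.mul_assoc r, hri, Matrix.one_mul]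
    rw [e, trace_pow_F, if_pos rfl]
    exact sum_ne_zero (by omega) (by omega)
  · have hpow : ∀ j, T ^ j * i = i * J k (L + 1) ^ j := fun j => by
      induction j with
      | zero => simp
      | succ j ih => rw [pow_succ, Matrix.mul_assoc, hti, ← Matrix.mul_assoc, ih, Matrix.mul_assoc, ← pow_succ]
    have e : (T ^ q * (i * F k (L + 1) * r)).trace = (J k (L + 1) ^ q * F k (L + 1) : Matrix _ _ k).trace := by
      rw [Matrix.mul_assoc i, ← Matrix.mul_assoc (T ^ q) i, hpow, Matrix.trace_mul_comm,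
        Matrix.mul_assoc (F k (L + 1)) r, ← Matrix.mul_assoc r i, hri, Matrix.one_mul, Matrix.trace_mul_comm]
    rw [e, trace_pow_F, if_neg (by omega)]

end CfsgLib.Char.FeitDegree.Lowering
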