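import Cfsg.Agent.Lib.Char.FeitDegree.Summand
import Cfsg.Agent.Lib.Char.FeitDegree.Lowering

/-!
# A three-dimensional orthogonal summand of the adjoint module

If the Jordan blocks of an element `x` of order `p` have length at most `p / 2`, the endomorphisms of
the module have a summand of dimension three on which `x` is a single block, and this summand is
self-dual with a symmetric form.
-/

set_option autoImplicit false

open scoped Classical Kronecker

namespace CfsgLib.Char.FeitDegree.Adjoint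

open Matrix Stable Chains Lowering

variable {k : Type*} [Field k]

/-! ### Vectors and matrices -/

/-- A vector on pairs as a matrix. -/
def mat {ι κ : Type*} (u : ι × κ → k) : Matrix ι κ k := fun i j => u (i, j)

/-- A matrix as a vector on pairs. -/
def vec {ι κ : Type*} (M : Matrix ι κ k) : ι × κ → k := fun w => M w.1 w.2

theorem mat_vec {ι κ : Type*} (M : Matrix ι κ k) : mat (vec M) = M := rfl

theorem mat_injective {ι κ : Type*} : Function.Injective (mat : (ι × κ → k) → Matrix ι κ k) :=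
  fun _ _ h => funext fun w => congrFun (congrFun h w.1) w.2

theorem mat_kron {ι κ : Type*} [Fintype ι] [Fintype κ] (A : Matrix ι ι k) (B : Matrix κ κ k) (u : ι × κ → k) :
    mat ((A ⊗ₖ B) *ᵥ u) = A * mat u * Bᵀ := by
  ext i j
  show ((A ⊗ₖ B) *ᵥ u) (i, j) = _
  simp only [mulVec, dotProduct, Fintype.sum_prod_type, Matrix.kroneckerMap_apply, Matrix.mul_apply,
    Matrix.transpose_apply, Finset.sum_mul, mat]
  rw [Finset.sum_comm]
  exact Finset.sum_congr rfl fun a _ => Finset.sum_congr rfl fun b _ => by ring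

/-! ### Traces of commutators -/

theorem trace_br {ι : Type*} [Fintype ι] (T M g : Matrix ι ι k) :
    (br T M * g).trace = -(M * br T g).trace := by
  simp only [br, Matrix.sub_mul, Matrix.mul_sub, Matrix.trace_sub]
  rw [Matrix.mul_assoc T M g, Matrix.trace_mul_comm T (M * g)]
  simp only [Matrix.mul_assoc]
  ring

theorem br_mul_right {ι : Type*} [Fintype ι] {T Y : Matrix ι ι k} (h : Commute T Y) (M : Matrix ι ι k) :
    br T (M * Y) = br T M * Y := by
  simp only [br, Matrix.sub_mul, Matrix.mul_assoc]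
  rw [show Y * T = T * Y from h.eq.symm]

theorem br_iterate_eq_zero {ι : Type*} [Fintype ι] [DecidableEq ι] {T : Matrix ι ι k} {L m : ℕ} (hT : T ^ L = 0)
    (hm : 2 * L ≤ m + 1) (M : Matrix ι ι k) : (br T)^[m] M = 0 := by
  set f : Module.End k (Matrix ι ι k) := LinearMap.mulLeft k T
  set g : Module.End k (Matrix ι ι k) := -LinearMap.mulRight k T
  have hfg : ⇑(f + g) = br T := by
    funext M
    simp [f, g, br, sub_eq_add_neg]
  have hc : Commute f g := Commute.neg_right
    (show Commute f (LinearMap.mulRight k T : Module.End k (Matrix ι ι k)) from LinearMap.commute_mulLeft_right T T)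
  have h0 : (f + g) ^ m = 0 := by
    rw [hc.add_pow]
    refine Finset.sum_eq_zero fun i hi => ?_
    have := Finset.mem_range.1 hi
    by_cases hL : L ≤ i
    · have : f ^ i = 0 := by
        rw [LinearMap.pow_mulLeft, pow_eq_zero_of_le hL hT]
        exact LinearMap.ext fun M => by simp
      simp [this]
    · have : g ^ (m - i) = 0 := by
        have hg' : g = LinearMap.mulRight k (-T) := LinearMap.ext fun M => by simp [g]
        rw [hg', LinearMap.pow_mulRight, neg_pow, pow_eq_zero_of_le (by omega) hT, mul_zero]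
        exact LinearMap.ext fun M => by simp
      simp [this]
  rw [← hfg, ← Module.End.coe_pow, h0]
  rfl

/-! ### Averaging over the complement -/

variable {p : ℕ} [hp : Fact p.Prime] [CharP k p] {N : Type*} [Group N] [Fintype N] (Δ : Semi p N)
  {ι : Type*} [Fintype ι] [DecidableEq ι] (U : N →* Matrix ι ι k)

/-- The average against a character. -/
noncomputable def avg (c : Δ.A →* k) (u : ι → k) : ι → k :=
  (Fintype.card Δ.A : k)⁻¹ • ∑ a : Δ.A, c a • (U (a : N) *ᵥ u)

theorem avg_eig (c : Δ.A →* k) (u : ι → k) (b : Δ.A) : U (b : N) *ᵥ avg Δ U c u = c b⁻¹ • avg Δ U c u := by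
  rw [avg, mulVec_smul, smul_comm (c b⁻¹)]
  congr 1
  rw [mulVec_sum, Finset.smul_sum]
  refine Fintype.sum_equiv (Equiv.mulLeft b) _ _ fun a => ?_
  rw [Equiv.coe_mulLeft, mulVec_smul, mulVec_mulVec, ← map_mul, smul_smul, ← map_mul, inv_mul_cancel_left,
    Subgroup.coe_mul]

/-- Conjugation on the top of a vector. -/
theorem conj_kill (a : Δ.A) {m : ℕ} {u : ι → k} (hu : tee Δ U ^ (m + 1) *ᵥ u = 0) :
    tee Δ U ^ (m + 1) *ᵥ (U (a : N) *ᵥ u) = 0 ∧
      U (a : N) *ᵥ (tee Δ U ^ m *ᵥ u)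
        = (Translation.εk Δ k a) ^ m • (tee Δ U ^ m *ᵥ (U (a : N) *ᵥ u)) := by
  obtain ⟨r, hr, he⟩ := exists_pow_sub_one (tee Δ U) ((Δ.ε a : (ZMod p)ˣ) : ZMod p).val
  set T := tee Δ U
  set s := ((Δ.ε a : (ZMod p)ˣ) : ZMod p).val
  set w : Matrix ι ι k := (s : Matrix ι ι k) + T * r
  set v := U (a : N) *ᵥ u
  have hTw : Commute T w := (s.cast_commute T).symm.add_right ((Commute.refl T).mul_right hr)
  have hconj : ∀ j, U (a : N) *ᵥ (T ^ j *ᵥ u) = T ^ j *ᵥ (w ^ j *ᵥ v) := fun j => by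
    rw [mulVec_mulVec, Chains.conj_pow, he, hTw.mul_pow, ← mulVec_mulVec, ← mulVec_mulVec]
  have hs0 : (s : k) ≠ 0 := by
    intro h
    have h1 := Nat.le_of_dvd (Nat.pos_of_ne_zero fun h0 => (Δ.ε a).ne_zero ((ZMod.val_eq_zero _).1 h0))
      ((CharP.cast_eq_zero_iff k p s).1 h)
    have := ZMod.val_lt ((Δ.ε a : (ZMod p)ˣ) : ZMod p)
    omega
  have hw : IsUnit w := by
    have hn : IsNilpotent (T * r) := hr.isNilpotent_mul_right ⟨p, Omega.tee_pow_eq_zero Δ U⟩
    refine hn.isUnit_add_left_of_commute ?_ (s.cast_commute _).symm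
    rw [← map_natCast (algebraMap k (Matrix ι ι k))]
    exact (IsUnit.mk0 _ hs0).map _
  have h1 : T ^ (m + 1) *ᵥ v = 0 := by
    have h := hconj (m + 1)
    rw [hu, mulVec_zero, mulVec_mulVec, (hTw.pow_pow _ _).eq, ← mulVec_mulVec] at h
    obtain ⟨wu, hwu⟩ := (hw.pow (m + 1))
    have h2 := congrArg ((↑wu⁻¹ : Matrix ι ι k) *ᵥ ·) h
    simp only [mulVec_zero, mulVec_mulVec] at h2
    rw [← mul_assoc, ← hwu, Units.inv_mul, one_mul] at h2
    exact h2.symm
  refine ⟨h1, ?_⟩
  rw [hconj, mulVec_mulVec, (hTw.pow_pow _ _).eq, ← mulVec_mulVec, Translation.εk_eq]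
  have hwv : w *ᵥ (T ^ m *ᵥ v) = (s : k) • (T ^ m *ᵥ v) := by
    rw [Matrix.add_mulVec, ← map_natCast (algebraMap k (Matrix ι ι k)), Algebra.algebraMap_eq_smul_one, smul_mulVec,
      one_mulVec, hr.eq, ← mulVec_mulVec _ r T, mulVec_mulVec v T (T ^ m), ← pow_succ', h1, mulVec_zero, add_zero]
  have : ∀ j, w ^ j *ᵥ (T ^ m *ᵥ v) = (s : k) ^ j • (T ^ m *ᵥ v) := fun j => by
    induction j with
    | zero => simp
    | succ j ih => rw [pow_succ', ← mulVec_mulVec, ih, mulVec_smul, hwv, smul_smul, pow_succ]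
  exact this m

omit [CharP k p] hp in
/-- The trace against a polynomial only sees the linear term. -/
theorem trace_aeval {T g : Matrix ι ι k} (hg : ∀ m, 2 ≤ m → (T ^ m * g).trace = 0) (q : Polynomial k)
    (hq : q.coeff 0 = 0) : (Polynomial.aeval T q * g).trace = q.coeff 1 * (T * g).trace := by
  rw [Polynomial.aeval_eq_sum_range' (n := q.natDegree + 2) (by omega), Finset.sum_mul, Matrix.trace_sum,
    Finset.sum_eq_single 1]
  · rw [pow_one, Matrix.smul_mul, Matrix.trace_smul, smul_eq_mul]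
  · intro b _ hb
    rcases Nat.eq_zero_or_pos b with h | h
    · subst h
      rw [hq, zero_smul, Matrix.zero_mul, Matrix.trace_zero]
    · rw [Matrix.smul_mul, Matrix.trace_smul, hg b (by omega), smul_zero]
  · exact fun h => absurd (Finset.mem_range.2 (by omega)) h

end CfsgLib.Char.FeitDegree.Adjoint

namespace CfsgLib.Char.FeitDegree.Adjoint

open Matrix Stable Chains Lowering

variable {k : Type*} [Field k] {p : ℕ} [hp : Fact p.Prime] [CharP k p] [IsAlgClosed k]
  {G : Type*} [Group G] [Fintype G] {P N : Subgroup G} [Fintype P] [Fintype N] [Fintype (G ⧸ N)]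

set_option maxHeartbeats 2000000 in
/-- The three-dimensional orthogonal representation. -/
theorem exists_form (Loc : Stable.Local k P N) (Δ : Semi p N) {n : ℕ} (S : G →* Matrix (Fin n) (Fin n) k) {L : ℕ}
    (hL : (S (Δ.x : G) - 1) ^ (L + 1) = 0) (hT : S (Δ.x : G) - 1 ≠ 0) (h2L : 2 * L + 2 ≤ p) (h5 : 5 ≤ p) :
    ∃ (W : G →* Matrix (Fin 3) (Fin 3) k) (B : Matrix (Fin 3) (Fin 3) k),
      IsUnit B ∧ B.transpose = B ∧ (∀ g, (W g).transpose * B * W g = B) ∧ (W (Δ.x : G) - 1) ^ 2 ≠ 0 := by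
  set x : G := (Δ.x : G) with hx
  set T : Matrix (Fin n) (Fin n) k := S x - 1 with hTdef
  have hord : orderOf x = p := by rw [hx, Subgroup.orderOf_coe]; exact Δ.ord
  have hL1 : 1 ≤ L := by
    by_contra h
    rw [show L = 0 by omega, zero_add, pow_one] at hL
    exact hT hL
  -- lowering matrices
  set H := Subgroup.zpowers x
  letI : Fintype H := Fintype.ofFinite _
  let Δ₀ : Semi p H :=
    { x := ⟨x, Subgroup.mem_zpowers x⟩
      A := ⊥
      ord := by rw [Subgroup.orderOf_mk]; exact hord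
      ε := 1
      conj := fun a => by
        obtain rfl : a = 1 := Subtype.ext (Subgroup.mem_bot.1 a.2)
        simp [ZMod.val_one]
      decomp := fun h => by
        obtain ⟨i, hi⟩ := (isOfFinOrder_of_finite x).mem_powers_iff_mem_zpowers.2 h.2
        exact ⟨i, 1, Subtype.ext (by simpa using hi.symm)⟩
      reg := by simp [hp.out.ne_one] }
  obtain ⟨⟨g, hg⟩, hgb'⟩ := exists_lowering Δ₀
    (fun a b => Subtype.ext ((Subgroup.mem_bot.1 (a * b).2).trans (Subgroup.mem_bot.1 (b * a).2).symm))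
    n (S.comp H.subtype) (pow_eq_zero_of_le (by omega) hL)
  obtain ⟨gb, hgb3, hgb1, hgbm⟩ := hgb' hT
  change br T (br T g) = (-2 : k) • T at hg
  change br T (br T (br T gb)) = 0 at hgb3
  change (T * gb).trace ≠ 0 at hgb1
  change ∀ m, 2 ≤ m → (T ^ m * gb).trace = 0 at hgbm
  -- the adjoint module
  set A2 := Translation.kronRep S (Omega.dualRep S) with hA2
  set U2 := A2.comp N.subtype with hU2
  set Y : Matrix (Fin n) (Fin n) k := S x⁻¹ with hY
  have hXY : S x * Y = 1 := Stable.mul_inv_eq_one x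
  have hYX : Y * S x = 1 := inv_mul_eq_one' x
  have hTY : Commute T Y := by
    show T * Y = Y * T
    rw [hTdef, Matrix.sub_mul, Matrix.mul_sub, hXY, hYX, Matrix.one_mul, Matrix.mul_one]
  have hmat : ∀ (h : G) (u : Fin n × Fin n → k), mat (A2 h *ᵥ u) = S h * mat u * S h⁻¹ := fun h u => by
    rw [hA2, Translation.kronRep_apply, mat_kron, Omega.dualRep_apply, Matrix.transpose_transpose]
  have hstep : ∀ u, mat (tee Δ U2 *ᵥ u) = br T (mat u) * Y := fun u => by
    have e : mat ((tee Δ U2) *ᵥ u) = mat (A2 x *ᵥ u) - mat u := by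
      rw [tee, sub_mulVec, one_mulVec]
      rfl
    rw [e, hmat, ← hY, show S x = T + 1 by rw [hTdef, sub_add_cancel], br, Matrix.sub_mul, Matrix.add_mul,
      Matrix.add_mul, Matrix.one_mul, Matrix.mul_assoc (mat u) T Y]
    have : mat u = mat u * (T * Y + Y) := by
      rw [← Matrix.one_mul Y, ← Matrix.mul_assoc, ← Matrix.add_mul, Matrix.mul_one, hTdef, sub_add_cancel, hXY,
        Matrix.mul_one]
    nth_rewrite 3 [this]
    rw [Matrix.mul_add]
    abel
  have hpow : ∀ j u, mat (tee Δ U2 ^ j *ᵥ u) = (br T)^[j] (mat u) * Y ^ j := by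
    intro j
    induction j with
    | zero => simp
    | succ j ih =>
      intro u
      rw [pow_succ', ← mulVec_mulVec, hstep, ih, br_mul_right (hTY.pow_right j), Function.iterate_succ_apply',
        Matrix.mul_assoc, ← pow_succ]
  have hX2 : (A2 x - 1) ^ (p - 1) = 0 := by
    have h : tee Δ U2 ^ (p - 1) = 0 := Matrix.toLin'.injective (LinearMap.ext fun u => mat_injective (by
      rw [Matrix.toLin'_apply, hpow, br_iterate_eq_zero hL (by omega), Matrix.zero_mul, map_zero]
      rfl))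
    exact h
  set φ : (Fin n × Fin n → k) →ₗ[k] k :=
    { toFun := fun u => (mat u * S x ^ 3 * gb).trace
      map_add' := fun u v => by
        rw [show mat (u + v) = mat u + mat v from rfl, Matrix.add_mul, Matrix.add_mul, Matrix.trace_add]
      map_smul' := fun c u => by
        rw [show mat (c • u) = c • mat u from rfl, Matrix.smul_mul, Matrix.smul_mul, Matrix.trace_smul]
        rfl }
  have hφ : ∀ u, φ u = (mat u * S x ^ 3 * gb).trace := fun u => rfl
  have hφ3 : ∀ u, φ (tee Δ U2 ^ 3 *ᵥ u) = 0 := fun u => by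
    rw [hφ, hpow, Matrix.mul_assoc _ (Y ^ 3), ← (show Commute Y (S x) from hYX.trans hXY.symm).mul_pow, hYX, one_pow,
      Matrix.mul_one]
    simp only [Function.iterate_succ_apply, Function.iterate_zero_apply]
    rw [trace_br, trace_br, trace_br, hgb3, Matrix.mul_zero, Matrix.trace_zero, neg_zero, neg_zero, neg_zero]
  have hkill : tee Δ U2 ^ (2 + 1) *ᵥ vec g = 0 := mat_injective (by
    rw [hpow, mat_vec]
    simp only [Function.iterate_succ_apply', Function.iterate_zero_apply]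
    rw [hg, br_smul_self, Matrix.zero_mul]
    rfl)
  set εk := Translation.εk Δ k
  set g' := avg Δ U2 εk (vec g) with hg'
  have hk' : ∀ a : Δ.A, tee Δ U2 ^ 3 *ᵥ (U2 (a : N) *ᵥ vec g) = 0 := fun a => (conj_kill Δ U2 a hkill).1
  have hval : ∀ a : Δ.A, φ (εk a • (tee Δ U2 ^ 2 *ᵥ (U2 (a : N) *ᵥ vec g))) = (-2 : k) * (T * gb).trace := by
    intro a
    set s := ((Δ.ε a : (ZMod p)ˣ) : ZMod p).val
    have hsk : εk a = (s : k) := Translation.εk_eq Δ k a
    have h1 := congrArg φ (conj_kill Δ U2 a hkill).2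
    rw [map_smul, smul_eq_mul] at h1
    rw [map_smul, smul_eq_mul]
    have hsne : εk a ≠ 0 := fun h => by
      have := Translation.εk_mul_inv Δ k a
      change εk a * εk a⁻¹ = 1 at this
      rw [h, zero_mul] at this
      exact zero_ne_one this
    refine mul_left_cancel₀ hsne ?_
    rw [← mul_assoc, ← pow_two, ← h1, hφ]
    have hm : mat (U2 (a : N) *ᵥ (tee Δ U2 ^ 2 *ᵥ vec g))
        = (-2 : k) • Polynomial.aeval T ((((Polynomial.X : Polynomial k) + 1) ^ s - 1) * (Polynomial.X + 1) ^ (2 * ((p - 1) * s))) := by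
      show mat (A2 ((a : N) : G) *ᵥ _) = _
      rw [hmat, hpow, mat_vec]
      simp only [Function.iterate_succ_apply', Function.iterate_zero_apply]
      rw [hg, Matrix.smul_mul, Matrix.mul_smul, Matrix.smul_mul]
      congr 1
      have hc1 : S ((a : N) : G) * T = ((T + 1) ^ s - 1) * S ((a : N) : G) := by
        have := Chains.conj_pow Δ (S := S.comp N.subtype) a 1
        rw [pow_one, pow_one] at this
        exact this
      have hc2 : S ((a : N) : G) * Y ^ 2 * S ((a : N) : G)⁻¹ = (T + 1) ^ (2 * ((p - 1) * s)) := by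
        rw [hY, ← map_pow, ← map_mul, ← map_mul, hTdef, sub_add_cancel, ← map_pow]
        congr 1
        have hconj : ((a : N) : G) * x * ((a : N) : G)⁻¹ = x ^ s := by
          have := congrArg Subtype.val (Δ.conj a)
          simpa [hx] using this
        rw [show ((a : N) : G) * x⁻¹ ^ 2 * ((a : N) : G)⁻¹ = ((((a : N) : G) * x * ((a : N) : G)⁻¹)⁻¹) ^ 2 by
          simp only [pow_two]; group, hconj, mul_comm 2, pow_mul _ _ 2, mul_comm (p - 1) s, pow_mul x s]
        congr 1
        refine (eq_inv_of_mul_eq_one_left ?_).symm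
        rw [← pow_succ, Nat.sub_add_cancel hp.out.one_le, ← pow_mul, mul_comm, pow_mul, ← hord, pow_orderOf_eq_one,
          one_pow]
      rw [← Matrix.mul_assoc, hc1, Matrix.mul_assoc _ (S _), Matrix.mul_assoc _ (S _ * Y ^ 2), hc2, map_mul, map_sub,
        map_pow, map_pow, map_add, map_one, Polynomial.aeval_X]
    rw [hm, Matrix.smul_mul, Matrix.smul_mul, Matrix.trace_smul, smul_eq_mul,
      show S x = T + 1 by rw [hTdef, sub_add_cancel]]
    set q : Polynomial k := ((Polynomial.X + 1) ^ s - 1) * (Polynomial.X + 1) ^ (2 * ((p - 1) * s)) *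
      (Polynomial.X + 1) ^ 3 with hq
    have e : Polynomial.aeval T ((((Polynomial.X : Polynomial k) + 1) ^ s - 1) * (Polynomial.X + 1) ^ (2 * ((p - 1) * s))) * (T + 1) ^ 3
        = Polynomial.aeval T q := by
      rw [hq, map_mul (Polynomial.aeval T) _ ((Polynomial.X + 1) ^ 3), map_pow (Polynomial.aeval T) _ 3, map_add,
        map_one, Polynomial.aeval_X]
    have hq0 : q.coeff 0 = 0 := by
      simp [hq, Polynomial.mul_coeff_zero, Polynomial.coeff_X_add_one_pow]
    have hq1 : q.coeff 1 = (s : k) := by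
      simp [hq, Polynomial.mul_coeff_one, Polynomial.mul_coeff_zero, Polynomial.coeff_X_add_one_pow,
        Polynomial.coeff_one]
    rw [e, trace_aeval hgbm q hq0, hq1, hsk]
    ring
  have hφg' : φ (tee Δ U2 ^ 2 *ᵥ g') ≠ 0 := by
    rw [hg', avg, mulVec_smul, mulVec_sum, map_smul, map_sum,
      Finset.sum_congr rfl (g := fun _ => (-2 : k) * (T * gb).trace) fun a _ => by rw [mulVec_smul]; exact hval a,
      Finset.sum_const, Finset.card_univ, ← Nat.cast_smul_eq_nsmul k, smul_smul,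
      inv_mul_cancel₀ (Chains.card_ne_zero (Δ := Δ)), one_smul]
    refine mul_ne_zero (fun h => ?_) hgb1
    have h2 : ((2 : ℕ) : k) = 0 := by rw [Nat.cast_two]; simpa using h
    have := Nat.le_of_dvd two_pos ((CharP.cast_eq_zero_iff k p 2).1 h2)
    omega
  obtain ⟨U3, i, r, w₀, hi, hr, hri, -, hch⟩ := exists_chain_summand (L := 3) (β := Translation.εi Δ k)
    (fun a => by rw [hg', avg_eig, Translation.εi_apply])
    (by
      rw [hg', avg, mulVec_smul, mulVec_sum, Finset.sum_eq_zero fun a _ => ?_, smul_zero]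
      rw [mulVec_smul, hk' a, smul_zero])
    φ hφ3 hφg'
  obtain ⟨W, -, -, -, -, -, hW⟩ := Summand.exists_summand Loc Δ.x.2 hord hX2 hi hr hri
  subst hW
  -- the dual chain
  set V := W.comp N.subtype
  set V' := Omega.dualRep V
  set T3 := tee Δ V with hT3
  have hT33 : T3 ^ 3 = 0 := by simpa using Omega.tee_pow_card Δ V
  have hw2 : T3 ^ 2 *ᵥ w₀ ≠ 0 := by
    have := hch.indep.ne_zero ⟨(), 2⟩
    simpa using this
  obtain ⟨c, hc⟩ := Function.ne_iff.1 hw2
  set u : Fin 3 → k := Pi.single c 1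
  have hu : u ⬝ᵥ (T3 ^ 2 *ᵥ w₀) ≠ 0 := by simpa [u] using hc
  set u' := avg Δ V' εk u with hu'
  have hscal : ∀ b : Δ.A, V (b : N) *ᵥ (T3 ^ 2 *ᵥ w₀) = εk b • (T3 ^ 2 *ᵥ w₀) := by
    intro b
    obtain ⟨-, h2⟩ := conj_kill Δ V b (m := 2) (u := w₀) (by rw [← hT3, hT33, zero_mulVec])
    rw [← hT3, hch.eig () b, mulVec_smul, smul_smul] at h2
    rw [h2]
    congr 1
    have h1 := Translation.εk_mul_inv Δ k b
    rw [Translation.εi_apply, pow_two]
    linear_combination (Translation.εk Δ k b) * h1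
  have hpair : u' ⬝ᵥ (T3 ^ 2 *ᵥ w₀) = u ⬝ᵥ (T3 ^ 2 *ᵥ w₀) := by
    rw [hu', avg, smul_dotProduct, sum_dotProduct, Finset.sum_congr rfl (g := fun _ => u ⬝ᵥ (T3 ^ 2 *ᵥ w₀))
      fun a _ => ?_, Finset.sum_const, Finset.card_univ, ← Nat.cast_smul_eq_nsmul k, smul_smul,
      inv_mul_cancel₀ (Chains.card_ne_zero (Δ := Δ)), one_smul]
    rw [smul_dotProduct, Omega.dualRep_apply, mulVec_transpose, ← dotProduct_mulVec,
      show ((a : N)⁻¹) = ((a⁻¹ : Δ.A) : N) from rfl, hscal, dotProduct_smul, smul_smul,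
      show εk a * εk a⁻¹ = 1 from Translation.εk_mul_inv Δ k a, one_smul]
  have hsoc : tee Δ V' ^ 2 *ᵥ u' ≠ 0 := by
    intro h0
    have h1 : (tee Δ V' ^ 2 *ᵥ u') ⬝ᵥ w₀ = 0 := by rw [h0, zero_dotProduct]
    have e : tee Δ V' = (V Δ.x⁻¹ - 1)ᵀ := by
      rw [tee, Omega.dualRep_apply, Matrix.transpose_sub, Matrix.transpose_one]
    rw [e, ← Matrix.transpose_pow, mulVec_transpose, ← dotProduct_mulVec] at h1
    have hY3 : (V Δ.x⁻¹ - 1) = -(V Δ.x⁻¹ * T3) := by
      rw [hT3, tee, Matrix.mul_sub, inv_mul_eq_one', Matrix.mul_one, neg_sub]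
    have hcY : Commute (V Δ.x⁻¹) T3 := by
      show _ * _ = _ * _
      rw [hT3, tee, Matrix.mul_sub, Matrix.sub_mul, inv_mul_eq_one', Stable.mul_inv_eq_one, Matrix.mul_one,
        Matrix.one_mul]
    rw [hY3, neg_sq, hcY.mul_pow, ← mulVec_mulVec] at h1
    have hfix : V Δ.x *ᵥ (T3 ^ 2 *ᵥ w₀) = T3 ^ 2 *ᵥ w₀ := by
      rw [← tee_add_one Δ (S := V), ← hT3, add_mulVec, one_mulVec, mulVec_mulVec, ← pow_succ', hT33, zero_mulVec,
        zero_add]
    have hfix' : V Δ.x⁻¹ *ᵥ (T3 ^ 2 *ᵥ w₀) = T3 ^ 2 *ᵥ w₀ := by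
      conv_lhs => rw [← hfix, mulVec_mulVec, inv_mul_eq_one', one_mulVec]
    rw [pow_two (V Δ.x⁻¹), ← mulVec_mulVec, hfix', hfix', hpair] at h1
    exact hu h1
  have hch' : IsChains Δ V' (fun _ : Unit => 3) (fun _ => Translation.εi Δ k) (fun _ => u') := by
    refine ⟨fun _ a => ?_, fun _ => ?_, ?_, by simp⟩
    · rw [hu', avg_eig, Translation.εi_apply]
    · rw [show tee Δ V' ^ 3 = 0 by simpa using Omega.tee_pow_card Δ V', zero_mulVec]
    · exact indep_of_socle (K := Unit) (L := fun _ => 3) (v := fun _ => u') (T := tee Δ V')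
        (fun _ => by rw [show tee Δ V' ^ 3 = 0 by simpa using Omega.tee_pow_card Δ V', zero_mulVec])
        (linearIndependent_unique_iff.2 hsoc)
  obtain ⟨a₀, b₀, ha₀, hab, hba⟩ := hch.iso hch' (Equiv.refl _) (fun _ => rfl) fun _ => rfl
  have hWX : (W x - 1) ^ (p - 1) = 0 := pow_eq_zero_of_le (show 3 ≤ p - 1 by omega) hT33
  have hWX' : (Omega.dualRep W x - 1) ^ (p - 1) = 0 := pow_eq_zero_of_le (show 3 ≤ p - 1 by omega)
    (show (Omega.dualRep W x - 1) ^ 3 = 0 from by
      have h3 : tee Δ V' ^ 3 = 0 := by simpa using Omega.tee_pow_card Δ V'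
      exact h3)
  obtain ⟨B, B', hB, hBB, -⟩ :=
    (StEq.induce (S := W) (T := Omega.dualRep W) Loc (StEq.of_inv ha₀ hab hba)).iso
      (Summand.isFreeRep hord hWX) (Summand.isFreeRep hord hWX')
  have hinv : ∀ h, (W h)ᵀ * B * W h = B := fun h => by
    rw [Matrix.mul_assoc, ← hB h, Omega.dualRep_apply, ← Matrix.mul_assoc, ← Matrix.transpose_mul, inv_mul_eq_one',
      Matrix.transpose_one, Matrix.one_mul]
  have hinv' : ∀ h, (W h)ᵀ * (B + Bᵀ) * W h = B + Bᵀ := fun h => by
    have := congrArg Matrix.transpose (hinv h)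
    simp only [Matrix.transpose_mul, Matrix.transpose_transpose, ← Matrix.mul_assoc] at this
    rw [Matrix.mul_add, Matrix.add_mul, hinv h, this]
  refine ⟨W, B + Bᵀ, ?_, by rw [Matrix.transpose_add, Matrix.transpose_transpose, add_comm], hinv', fun h0 => hw2 ?_⟩
  swap
  · have h0' : T3 ^ 2 = 0 := h0
    rw [h0', zero_mulVec]
  -- the Gram matrix on the chain
  set Q := cols T3 w₀
  have hQ : IsUnit Q.det := by
    rw [← Matrix.isUnit_iff_isUnit_det, ← Matrix.linearIndependent_cols_iff_isUnit]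
    exact hch.indep.comp (fun j => ⟨(), j⟩) fun a b h => eq_of_heq (Sigma.mk.inj h).2
  set C : Matrix (Fin 3) (Fin 3) k := Qᵀ * B * Q
  have hrel : T3ᵀ * B + B * T3 + T3ᵀ * B * T3 = 0 := by
    have h := hinv x
    have e : W x = T3 + 1 := by rw [hT3, tee, sub_add_cancel]; rfl
    rw [e, Matrix.transpose_add, Matrix.transpose_one] at h
    simp only [Matrix.add_mul, Matrix.mul_add, Matrix.one_mul, Matrix.mul_one] at h
    rw [← sub_eq_zero] at h
    rw [← h]
    abel
  set b : ℕ → ℕ → k := fun i j => (T3 ^ i *ᵥ w₀) ⬝ᵥ (B *ᵥ (T3 ^ j *ᵥ w₀))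
  have hC : ∀ i j : Fin 3, C i j = b i j := fun i j => by
    show (Qᵀ * B * Q) i j = _
    rw [Matrix.mul_assoc, Matrix.mul_apply]
    refine Finset.sum_congr rfl fun l _ => ?_
    rw [Matrix.transpose_apply]
    rfl
  have hb : ∀ i j, b (i + 1) j + b i (j + 1) + b (i + 1) (j + 1) = 0 := fun i j => by
    have h := congrArg (fun M : Matrix (Fin 3) (Fin 3) k => (T3 ^ i *ᵥ w₀) ⬝ᵥ (M *ᵥ (T3 ^ j *ᵥ w₀))) hrel
    simp only [add_mulVec, dotProduct_add, zero_mulVec, dotProduct_zero, ← mulVec_mulVec] at h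
    have e : ∀ z : Fin 3 → k, (T3 ^ i *ᵥ w₀) ⬝ᵥ (T3ᵀ *ᵥ z) = (T3 ^ (i + 1) *ᵥ w₀) ⬝ᵥ z := fun z => by
      rw [dotProduct_mulVec, vecMul_transpose, mulVec_mulVec, ← pow_succ']
    rw [e, e] at h
    simp only [b, mulVec_mulVec, ← pow_succ'] at h ⊢
    exact h
  have hz : ∀ i j, 3 ≤ i ∨ 3 ≤ j → b i j = 0 := by
    rintro i j (h | h) <;> simp [b, pow_eq_zero_of_le h hT33]
  have h22 := hb 2 1
  have h21 := hb 2 0
  have h12 := hb 0 2
  have h20 := hb 1 0
  have h02 := hb 0 1
  simp only [Nat.reduceAdd] at h22 h21 h12 h20 h02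
  rw [hz 3 1 (Or.inl le_rfl), hz 3 2 (Or.inl le_rfl), zero_add, add_zero] at h22
  rw [hz 3 0 (Or.inl le_rfl), hz 3 1 (Or.inl le_rfl), zero_add, add_zero] at h21
  rw [hz 0 3 (Or.inr le_rfl), hz 1 3 (Or.inr le_rfl), add_zero, add_zero] at h12
  rw [h21, add_zero] at h20
  rw [h12, add_zero] at h02
  have hdetC : C.det = -(b 1 1) ^ 3 := by
    rw [Matrix.det_fin_three, hC, hC, hC, hC, hC, hC, hC, hC, hC]
    simp only [Fin.val_zero, Fin.val_one, Fin.val_two, h22, h21, h12]
    rw [eq_neg_of_add_eq_zero_left h20, eq_neg_of_add_eq_zero_right h02]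
    ring
  have hBu : IsUnit B := IsUnit.of_mul_eq_one_right B' hBB
  have hne : b 1 1 ≠ 0 := by
    intro h
    have hCu : IsUnit C.det := by
      rw [Matrix.det_mul, Matrix.det_mul, Matrix.det_transpose]
      exact (hQ.mul ((Matrix.isUnit_iff_isUnit_det _).1 hBu)).mul hQ
    rw [hdetC, h] at hCu
    simp at hCu
  rw [Matrix.isUnit_iff_isUnit_det, isUnit_iff_ne_zero]
  intro hdet
  have h8 : (C + Cᵀ).det = 0 := by
    have e : C + Cᵀ = Qᵀ * (B + Bᵀ) * Q := by
      simp only [C, Matrix.transpose_mul, Matrix.transpose_transpose, Matrix.mul_add, Matrix.add_mul, Matrix.mul_assoc]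
    rw [e, Matrix.det_mul, Matrix.det_mul, hdet, mul_zero, zero_mul]
  simp only [Matrix.det_fin_three, Matrix.add_apply, Matrix.transpose_apply, hC, Fin.val_zero, Fin.val_one,
    Fin.val_two, h22, h21, h12, eq_neg_of_add_eq_zero_left h20, eq_neg_of_add_eq_zero_right h02] at h8
  have h28 : (8 : k) * (b 1 1) ^ 3 = 0 := by linear_combination -h8
  have h2 : (2 : k) ≠ 0 := fun h => by
    have h2 : ((2 : ℕ) : k) = 0 := by rw [Nat.cast_two]; exact h
    have := Nat.le_of_dvd two_pos ((CharP.cast_eq_zero_iff k p 2).1 h2)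
    omega
  exact mul_ne_zero (show (8 : k) ≠ 0 by rw [show (8 : k) = 2 ^ 3 by norm_num]; exact pow_ne_zero _ h2)
    (pow_ne_zero _ hne) h28

end CfsgLib.Char.FeitDegree.Adjoint
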