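import Cfsg.Agent.Lib.Char.FeitDegree.Setup
import Cfsg.Agent.S4468

/-!
# Normal subgroups avoiding the Sylow subgroup

A normal subgroup not containing an element of order `p` centralizes it when the group has a
faithful character of degree less than `p - 1`; so no homomorphism sends the Sylow subgroup to a
nontrivial normal subgroup.
-/

set_option autoImplicit false

open scoped Classical

namespace CfsgLib.Char.FeitDegree.Kernel

open Cfsg CfsgLib CfsgLib.Blocks CfsgLib.Blocks.DefectOne CfsgLib.CharDeep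

universe u

variable {G : Type u} [Group G] [Fintype G] {p : ℕ} [hp : Fact p.Prime] {P : Sylow p G} {D : Frame P}

theorem inf_eq_bot {K : Subgroup G} (hx : D.x ∉ K) : K ⊓ (P : Subgroup G) = ⊥ := by
  by_contra hne
  obtain ⟨w, ⟨hwK, hwP⟩, hw1⟩ := (Subgroup.bot_or_exists_ne_one _).resolve_left hne
  have h : D.x ∈ Subgroup.zpowers w := by rw [PrimeOrder.zpowers_eq P D.card_P hwP hw1]; exact D.x_mem
  exact hx (Subgroup.zpowers_le.2 hwK h)

theorem not_dvd_card {K : Subgroup G} [K.Normal] (hx : D.x ∉ K) : ¬ p ∣ Nat.card K := by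
  intro h
  obtain ⟨y, hy⟩ := exists_prime_orderOf_dvd_card' p h
  have hyo : orderOf (y : G) = p := by rw [Subgroup.orderOf_coe]; exact hy
  obtain ⟨g, a, v, -, hu⟩ := D.exists_conj_el (g := (y : G)) (by rw [hyo])
  have hmem : (D.el a v : G) ∈ K := by rw [← hu]; exact ‹K.Normal›.conj_mem _ y.2 g
  have hvp : (D.el a v : G) ^ p = 1 := by
    rw [← hu, conj_pow, ← hyo, pow_orderOf_eq_one, mul_one, mul_inv_cancel]
  have hv1 : (v : G) = 1 := by
    have h1 := hvp
    rw [D.coe_el, ((D.commute_x v.2).symm.pow_left a.val).mul_pow, ← pow_mul, mul_comm a.val, pow_mul,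
      PrimeOrder.pow_prime_eq_one D.ord, one_pow, one_mul] at h1
    by_contra hne
    exact D.regular v.2 (dvd_of_eq (orderOf_eq_prime h1 hne).symm)
  rw [D.coe_el, hv1, mul_one] at hmem
  have hxa : D.x ^ a.val ∈ K ⊓ (P : Subgroup G) := ⟨hmem, pow_mem D.x_mem _⟩
  rw [inf_eq_bot hx, Subgroup.mem_bot] at hxa
  have h0 : (y : G) = 1 := by
    have h2 : g * (y : G) * g⁻¹ = 1 := by rw [hu, D.coe_el, hv1, mul_one, hxa]
    calc (y : G) = g⁻¹ * (g * (y : G) * g⁻¹) * g := by group
      _ = 1 := by rw [h2]; group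
  rw [h0, orderOf_one] at hyo
  exact hp.out.one_lt.ne hyo

variable {χ : G → ℂ} (hχ : Cfsg.IsCharacter G χ) (hfaith : ∀ g : G, χ g = χ 1 → g = 1)
  (hd : charDegree χ + 2 ≤ p)

include hχ hfaith hd in
/-- A normal subgroup avoiding `x` centralizes it. -/
theorem le_cent {K : Subgroup G} [K.Normal] (hx : D.x ∉ K) : K ≤ cent P := by
  intro k hk
  rw [D.mem_cent_iff]
  set H := K ⊔ (P : Subgroup G) with hH
  have hPH : (P : Subgroup G) ≤ H := le_sup_right
  have hKH : K ≤ H := le_sup_left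
  haveI : (K.subgroupOf H).Normal := Subgroup.Normal.subgroupOf inferInstance H
  have hsolv : Cfsg.IsPSolvable p H := by
    refine ⟨2, ![⊥, K.subgroupOf H, ⊤], rfl, rfl, ?_, ?_, ?_⟩
    · refine Fin.monotone_iff_le_succ.2 fun i => ?_
      fin_cases i
      · exact bot_le
      · exact le_top
    · intro i
      fin_cases i
      · exact Subgroup.normal_bot
      · exact ‹(K.subgroupOf H).Normal›
      · exact inferInstanceAs (⊤ : Subgroup H).Normal
    · intro i
      fin_cases i
      · right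
        show ((⊥ : Subgroup H).relIndex (K.subgroupOf H)).Coprime p
        rw [Subgroup.relIndex_bot_left, Nat.card_congr (Subgroup.subgroupOfEquivOfLe hKH).toEquiv]
        exact (Nat.Prime.coprime_iff_not_dvd hp.out).2 (not_dvd_card hx) |>.symm
      · left
        refine ⟨1, ?_⟩
        show (K.subgroupOf H).relIndex ⊤ = p ^ 1
        rw [Subgroup.relIndex_top_right, pow_one, ← Subgroup.relIndex,
          Subgroup.relIndex_sup_left, ← Subgroup.inf_relIndex_right, inf_eq_bot hx, Subgroup.relIndex_bot_left]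
        exact D.card_P
  have hn : ((P.subtype hPH : Sylow p H) : Subgroup H).Normal := by
    by_contra hnn
    have h := Cfsg.Agent.S4468.result (fun h : H => χ h) (Char.IsCharacter.restrict hχ H)
      (fun g e => SmallFaithful.faithful_restrict hfaith H g e) (charDegree χ) rfl p hp.out hsolv (by omega)
      (P.subtype hPH) hnn
    omega
  rw [Sylow.coe_subtype] at hn
  have hconj : k * D.x * k⁻¹ ∈ (P : Subgroup G) :=
    hn.conj_mem ⟨D.x, hPH D.x_mem⟩ D.x_mem ⟨k, hKH hk⟩
  have hmem : k * D.x * k⁻¹ * D.x⁻¹ ∈ K ⊓ (P : Subgroup G) := by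
    refine ⟨?_, (P : Subgroup G).mul_mem hconj ((P : Subgroup G).inv_mem D.x_mem)⟩
    rw [mul_assoc k, mul_assoc k]
    exact mul_mem hk (‹K.Normal›.conj_mem _ (inv_mem hk) _)
  rw [inf_eq_bot hx, Subgroup.mem_bot, mul_inv_eq_one, mul_inv_eq_iff_eq_mul] at hmem
  exact hmem

include hχ hfaith hd in
/-- A normal subgroup avoiding `x` lies in `K0`. -/
theorem le_K0 {K : Subgroup G} [K.Normal] (hx : D.x ∉ K) : K ≤ D.K0 := fun k hk =>
  (D.mem_K0 k).2 ⟨(D.mem_cent_iff k).1 (le_cent hχ hfaith hd hx hk), fun h =>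
    not_dvd_card hx (h.trans (Subgroup.orderOf_dvd_natCard K hk))⟩

include hχ hfaith hd in
/-- A homomorphism not killing `x` does not make its image normal. -/
theorem exists_conj_notMem (hnn : ¬ (P : Subgroup G).Normal) {H : Type*} [Group H] (f : G →* H) (hf : f D.x ≠ 1) :
    ∃ g, f (g * D.x * g⁻¹) ∉ Subgroup.zpowers (f D.x) := by
  by_contra hall
  push Not at hall
  refine hnn ⟨fun u hu g => ?_⟩
  rw [← D.zp] at hu ⊢
  obtain ⟨i, rfl⟩ := hu
  show g * D.x ^ i * g⁻¹ ∈ _
  rw [← conj_zpow]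
  refine zpow_mem ?_ i
  obtain ⟨j, hj⟩ := Subgroup.mem_zpowers_iff.1 (hall g)
  set k := D.x ^ (-j) * (g * D.x * g⁻¹) with hk
  have hker : k ∈ f.ker := by
    rw [MonoidHom.mem_ker, hk, map_mul, map_zpow, ← hj, ← zpow_add, neg_add_cancel, zpow_zero]
  have hkc := le_cent hχ hfaith hd (show D.x ∉ f.ker from hf) hker
  have hkp : k ^ p = 1 := by
    have hgx : g * D.x * g⁻¹ = D.x ^ j * k := by rw [hk, ← mul_assoc, ← zpow_add, add_neg_cancel, zpow_zero, one_mul]
    have h1 : (g * D.x * g⁻¹) ^ p = 1 := by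
      rw [conj_pow, PrimeOrder.pow_prime_eq_one D.ord, mul_one, mul_inv_cancel]
    have hc : Commute (D.x ^ j) k := ((D.mem_cent_iff k).1 hkc).symm.zpow_left j
    rw [hgx, hc.mul_pow, ← zpow_natCast (D.x ^ j), ← zpow_mul, mul_comm j, zpow_mul, zpow_natCast,
      PrimeOrder.pow_prime_eq_one D.ord, one_zpow, one_mul] at h1
    exact h1
  have hk1 : k = 1 := by
    by_contra hne
    refine not_dvd_card (show D.x ∉ f.ker from hf) ?_
    rw [← orderOf_eq_prime hkp hne]
    exact Subgroup.orderOf_dvd_natCard f.ker hker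
  rw [hk, zpow_neg, inv_mul_eq_one] at hk1
  exact hk1 ▸ zpow_mem (Subgroup.mem_zpowers D.x) j

end CfsgLib.Char.FeitDegree.Kernel
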