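import Cfsg.Agent.Lib.Char.FeitDegree.Weight
import Cfsg.Agent.Lib.Char.FeitDegree.Kernel

/-!
# The block over a central linear character

The exceptional characters share one linear character of the normalizer, which bounds the number of
exceptional constituents of any character.
-/

set_option autoImplicit false

open scoped Classical ComplexConjugate

namespace CfsgLib.Char.FeitDegree.Block

open Cfsg CfsgLib CfsgLib.Blocks CfsgLib.Blocks.DefectOne CfsgLib.CharDeep.ExactP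
open CfsgLib.Char.DegHalf (Over exists_scalar conj_linear_mul)
open Setup Weight

universe u

variable {G : Type u} [Group G] [Fintype G] {p : ℕ} [hp : Fact p.Prime] {P : Sylow p G} {D : Frame P}

/-- A character over a linear `μ` has all its multiplicities along `μ`. -/
theorem nP_eq {μ : IrrCharacter D.K0} (hμ : fdeg D μ = 1) {φ : IrrCharacter G} (h : Over μ (φ : G → ℂ))
    (k : ZMod p) : nP D φ k = mult D μ φ k := by
  have hsec : ∀ a : ZMod p, D.sec μ φ a = (φ : G → ℂ) (D.x ^ a.val) := DegHalf.over_sec hμ h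
  have h1 : (fun k => (nP D φ k : ℂ)) = fun k => (mult D μ φ k : ℂ) :=
    coeff_unique fun a => by rw [← apply_xpow, ← hsec a, sec_eq]
  exact_mod_cast congrFun h1 k

/-- A character over `μ` has no multiplicity along another character. -/
theorem mult_other {μ θ : IrrCharacter D.K0} (hμ : fdeg D μ = 1) {φ : IrrCharacter G} (h : Over μ (φ : G → ℂ))
    (hne : θ ≠ μ) (k : ZMod p) : mult D θ φ k = 0 := by
  have h1 : nP D φ k = mult D μ φ k := nP_eq hμ h k
  rw [nP, ← Finset.add_sum_erase _ _ (Finset.mem_univ μ), hμ, one_mul] at h1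
  have h2 : ∑ θ' ∈ Finset.univ.erase μ, fdeg D θ' * mult D θ' φ k = 0 := by omega
  exact (Nat.mul_eq_zero.1 (Finset.sum_eq_zero_iff.1 h2 θ (Finset.mem_erase.2 ⟨hne, Finset.mem_univ _⟩))).resolve_left
    (fdeg_pos D θ).ne'

/-- The block over `μ`. -/
structure Blk (D : Frame P) (μ : IrrCharacter D.K0) where
  X : Finset (IrrCharacter G)
  Y : Finset (IrrCharacter G)
  ζ : (ZMod p)ˣ → IrrCharacter G
  sgn : IrrCharacter G → ℤ
  δ : ℤ
  hδ : δ = 1 ∨ δ = -1
  disj : Disjoint X Y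
  mem_Y : ∀ η, η ∈ Y ↔ ∃ l, ζ l = η
  ζ_iff : ∀ l m, ζ l = ζ m ↔ l⁻¹ * m ∈ D.act.range
  sgn_X : ∀ χ ∈ X, sgn χ = 1 ∨ sgn χ = -1
  ov : ∀ φ : IrrCharacter G, φ ∈ X ∨ φ ∈ Y → Over μ (φ : G → ℂ)
  diffX : ∀ χ ∈ X, ∀ k : ZMod p, k ≠ 0 → (nP D χ k : ℤ) = nP D χ 0 - sgn χ
  diffY : ∀ (l : (ZMod p)ˣ) (k : ZMod p), (nP D (ζ l) k : ℤ) = nP D (ζ l) 0 + if k ∈ cos D l then δ else 0
  out : ∀ φ : IrrCharacter G, Over μ (φ : G → ℂ) → φ ∉ X → φ ∉ Y → ∀ k, nP D φ k = nP D φ 0
  agree : ∀ η ∈ Y, ∀ η' ∈ Y, ∀ g : G, ¬ p ∣ orderOf g → (η : G → ℂ) g = (η' : G → ℂ) g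
  card_X : X.card = Nat.card D.act.range
  rel : ∃ A : ℤ, (A = 1 ∨ A = -1) ∧ ∀ η ∈ Y, ∀ g : G, ¬ p ∣ orderOf g →
    ∑ χ ∈ X, (sgn χ : ℂ) * (χ : G → ℂ) g + (A : ℂ) * (η : G → ℂ) g = 0

set_option maxHeartbeats 1000000 in
theorem exists_blk (hK : D.K0 = Subgroup.center G) (h3 : 3 * Nat.card D.act.range ≤ p - 1)
    {μ : IrrCharacter D.K0} (hμ : fdeg D μ = 1) : Nonempty (Blk D μ) := by
  obtain ⟨M, hM⟩ := exists_isPModular hp.out
  obtain ⟨B, hB⟩ := D.exists_induced hM μ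
  obtain ⟨S⟩ := exists_shape D hM hB
  have horb := DegHalf.orb_eq hK μ
  have hcardE : Nat.card (D.autE μ) = Nat.card D.act.range := by
    have h := D.card_orb_mul μ
    rwa [horb, Finset.card_singleton, one_mul] at h
  have haut : D.autE μ = D.act.range :=
    Subgroup.eq_of_le_of_card_ge (Subgroup.map_le_range _ _) hcardE.ge
  set e := Nat.card D.act.range with he
  have he0 : 0 < e := Nat.card_pos
  have hp0 : (p : ℂ) ≠ 0 := Nat.cast_ne_zero.2 hp.out.ne_zero
  have hX : ∀ χ ∈ S.X, ∀ k : ZMod p, k ≠ 0 → D.diff μ k χ = S.sgn χ := by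
    intro χ hχ k hk
    apply Int.cast_injective (α := ℂ)
    rw [Frame.cast_diff, Finset.sum_congr rfl (g := fun a => (S.sgn χ : ℂ) * (1 - ZMod.stdAddChar (-k * a)))
      fun a _ => ?_, ← Finset.mul_sum, Finset.sum_sub_distrib, Frame.sum_std', if_neg (neg_ne_zero.2 hk),
      Finset.sum_const, Finset.card_univ, ZMod.card, nsmul_eq_mul, mul_one, sub_zero]
    · field_simp
    · by_cases ha : a = 0
      · simp [ha]
      · rw [S.sec_X χ hχ a ha, neg_mul]
  have hcos : ∀ l : (ZMod p)ˣ,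
      (Finset.univ.filter fun j => S.ζ j = S.ζ l).image Units.val = cos D l := by
    intro l
    ext k
    simp only [Finset.mem_image, Finset.mem_filter, Finset.mem_univ, true_and, mem_cos]
    constructor
    · rintro ⟨j, hj, rfl⟩
      refine ⟨l⁻¹ * j, ?_, by rw [mul_inv_cancel_left]⟩
      rw [← haut]
      exact (S.ζ_iff l j).1 hj.symm
    · rintro ⟨u, hu, rfl⟩
      exact ⟨l * u, ((S.ζ_iff l _).2 (by rw [inv_mul_cancel_left, haut]; exact hu)).symm, rfl⟩
  have hY : ∀ l : (ZMod p)ˣ, ∀ k : ZMod p, k ≠ 0 → D.diff μ k (S.ζ l)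
      = S.d - S.δ * if k ∈ cos D l then 1 else 0 := by
    intro l k hk
    rw [← hcos l]
    set F := Finset.univ.filter fun j => S.ζ j = S.ζ l
    apply Int.cast_injective (α := ℂ)
    rw [Frame.cast_diff, Finset.sum_congr rfl (g := fun a => ((S.d : ℂ) + (S.δ : ℂ) *
      ∑ j ∈ F, (ZMod.stdAddChar ((j : ZMod p) * a) : ℂ)) * (1 - ZMod.stdAddChar (-k * a))) fun a _ => ?_]
    · rw [Finset.sum_congr rfl (g := fun a : ZMod p => (S.d : ℂ) + (S.δ : ℂ) *
        ∑ j ∈ F, (ZMod.stdAddChar ((j : ZMod p) * a) : ℂ) - (S.d : ℂ) * ZMod.stdAddChar (-k * a) -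
        (S.δ : ℂ) * ∑ j ∈ F, (ZMod.stdAddChar (((j : ZMod p) - k) * a) : ℂ)) fun a _ => ?_]
      · simp only [Finset.sum_sub_distrib, Finset.sum_add_distrib, ← Finset.mul_sum]
        rw [Finset.sum_comm (t := F), Finset.sum_comm (t := F)]
        simp only [Frame.sum_std', Units.ne_zero, if_false, Finset.sum_const_zero, mul_zero, add_zero,
          if_neg (neg_ne_zero.2 hk), sub_zero, Finset.sum_const, Finset.card_univ, ZMod.card, nsmul_eq_mul,
          sub_eq_zero]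
        rw [show ∑ j ∈ F, (if (j : ZMod p) = k then (p : ℂ) else 0)
            = if k ∈ F.image Units.val then (p : ℂ) else 0 by
          rw [← Finset.sum_image (f := fun j => if j = k then (p : ℂ) else 0) (Units.val_injective.injOn),
            Finset.sum_ite_eq']]
        split_ifs <;> push_cast <;> field_simp <;> ring
      · have e1 : ∀ j : ZMod p, (ZMod.stdAddChar ((j - k) * a) : ℂ)
            = ZMod.stdAddChar (j * a) * ZMod.stdAddChar (-k * a) := fun j => by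
          rw [← AddChar.map_add_eq_mul, sub_eq_add_neg, add_mul]
        simp only [e1, ← Finset.sum_mul]
        ring
    · by_cases ha : a = 0
      · simp [ha]
      · rw [S.sec_Y l a ha, neg_mul]
  set r := S.Y.card
  have hr : 3 ≤ r := by
    have h : e * r = p - 1 := by rw [← hcardE]; exact S.card_Y
    have h2 : e * 3 ≤ e * r := by omega
    exact Nat.le_of_mul_le_mul_left h2 he0
  have hgram := D.sum_diff_mul μ 1 1
  rw [inv_one, one_mul, if_pos (D.autE μ).one_mem, hcardE] at hgram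
  have hsub : ∑ χ ∈ S.X ∪ S.Y, D.diff μ ((1 : (ZMod p)ˣ) : ZMod p) χ * D.diff μ ((1 : (ZMod p)ˣ) : ZMod p) χ
      = (e : ℤ) + 1 := by
    rw [← hgram]
    refine Finset.sum_subset (Finset.subset_univ _) fun χ _ hχ => ?_
    have h0 : (D.diff μ ((1 : (ZMod p)ˣ) : ZMod p) χ : ℂ) = 0 := by
      rw [Frame.cast_diff, Finset.sum_eq_zero, mul_zero]
      intro a _
      by_cases ha : a = 0
      · simp [ha]
      · rw [D.sec_eq_zero_of_notMem hM hB (fun h => hχ (Finset.mem_union.2 ((S.mem_iff χ).1 h))) ha, zero_mul]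
    rw [show D.diff μ ((1 : (ZMod p)ˣ) : ZMod p) χ = 0 by exact_mod_cast h0, mul_zero]
  rw [Finset.sum_union S.disj, Finset.sum_congr rfl (g := fun _ => (1 : ℤ)) fun χ hχ => by
    rw [hX χ hχ _ (Units.ne_zero 1)]
    rcases S.sgn_X χ hχ with h | h <;> rw [h] <;> norm_num,
    Finset.sum_const, nsmul_eq_mul, mul_one, S.card_X, hcardE] at hsub
  have hmem1 : S.ζ 1 ∈ S.Y := (S.mem_Y _).2 ⟨1, rfl⟩
  have hin : ∀ η ∈ S.Y, D.diff μ ((1 : (ZMod p)ˣ) : ZMod p) η = S.d - S.δ * if η = S.ζ 1 then 1 else 0 := by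
    intro η hη
    obtain ⟨l, rfl⟩ := (S.mem_Y η).1 hη
    rw [hY l _ (Units.ne_zero 1)]
    congr 2
    exact if_congr (by rw [mem_cos_iff, ← haut, ← S.ζ_iff]) rfl rfl
  rw [← Finset.add_sum_erase _ _ hmem1, Finset.sum_congr rfl (s₂ := S.Y.erase (S.ζ 1))
    (g := fun _ => S.d * S.d) fun η hη => by
      rw [hin η (Finset.mem_of_mem_erase hη), if_neg (Finset.ne_of_mem_erase hη), mul_zero, sub_zero],
    Finset.sum_const, Finset.card_erase_of_mem hmem1, nsmul_eq_mul, hin _ hmem1, if_pos rfl, mul_one,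
    Nat.cast_sub (by omega : 1 ≤ r)] at hsub
  push_cast at hsub
  have hd : S.d = 0 := by
    by_contra hd
    have h1 : 1 ≤ S.d * S.d := by
      have := mul_self_pos.2 hd
      omega
    have h2 : (3 : ℤ) ≤ (r : ℤ) := by exact_mod_cast hr
    nlinarith [mul_self_nonneg (S.d - S.δ)]
  have hδ : S.δ = 1 ∨ S.δ = -1 := by
    rw [hd] at hsub
    exact mul_self_eq_one_iff.1 (by linarith)
  have hval : ∀ χ ∈ B, ∀ a : ZMod p, a ≠ 0 → ∀ v : D.K0,
      (χ : G → ℂ) (D.el a v : G) = D.sec μ χ a * (μ : D.K0 → ℂ) v := fun χ hχ a ha v => by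
    rw [D.apply_el_orb hM hB hχ ha, horb, Finset.sum_singleton]
  have hov : ∀ φ : IrrCharacter G, φ ∈ B → (∃ k, D.diff μ k φ ≠ 0) → Over μ (φ : G → ℂ) := by
    intro φ hφ ⟨k, hk⟩ g v
    obtain ⟨c, hc, -⟩ := exists_scalar hK φ v
    obtain ⟨a, ha, hne⟩ : ∃ a : ZMod p, a ≠ 0 ∧ D.sec μ φ a ≠ 0 := by
      by_contra hall
      push Not at hall
      refine hk (Int.cast_injective (α := ℂ) ?_)
      rw [Frame.cast_diff, Int.cast_zero, Finset.sum_eq_zero fun a _ => ?_, mul_zero]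
      by_cases ha : a = 0
      · simp [ha]
      · rw [hall a ha, zero_mul]
    rw [hc]
    congr 1
    have h1 := hval φ hφ a ha v
    have h2 := hval φ hφ a ha 1
    rw [D.coe_el, OneMemClass.coe_one, mul_one, DegHalf.linear_apply_one hμ, mul_one] at h2
    rw [D.coe_el, hc, h2, mul_comm (D.sec μ φ a)] at h1
    exact mul_right_cancel₀ hne h1
  have hovX : ∀ φ : IrrCharacter G, φ ∈ S.X → Over μ (φ : G → ℂ) := fun φ hφ =>
    hov φ ((S.mem_iff φ).2 (Or.inl hφ)) ⟨1, by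
      rw [hX φ hφ 1 one_ne_zero]
      rcases S.sgn_X φ hφ with h | h <;> rw [h] <;> norm_num⟩
  have hovY : ∀ l, Over μ (S.ζ l : G → ℂ) := fun l =>
    hov _ ((S.mem_iff _).2 (Or.inr ((S.mem_Y _).2 ⟨l, rfl⟩))) ⟨(l : ZMod p), by
      rw [hY l _ (Units.ne_zero l), hd, if_pos (by rw [mem_cos_iff, inv_mul_cancel]; exact one_mem _)]
      rcases hδ with h | h <;> rw [h] <;> norm_num⟩
  refine ⟨⟨S.X, S.Y, S.ζ, S.sgn, S.δ, hδ, S.disj, S.mem_Y, fun l m => by rw [S.ζ_iff, haut], S.sgn_X, ?_, ?_, ?_, ?_,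
    S.agree, by rw [S.card_X, hcardE], ⟨S.A, S.sgn_A, S.rel⟩⟩⟩
  · rintro φ (h | h)
    · exact hovX φ h
    · obtain ⟨l, rfl⟩ := (S.mem_Y φ).1 h
      exact hovY l
  · intro χ hχ k hk
    have h := hX χ hχ k hk
    rw [diff_eq, ← nP_eq hμ (hovX χ hχ), ← nP_eq hμ (hovX χ hχ)] at h
    omega
  · intro l k
    by_cases hk : k = 0
    · rw [hk, if_neg (zero_notMem_cos D l), add_zero]
    have h := hY l k hk
    rw [diff_eq, ← nP_eq hμ (hovY l), ← nP_eq hμ (hovY l), hd] at h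
    split_ifs at h ⊢ <;> omega
  · intro φ hφ hnX hnY k
    rw [nP_eq hμ hφ, nP_eq hμ hφ]
    have hc : IsConst D μ φ := by
      by_contra hc
      rcases (S.mem_iff φ).1 (mem_induced D hM hc hB) with h | h
      · exact hnX h
      · exact hnY h
    exact hc k

namespace Blk

variable {μ : IrrCharacter D.K0} (B : Blk D μ)

theorem mem_ζ (l : (ZMod p)ˣ) : B.ζ l ∈ B.Y := (B.mem_Y _).2 ⟨l, rfl⟩

theorem ov_ζ (l : (ZMod p)ˣ) : Over μ (B.ζ l : G → ℂ) := B.ov _ (Or.inr (B.mem_ζ l))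

/-- The degree of an exceptional character. -/
theorem deg_ζ (l : (ZMod p)ˣ) : (charDegree (B.ζ l : G → ℂ) : ℤ)
    = (p : ℤ) * nP D (B.ζ l) 0 + B.δ * Nat.card D.act.range := by
  rw [deg_eq D, Nat.cast_sum, Finset.sum_congr rfl fun k _ => B.diffY l k, Finset.sum_add_distrib, Finset.sum_const,
    Finset.card_univ, ZMod.card, Finset.sum_ite_mem, Finset.univ_inter, Finset.sum_const, card_cos, nsmul_eq_mul,
    nsmul_eq_mul]
  ring

theorem nP_zero_eq (l m : (ZMod p)ˣ) : nP D (B.ζ l) 0 = nP D (B.ζ m) 0 := by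
  have h1 : (B.ζ l : G → ℂ) 1 = (B.ζ m : G → ℂ) 1 :=
    B.agree _ (B.mem_ζ l) _ (B.mem_ζ m) 1 (by rw [orderOf_one]; exact hp.out.not_dvd_one)
  rw [irr_one_eq, irr_one_eq] at h1
  have h2 : charDegree (B.ζ l : G → ℂ) = charDegree (B.ζ m : G → ℂ) := by exact_mod_cast h1
  have h3 := B.deg_ζ l
  rw [h2, B.deg_ζ m] at h3
  have hp' : (p : ℤ) ≠ 0 := Int.natCast_ne_zero.2 hp.out.ne_zero
  exact_mod_cast (mul_left_cancel₀ hp' (add_right_cancel h3)).symm

/-- The signed number of nonexceptional constituents. -/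
noncomputable def sA (a : IrrCharacter G → ℕ) : ℤ := ∑ χ ∈ B.X, B.sgn χ * (a χ : ℤ)

/-- The number of exceptional constituents. -/
noncomputable def numY (a : IrrCharacter G → ℕ) : ℕ := ∑ η ∈ B.Y, a η

set_option maxHeartbeats 400000 in
/-- The multiplicities on `P` against the constituents. -/
theorem key {ψ : G → ℂ} {a : IrrCharacter G → ℕ} (hexp : ∀ g, ψ g = ∑ φ, (a φ : ℂ) * (φ : G → ℂ) g)
    (hsupp : ∀ φ, a φ ≠ 0 → Over μ (φ : G → ℂ)) {n : ZMod p → ℤ}
    (hn : ∀ b : ZMod p, ψ (D.x ^ b.val) = ∑ k, (n k : ℂ) * ZMod.stdAddChar (k * b)) (m : (ZMod p)ˣ) :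
    n (m : ZMod p) - n 0 = B.δ * a (B.ζ m) - B.sA a := by
  have h1 : (fun k => (n k : ℂ)) = fun k => ((∑ φ, (a φ : ℤ) * (nP D φ k : ℤ) : ℤ) : ℂ) := by
    refine coeff_unique fun b => ?_
    rw [← hn, hexp]
    push_cast
    simp only [Finset.sum_mul, apply_xpow, Finset.mul_sum]
    rw [Finset.sum_comm]
    exact Finset.sum_congr rfl fun k _ => Finset.sum_congr rfl fun φ _ => by ring
  have h2 : ∀ k, n k = ∑ φ, (a φ : ℤ) * (nP D φ k : ℤ) := fun k => Int.cast_injective (congrFun h1 k)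
  rw [h2, h2, ← Finset.sum_sub_distrib,
    ← Finset.sum_subset (Finset.subset_univ (B.X ∪ B.Y)) fun φ _ hφ => by
      rcases Nat.eq_zero_or_pos (a φ) with h0 | h0
      · simp [h0]
      · rw [B.out φ (hsupp φ h0.ne') (fun h => hφ (Finset.mem_union_left _ h))
          (fun h => hφ (Finset.mem_union_right _ h)) (m : ZMod p), sub_self],
    Finset.sum_union B.disj, Finset.sum_eq_single (B.ζ m) (s := B.Y), B.diffY m,
    if_pos (by rw [mem_cos_iff, inv_mul_cancel]; exact one_mem _),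
    Finset.sum_congr rfl (g := fun χ => -(B.sgn χ * (a χ : ℤ))) fun χ hχ => ?_, Finset.sum_neg_distrib, sA]
  · ring
  · rw [B.diffX χ hχ _ (Units.ne_zero m)]
    ring
  · intro η hη hne
    obtain ⟨l, rfl⟩ := (B.mem_Y η).1 hη
    rw [B.diffY l, if_neg, add_zero, sub_self]
    intro h
    exact hne ((B.ζ_iff l m).2 ((mem_cos_iff D l m).1 h))
  · exact fun h => absurd (B.mem_ζ m) h

/-- Summing over the units. -/
theorem sum_units_ζ (a : IrrCharacter G → ℕ) :
    ∑ m : (ZMod p)ˣ, (a (B.ζ m) : ℤ) = (Nat.card D.act.range : ℤ) * B.numY a := by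
  rw [numY, Nat.cast_sum, Finset.mul_sum,
    ← Finset.sum_fiberwise_of_maps_to (g := B.ζ) (t := B.Y) (fun m _ => B.mem_ζ m) fun m => (a (B.ζ m) : ℤ)]
  refine Finset.sum_congr rfl fun η hη => ?_
  obtain ⟨l, rfl⟩ := (B.mem_Y η).1 hη
  rw [Finset.sum_congr rfl (g := fun _ => (a (B.ζ l) : ℤ)) fun m hm => by rw [(Finset.mem_filter.1 hm).2],
    Finset.sum_const, nsmul_eq_mul]
  congr 1
  norm_cast
  rw [← card_cos D l, ← Finset.card_image_of_injective _ (Units.val_injective (α := ZMod p))]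
  congr 1
  ext k
  simp only [Finset.mem_image, Finset.mem_filter, Finset.mem_univ, true_and]
  constructor
  · rintro ⟨m, hm, rfl⟩
    exact (mem_cos_iff D l m).2 ((B.ζ_iff l m).1 hm.symm)
  · intro hk
    refine ⟨Units.mk0 k fun h => zero_notMem_cos D l (h ▸ hk), ?_, rfl⟩
    exact ((B.ζ_iff l _).2 ((mem_cos_iff D l _).1 (by rwa [Units.val_mk0]))).symm

/-- The number of exceptional constituents from the degree. -/
theorem key_sum {ψ : G → ℂ} {a : IrrCharacter G → ℕ} (hexp : ∀ g, ψ g = ∑ φ, (a φ : ℂ) * (φ : G → ℂ) g)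
    (hsupp : ∀ φ, a φ ≠ 0 → Over μ (φ : G → ℂ)) {n : ZMod p → ℤ}
    (hn : ∀ b : ZMod p, ψ (D.x ^ b.val) = ∑ k, (n k : ℂ) * ZMod.stdAddChar (k * b)) :
    (∑ k, n k) - (p : ℤ) * n 0
      = B.δ * ((Nat.card D.act.range : ℤ) * B.numY a) - ((p : ℤ) - 1) * B.sA a := by
  have h := Finset.sum_congr rfl (s₁ := (Finset.univ : Finset (ZMod p)ˣ)) fun m _ => B.key hexp hsupp hn m
  rw [Finset.sum_sub_distrib, Finset.sum_sub_distrib, sum_units (fun k => n k), ← Finset.mul_sum, B.sum_units_ζ,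
    Finset.sum_const, Finset.sum_const, Finset.card_univ, ZMod.card_units, nsmul_eq_mul, nsmul_eq_mul,
    Nat.cast_sub hp.out.one_le] at h
  push_cast at h
  linear_combination h

/-- An exceptional character does not have `x` in its kernel. -/
theorem x_notMem_ker (h3 : 3 * Nat.card D.act.range ≤ p - 1) (l : (ZMod p)ˣ) : D.x ∉ Char.charKer (Char.isCharacter_irr (B.ζ l)) := by
  intro hx
  have hval : ∀ b : ZMod p, (B.ζ l : G → ℂ) (D.x ^ b.val) = (charDegree (B.ζ l : G → ℂ) : ℂ) := fun b => by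
    rw [(Char.mem_charKer _).1 (pow_mem hx b.val), irr_one_eq]
  have h : (fun k => (nP D (B.ζ l) k : ℂ))
      = fun k => if k = 0 then (charDegree (B.ζ l : G → ℂ) : ℂ) else 0 := by
    refine coeff_unique fun b => ?_
    rw [← apply_xpow, hval, Finset.sum_eq_single (0 : ZMod p) (fun k _ hk => by rw [if_neg hk, zero_mul])
      (fun h => absurd (Finset.mem_univ _) h), if_pos rfl, zero_mul, AddChar.map_zero_eq_one, mul_one]
  have hl := congrFun h (l : ZMod p)
  simp only [if_neg (Units.ne_zero l), Nat.cast_eq_zero] at hl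
  have h1 := B.diffY l (l : ZMod p)
  rw [hl, if_pos (by rw [mem_cos_iff, inv_mul_cancel]; exact one_mem _)] at h1
  have hd : (nP D (B.ζ l) 0 : ℤ) = -B.δ := by omega
  rcases B.hδ with e | e <;> rw [e] at hd h1
  · omega
  · have h2 : ∀ k : ZMod p, k ≠ 0 → nP D (B.ζ l) k = 0 := fun k hk => by
      have := congrFun h k
      simpa [hk] using this
    obtain ⟨k, hk0, hk⟩ : ∃ k : ZMod p, k ≠ 0 ∧ k ∉ cos D l := by
      by_contra hall
      push Not at hall
      have hle : (Finset.univ.erase (0 : ZMod p)).card ≤ (cos D l).card := Finset.card_le_card fun k hk =>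
        hall k (Finset.ne_of_mem_erase hk)
      rw [card_cos, Finset.card_erase_of_mem (Finset.mem_univ _), Finset.card_univ, ZMod.card] at hle
      have := hp.out.two_le
      omega
    have h4 := B.diffY l k
    rw [if_neg hk, h2 k hk0] at h4
    omega

variable {χ₀ : G → ℂ} (hχ₀ : Cfsg.IsCharacter G χ₀) (hfaith : ∀ g : G, χ₀ g = χ₀ 1 → g = 1)
  (hd₀ : charDegree χ₀ + 2 ≤ p) (hnn : ¬ (P : Subgroup G).Normal) (h3 : 3 * Nat.card D.act.range ≤ p - 1)

include hχ₀ hfaith hd₀ hnn h3 in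
/-- An exceptional character has a fixed vector of `P`. -/
theorem n0_pos (l : (ZMod p)ˣ) : 0 < nP D (B.ζ l) 0 := by
  by_contra h0
  have h0' : nP D (B.ζ l) 0 = 0 := by omega
  have hl := B.diffY l (l : ZMod p)
  rw [if_pos (by rw [mem_cos_iff, inv_mul_cancel]; exact one_mem _), h0'] at hl
  have hdeg := B.deg_ζ l
  have he0 : 0 < Nat.card D.act.range := Nat.card_pos
  rcases B.hδ with e | e <;> rw [e] at hl hdeg
  swap
  · omega
  rw [h0'] at hdeg
  set K := Char.charKer (Char.isCharacter_irr (B.ζ l)) with hKdef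
  haveI : K.Normal := Char.charKer_normal _
  obtain ⟨ψ, hψ, he⟩ := Char.IsCharacter.exists_deflate (Char.isCharacter_irr (B.ζ l)) K
    fun k hk => (Char.mem_charKer _).1 hk
  have hdegψ : charDegree ψ = charDegree (B.ζ l : G → ℂ) := by
    simp only [charDegree, he, Function.comp_apply, map_one]
  have hψf : ∀ q : G ⧸ K, ψ q = ψ 1 → q = 1 := by
    intro q hq
    obtain ⟨g, rfl⟩ := QuotientGroup.mk'_surjective K q
    refine (QuotientGroup.eq_one_iff g).2 ((Char.mem_charKer _).2 ?_)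
    simp only [he, Function.comp_apply, map_one]
    exact hq
  set Q := P.mapSurjective (QuotientGroup.mk'_surjective K)
  haveI hQ : (Q : Subgroup (G ⧸ K)).Normal := CfsgLib.CharDeep.ExactP.sylow_normal_aux (Nat.card (G ⧸ K)) (G ⧸ K) rfl
    (fun h => D.hp2 (h.trans ⟨Nat.card K, K.card_eq_card_quotient_mul_card_subgroup⟩)) ψ hψ hψf
    (by rw [hdegψ]; push_cast at hdeg; omega) Q
  obtain ⟨g, hg⟩ := Kernel.exists_conj_notMem (D := D) hχ₀ hfaith hd₀ hnn (QuotientGroup.mk' K)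
    (fun h => B.x_notMem_ker h3 l ((QuotientGroup.eq_one_iff D.x).1 h))
  refine hg ?_
  have h1 : QuotientGroup.mk' K (g * D.x * g⁻¹) ∈ (Q : Subgroup (G ⧸ K)) := by
    rw [map_mul, map_mul, map_inv]
    exact hQ.conj_mem _ ⟨D.x, D.x_mem, rfl⟩ _
  obtain ⟨u, hu, hue⟩ := h1
  rw [← D.zp] at hu
  obtain ⟨i, rfl⟩ := hu
  exact ⟨i, (map_zpow _ _ _).symm.trans hue⟩

variable (E : Norm.Split D)

include hχ₀ hfaith hd₀ hnn h3 in
/-- A linear character of the normalizer bounds the number of exceptional constituents. -/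
theorem exists_cap (hμ : fdeg D μ = 1) (hA : ∀ a b : E.Δ.A, a * b = b * a) :
    ∃ w : nrm P →* ℂˣ, w E.Δ.x = 1 ∧ Ext D μ w ∧
      ∀ (ψ : G → ℂ) (a : IrrCharacter G → ℕ), (∀ g, ψ g = ∑ φ, (a φ : ℂ) * (φ : G → ℂ) g) →
        ∀ r : ℤ, wInner ψ w = (r : ℂ) → (B.numY a : ℤ) ≤ r := by
  letI : Fintype (E.Δ.A →* ℂˣ) := Fintype.ofFinite _
  obtain ⟨w₀, hw₀⟩ : ∃ w₀ : E.Δ.A →* ℂˣ, wInner (B.ζ 1 : G → ℂ) (lift E w₀) ≠ 0 := by
    by_contra hall
    push Not at hall
    have h := sum_wInner (E := E) hA (B.ζ 1)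
    rw [Finset.sum_eq_zero fun w _ => hall w] at h
    exact (B.n0_pos hχ₀ hfaith hd₀ hnn h3 1).ne' (by exact_mod_cast h.symm)
  set w := lift E w₀
  have hwx : w E.Δ.x = 1 := lift_x E w₀
  have hext : Ext D μ w := ext_of_ne hμ (B.ov_ζ 1) hw₀
  obtain ⟨m, hm⟩ := exists_nat (Char.isCharacter_irr (B.ζ 1)) w
  have hm1 : 1 ≤ m := Nat.one_le_iff_ne_zero.2 fun h => hw₀ (by rw [hm, h, Nat.cast_zero])
  have hall : ∀ η ∈ B.Y, wInner (η : G → ℂ) w = m := by
    intro η hη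
    obtain ⟨l, rfl⟩ := (B.mem_Y η).1 hη
    rw [← hm]
    refine mul_left_cancel₀ (Char.card_ne_zero (G := nrm P)) ?_
    rw [wInner_split hμ (B.ov_ζ l) (n := fun k => (nP D (B.ζ l) k : ℂ)) (apply_xpow D _) hwx hext,
      wInner_split hμ (B.ov_ζ 1) (n := fun k => (nP D (B.ζ 1) k : ℂ)) (apply_xpow D _) hwx hext,
      B.nP_zero_eq l 1]
    congr 1
    refine Finset.sum_congr rfl fun g hg => ?_
    rw [B.agree _ (B.mem_ζ l) _ (B.mem_ζ 1) g (regular E (Finset.mem_filter.1 hg).2)]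
  refine ⟨w, hwx, hext, fun ψ a hexp r hr => ?_⟩
  have hnat := fun φ : IrrCharacter G => exists_nat (Char.isCharacter_irr φ) w
  choose c hc using hnat
  have hr' : r = ∑ φ, (a φ : ℤ) * c φ := by
    apply Int.cast_injective (α := ℂ)
    rw [← hr, show ψ = fun g => ∑ φ, (a φ : ℂ) * (φ : G → ℂ) g from funext hexp, wInner_sum]
    push_cast
    exact Finset.sum_congr rfl fun φ _ => by rw [hc]
  rw [hr', numY, Nat.cast_sum]
  refine le_trans (Finset.sum_le_sum fun η hη => ?_)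
    (Finset.sum_le_sum_of_subset_of_nonneg (Finset.subset_univ B.Y) fun φ _ _ => by positivity)
  have : c η = m := by exact_mod_cast (hc η).symm.trans (hall η hη)
  rw [this]
  have hm1' : (1 : ℤ) ≤ m := by exact_mod_cast hm1
  nlinarith [Nat.cast_nonneg (α := ℤ) (a η)]

end Blk

end CfsgLib.Char.FeitDegree.Block
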