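import Cfsg.Agent.Lib.Char.FeitDegree.Lattice

/-!
# Modules over a semidirect product `⟨x⟩ A`, given by chains

A chain is a weight vector of `A` together with its images under the powers of `x - 1`.  Two
representations with bases of chains of the same lengths and weights are isomorphic, and a chain
with a suitable functional splits off.
-/

set_option autoImplicit false

namespace CfsgLib.Char.FeitDegree.Chains

open Matrix Polynomial Stable Lattice
open CfsgLib.BrouePuig (commute_aeval)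
open scoped Classical

/-- A group generated by an element of order `p` and a `p'`-subgroup normalizing it. -/
structure Semi (p : ℕ) (N : Type*) [Group N] where
  x : N
  A : Subgroup N
  ord : orderOf x = p
  ε : A →* (ZMod p)ˣ
  conj : ∀ a : A, (a : N) * x * (a : N)⁻¹ = x ^ ((ε a : (ZMod p)ˣ) : ZMod p).val
  decomp : ∀ n : N, ∃ (i : ℕ) (a : A), n = x ^ i * a
  reg : ¬ p ∣ Nat.card A

variable {p : ℕ} {N : Type*} [Group N] (Δ : Semi p N)
  {k : Type*} [Field k]
  {ι κ : Type*} [Fintype ι] [DecidableEq ι] [Fintype κ] [DecidableEq κ]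
  {S : N →* Matrix ι ι k} {S' : N →* Matrix κ κ k}

variable (S) in
/-- The nilpotent part of `x`. -/
def tee : Matrix ι ι k := S Δ.x - 1

theorem tee_add_one : tee Δ S + 1 = S Δ.x := sub_add_cancel _ _

/-- Powers of `x + 1`. -/
theorem exists_pow_sub_one {R : Type*} [Ring R] (T : R) (m : ℕ) :
    ∃ r : R, Commute T r ∧ (T + 1) ^ m - 1 = T * ((m : R) + T * r) := by
  induction m with
  | zero => exact ⟨0, Commute.zero_right T, by simp⟩
  | succ m ih =>
    obtain ⟨r, hr, he⟩ := ih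
    refine ⟨(m : R) + T * r + r, ((m.cast_commute T).symm.add_right ((Commute.refl T).mul_right hr)).add_right hr, ?_⟩
    rw [pow_succ', show (T + 1) * (T + 1) ^ m - 1 = (T + 1) * ((T + 1) ^ m - 1) + T by rw [mul_sub, mul_one]; abel, he,
      Nat.cast_succ]
    simp only [add_mul, mul_add, one_mul, mul_one]
    abel

theorem conj_pow (a : Δ.A) (j : ℕ) :
    S (a : N) * tee Δ S ^ j = ((tee Δ S + 1) ^ ((Δ.ε a : (ZMod p)ˣ) : ZMod p).val - 1) ^ j * S (a : N) := by
  have h1 : S (a : N) * tee Δ S = ((tee Δ S + 1) ^ ((Δ.ε a : (ZMod p)ˣ) : ZMod p).val - 1) * S (a : N) := by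
    rw [tee_add_one, ← map_pow, ← Δ.conj, tee, Matrix.mul_sub, Matrix.mul_one, Matrix.sub_mul, Matrix.one_mul,
      ← map_mul, ← map_mul]
    simp
  induction j with
  | zero => simp
  | succ j ih => rw [pow_succ, ← Matrix.mul_assoc, ih, Matrix.mul_assoc, h1, ← Matrix.mul_assoc, ← pow_succ]

/-- At the top of a chain conjugation is the character. -/
theorem conj_top {L : ℕ} (hL : tee Δ S ^ (L + 1) = 0) (a : Δ.A) :
    S (a : N) * tee Δ S ^ L = ((((Δ.ε a : (ZMod p)ˣ) : ZMod p).val : k) ^ L) • (tee Δ S ^ L * S (a : N)) := by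
  rw [conj_pow]
  obtain ⟨r, hr, he⟩ := exists_pow_sub_one (tee Δ S) ((Δ.ε a : (ZMod p)ˣ) : ZMod p).val
  set m := ((Δ.ε a : (ZMod p)ˣ) : ZMod p).val
  set T := tee Δ S
  rw [he, ((m.cast_commute T).symm.add_right ((Commute.refl T).mul_right hr)).mul_pow]
  have : ∀ j, T ^ L * ((m : Matrix ι ι k) + T * r) ^ j = ((m : k) ^ j) • T ^ L := by
    intro j
    induction j with
    | zero => simp
    | succ j ih =>
      rw [pow_succ', ← Matrix.mul_assoc, Matrix.mul_add, ← Matrix.mul_assoc, ← pow_succ, hL, Matrix.zero_mul, add_zero,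
        ← (m.cast_commute (T ^ L)).eq, Matrix.mul_assoc, ih, ← nsmul_eq_mul, ← Nat.cast_smul_eq_nsmul k, smul_smul,
        ← pow_succ']
  rw [this, Matrix.smul_mul]

variable (S) in
/-- A family of chains forming a basis. -/
structure IsChains {K : Type*} [Fintype K] (L : K → ℕ) (β : K → Δ.A →* k) (v : K → ι → k) : Prop where
  eig : ∀ c (a : Δ.A), S (a : N) *ᵥ v c = β c a • v c
  kill : ∀ c, tee Δ S ^ L c *ᵥ v c = 0
  indep : LinearIndependent k fun w : Σ c, Fin (L c) => tee Δ S ^ (w.2 : ℕ) *ᵥ v w.1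
  card : ∑ c, L c = Fintype.card ι

/-- Chains with independent ends are independent. -/
theorem indep_of_socle {K : Type*} [Fintype K] {L : K → ℕ} {v : K → ι → k} {T : Matrix ι ι k}
    (hkill : ∀ c, T ^ L c *ᵥ v c = 0) (hsoc : LinearIndependent k fun c => T ^ (L c - 1) *ᵥ v c) :
    LinearIndependent k fun w : Σ c, Fin (L c) => T ^ (w.2 : ℕ) *ᵥ v w.1 := by
  refine Fintype.linearIndependent_iff.2 fun g hg => ?_
  by_contra hne
  push Not at hne
  set s := Finset.univ.filter fun w : Σ c, Fin (L c) => g w ≠ 0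
  obtain ⟨w₀, hw₀, hmax⟩ := s.exists_max_image (fun w => L w.1 - 1 - (w.2 : ℕ))
    (by obtain ⟨w, hw⟩ := hne; exact ⟨w, by simp [s, hw]⟩)
  set M := L w₀.1 - 1 - (w₀.2 : ℕ) with hM
  have hkey : ∀ w : Σ c, Fin (L c), g w • (T ^ M *ᵥ (T ^ (w.2 : ℕ) *ᵥ v w.1))
      = if L w.1 - 1 - (w.2 : ℕ) = M then g w • (T ^ (L w.1 - 1) *ᵥ v w.1) else 0 := by
    intro w
    have hlt := w.2.isLt
    by_cases hg0 : g w = 0
    · simp [hg0]
    have hle := hmax w (by simp [s, hg0])
    split_ifs with h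
    · rw [mulVec_mulVec, ← pow_add, show M + (w.2 : ℕ) = L w.1 - 1 by omega]
    · rw [mulVec_mulVec, ← pow_add, show M + (w.2 : ℕ) = (M + w.2 - L w.1) + L w.1 by omega, pow_add,
        ← mulVec_mulVec, hkill, mulVec_zero, smul_zero]
  have hsum := congrArg (T ^ M *ᵥ ·) hg
  simp only [mulVec_sum, mulVec_smul, mulVec_zero, hkey] at hsum
  rw [Fintype.sum_sigma] at hsum
  have hc : ∀ c, ∑ j : Fin (L c), (if L c - 1 - (j : ℕ) = M then g ⟨c, j⟩ • (T ^ (L c - 1) *ᵥ v c) else 0)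
      = (if h : M < L c then g ⟨c, ⟨L c - 1 - M, by omega⟩⟩ else 0) • (T ^ (L c - 1) *ᵥ v c) := by
    intro c
    split_ifs with h
    · rw [Finset.sum_eq_single (⟨L c - 1 - M, by omega⟩ : Fin (L c))]
      · rw [if_pos (by show L c - 1 - (L c - 1 - M) = M; omega)]
      · intro j _ hj
        rw [if_neg]
        intro e
        exact hj (Fin.ext (show (j : ℕ) = L c - 1 - M by have := j.isLt; omega))
      · exact fun h => absurd (Finset.mem_univ _) h
    · rw [zero_smul]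
      refine Finset.sum_eq_zero fun j _ => if_neg ?_
      have := j.isLt; omega
  simp only [hc] at hsum
  have h0 := Fintype.linearIndependent_iff.1 hsoc _ hsum w₀.1
  have hlt := w₀.2.isLt
  rw [dif_pos (by omega)] at h0
  refine (Finset.mem_filter.1 hw₀).2 ?_
  rw [show w₀ = ⟨w₀.1, ⟨L w₀.1 - 1 - M, by omega⟩⟩ from Sigma.ext rfl (heq_of_eq (Fin.ext (by
    show (w₀.2 : ℕ) = L w₀.1 - 1 - M; omega)))]
  exact h0

variable {Δ}

/-- Representations with the same chains are isomorphic. -/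
theorem IsChains.iso {K : Type*} [Fintype K] {K' : Type*} [Fintype K'] {L : K → ℕ} {β : K → Δ.A →* k}
    {v : K → ι → k} (h : IsChains Δ S L β v) {L' : K' → ℕ} {β' : K' → Δ.A →* k} {v' : K' → κ → k}
    (h' : IsChains Δ S' L' β' v') (e : K ≃ K') (hL : ∀ c, L' (e c) = L c) (hβ : ∀ c, β' (e c) = β c) :
    ∃ (a : Matrix κ ι k) (b : Matrix ι κ k), IsEq S S' a ∧ b * a = 1 ∧ a * b = 1 := by
  set B : Module.Basis (Σ c, Fin (L c)) k (ι → k) :=
    basisOfLinearIndependentOfCardEqFinrank' _ h.indep (by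
      rw [Fintype.card_sigma, Module.finrank_pi]; simpa using h.card)
  set e2 : (Σ c, Fin (L c)) ≃ Σ c, Fin (L' c) :=
    (Equiv.sigmaCongrRight fun c => finCongr (hL c).symm).trans
      (Equiv.sigmaCongrLeft (β := fun c => Fin (L' c)) e)
  have he2 : ∀ w : Σ c, Fin (L c), (e2 w).1 = e w.1 ∧ ((e2 w).2 : ℕ) = w.2 := fun w => by
    obtain ⟨c, j⟩ := w
    exact ⟨rfl, rfl⟩
  set B' : Module.Basis (Σ c, Fin (L c)) k (κ → k) :=
    (basisOfLinearIndependentOfCardEqFinrank' _ h'.indep (by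
      rw [Fintype.card_sigma, Module.finrank_pi]; simpa using h'.card)).reindex e2.symm
  set f : (ι → k) ≃ₗ[k] (κ → k) := B.equiv B' (Equiv.refl _)
  have hf : ∀ (c : K) (j : ℕ), f (tee Δ S ^ j *ᵥ v c) = tee Δ S' ^ j *ᵥ v' (e c) := by
    intro c j
    by_cases hj : j < L c
    · have hb : tee Δ S ^ j *ᵥ v c = B ⟨c, ⟨j, hj⟩⟩ := by
        simp [B, coe_basisOfLinearIndependentOfCardEqFinrank']
      rw [hb, Module.Basis.equiv_apply, Equiv.refl_apply]
      simp only [B', Module.Basis.reindex_apply, Equiv.symm_symm, coe_basisOfLinearIndependentOfCardEqFinrank']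
      have key : ∀ w' : Σ c, Fin (L' c), w'.1 = e c → (w'.2 : ℕ) = j →
          tee Δ S' ^ (w'.2 : ℕ) *ᵥ v' w'.1 = tee Δ S' ^ j *ᵥ v' (e c) := fun w' e1 e2 => by rw [e2, e1]
      exact key _ (he2 ⟨c, ⟨j, hj⟩⟩).1 (he2 ⟨c, ⟨j, hj⟩⟩).2
    · obtain ⟨d, rfl⟩ : ∃ d, j = d + L c := ⟨j - L c, by omega⟩
      rw [pow_add, ← mulVec_mulVec, h.kill, mulVec_zero, map_zero, pow_add, ← mulVec_mulVec, ← hL, h'.kill,
        mulVec_zero]
  have hext : ∀ F F' : (ι → k) →ₗ[k] (κ → k),
      (∀ c j, F (tee Δ S ^ j *ᵥ v c) = F' (tee Δ S ^ j *ᵥ v c)) → F = F' := fun F F' hh =>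
    B.ext fun w => by
      have := hh w.1 w.2
      simpa [B, coe_basisOfLinearIndependentOfCardEqFinrank'] using this
  have hT : ∀ u, f (tee Δ S *ᵥ u) = tee Δ S' *ᵥ f u := fun u => by
    refine LinearMap.congr_fun (hext (f.toLinearMap ∘ₗ (Matrix.toLin' (tee Δ S)))
      ((Matrix.toLin' (tee Δ S')) ∘ₗ f.toLinearMap) fun c j => ?_) u
    simp only [LinearMap.comp_apply, LinearEquiv.coe_coe, Matrix.toLin'_apply, mulVec_mulVec, ← pow_succ']
    rw [hf, hf, mulVec_mulVec, ← pow_succ']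
  have hpoly : ∀ (q : k[X]) u, f (aeval (tee Δ S) q *ᵥ u) = aeval (tee Δ S') q *ᵥ f u := by
    intro q
    induction q using Polynomial.induction_on with
    | C c => intro u; simp [Algebra.algebraMap_eq_smul_one, smul_mulVec]
    | add q q' hq hq' => intro u; simp [add_mulVec, hq, hq']
    | monomial n c ih =>
      intro u
      rw [pow_succ, ← mul_assoc, map_mul, map_mul _ _ Polynomial.X, aeval_X, aeval_X, ← mulVec_mulVec,
        ← mulVec_mulVec, ih, hT]
  have hA : ∀ (a : Δ.A) u, f (S (a : N) *ᵥ u) = S' (a : N) *ᵥ f u := fun a u => by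
    refine LinearMap.congr_fun (hext (f.toLinearMap ∘ₗ (Matrix.toLin' (S (a : N))))
      ((Matrix.toLin' (S' (a : N))) ∘ₗ f.toLinearMap) fun c j => ?_) u
    set q : k[X] := ((Polynomial.X + 1) ^ ((Δ.ε a : (ZMod p)ˣ) : ZMod p).val - 1) ^ j
    simp only [LinearMap.comp_apply, LinearEquiv.coe_coe, Matrix.toLin'_apply]
    rw [hf, mulVec_mulVec, mulVec_mulVec, conj_pow, conj_pow, ← mulVec_mulVec, ← mulVec_mulVec, h.eig, h'.eig, hβ,
      mulVec_smul, mulVec_smul, map_smul]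
    have := hpoly q (v c)
    simp only [q, map_pow, map_sub, map_add, aeval_X, map_one] at this
    rw [this]
    congr 1
    have := hf c 0
    simp only [pow_zero, one_mulVec] at this
    rw [this]
  have hn : ∀ (n : N) u, f (S n *ᵥ u) = S' n *ᵥ f u := fun n u => by
    obtain ⟨i, a, rfl⟩ := Δ.decomp n
    rw [map_mul, map_mul, map_pow, map_pow, ← mulVec_mulVec, ← mulVec_mulVec, ← hA, ← tee_add_one Δ (S := S),
      ← tee_add_one Δ (S := S')]
    have := hpoly ((Polynomial.X + 1) ^ i) (S (a : N) *ᵥ u)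
    simpa using this
  refine ⟨LinearMap.toMatrix' f.toLinearMap, LinearMap.toMatrix' f.symm.toLinearMap, fun n => ?_, ?_, ?_⟩
  · refine Matrix.toLin'.injective (LinearMap.ext fun u => ?_)
    simp only [Matrix.toLin'_mul, LinearMap.comp_apply, Matrix.toLin'_toMatrix', Matrix.toLin'_apply,
      LinearEquiv.coe_coe]
    exact (hn n u).symm
  · rw [← LinearMap.toMatrix'_comp]; simp
  · rw [← LinearMap.toMatrix'_comp]; simp

/-- Isomorphic representations have the same chains. -/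
theorem IsChains.map {K : Type*} [Fintype K] {L : K → ℕ} {β : K → Δ.A →* k} {v : K → ι → k}
    (h : IsChains Δ S L β v) {a : Matrix κ ι k} {b : Matrix ι κ k} (ha : IsEq S S' a) (hba : b * a = 1)
    (hab : a * b = 1) : IsChains Δ S' L β fun c => a *ᵥ v c := by
  have hpow : ∀ j, tee Δ S' ^ j * a = a * tee Δ S ^ j := fun j => by
    induction j with
    | zero => simp
    | succ j ih =>
      rw [pow_succ', Matrix.mul_assoc, ih, ← Matrix.mul_assoc, tee, Matrix.sub_mul, ha, Matrix.one_mul,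
        pow_succ', ← Matrix.mul_assoc a, tee, Matrix.mul_sub, Matrix.mul_one]
  have hinj : LinearMap.ker (Matrix.toLin' a) = ⊥ := LinearMap.ker_eq_bot.2 fun u u' e => by
    have := congrArg (b *ᵥ ·) (show a *ᵥ u = a *ᵥ u' from e)
    simpa [hba] using this
  refine ⟨fun c x => ?_, fun c => ?_, ?_, ?_⟩
  · rw [mulVec_mulVec, ha, ← mulVec_mulVec, h.eig, mulVec_smul]
  · rw [mulVec_mulVec, hpow, ← mulVec_mulVec, h.kill, mulVec_zero]
  · have := h.indep.map' _ hinj
    have e1 : (fun w : Σ c, Fin (L c) => tee Δ S' ^ (w.2 : ℕ) *ᵥ (a *ᵥ v w.1))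
        = (⇑(Matrix.toLin' a) ∘ fun w : Σ c, Fin (L c) => tee Δ S ^ (w.2 : ℕ) *ᵥ v w.1) := funext fun w => by
      rw [Function.comp_apply, Matrix.toLin'_apply, mulVec_mulVec, mulVec_mulVec, hpow]
    rw [e1]
    exact this
  · rw [h.card]
    have h1 : (b * a).trace = (a * b).trace := Matrix.trace_mul_comm _ _
    rw [hba, hab, Matrix.trace_one, Matrix.trace_one] at h1
    have e := (Matrix.toLin'OfInv hba hab).finrank_eq
    simpa using e

/-- The chains of a direct sum. -/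
theorem IsChains.dsum {K K' : Type*} [Fintype K] [Fintype K'] {L : K → ℕ} {β : K → Δ.A →* k} {v : K → ι → k}
    (h : IsChains Δ S L β v) {L' : K' → ℕ} {β' : K' → Δ.A →* k} {v' : K' → κ → k}
    (h' : IsChains Δ S' L' β' v') :
    IsChains Δ (Stable.dsum S S') (Sum.elim L L') (Sum.elim β β')
      (Sum.elim (fun c => Sum.elim (v c) 0) fun c => Sum.elim 0 (v' c)) := by
  have hl : ∀ (n : N) u, Stable.dsum S S' n *ᵥ Sum.elim u (0 : κ → k) = Sum.elim (S n *ᵥ u) (0 : κ → k) := fun n u => by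
    rw [dsum_apply, fromBlocks_mulVec]; simp
  have hr : ∀ (n : N) u, Stable.dsum S S' n *ᵥ Sum.elim (0 : ι → k) u = Sum.elim (0 : ι → k) (S' n *ᵥ u) := fun n u => by
    rw [dsum_apply, fromBlocks_mulVec]; simp
  have hz : ∀ j, tee Δ (Stable.dsum S S') ^ j = fromBlocks (tee Δ S ^ j) 0 0 (tee Δ S' ^ j) := fun j => by
    induction j with
    | zero => simp [fromBlocks_one]
    | succ j ih =>
      have ht : tee Δ (Stable.dsum S S') = fromBlocks (tee Δ S) 0 0 (tee Δ S') := by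
        ext (i | i) (l | l) <;> simp [tee, dsum_apply, Matrix.one_apply]
      rw [pow_succ, ih, ht, fromBlocks_multiply]
      simp [pow_succ]
  refine ⟨?_, ?_, ?_, ?_⟩
  · rintro (c | c) a
    · simp only [Sum.elim_inl]; rw [hl, h.eig]; ext (i | i) <;> simp
    · simp only [Sum.elim_inr]; rw [hr, h'.eig]; ext (i | i) <;> simp
  · rintro (c | c) <;> rw [hz] <;> simp [fromBlocks_mulVec, h.kill, h'.kill]
  · refine Fintype.linearIndependent_iff.2 fun g hg => ?_
    rw [Fintype.sum_sigma, Fintype.sum_sum_type] at hg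
    have e1 := congrArg (· ∘ Sum.inl) hg
    have e2 := congrArg (· ∘ Sum.inr) hg
    have f1 := Fintype.linearIndependent_iff.1 h.indep (fun w => g ⟨Sum.inl w.1, w.2⟩) (by
      rw [Fintype.sum_sigma]
      funext i
      have := congrFun e1 i
      simp [hz, fromBlocks_mulVec, Finset.sum_apply, Fintype.sum_sigma] at this ⊢
      convert this using 1
      rfl)
    have f2 := Fintype.linearIndependent_iff.1 h'.indep (fun w => g ⟨Sum.inr w.1, w.2⟩) (by
      rw [Fintype.sum_sigma]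
      funext i
      have := congrFun e2 i
      simp [hz, fromBlocks_mulVec, Finset.sum_apply, Fintype.sum_sigma] at this ⊢
      convert this using 1
      rfl)
    rintro ⟨c | c, j⟩
    · exact f1 ⟨c, j⟩
    · exact f2 ⟨c, j⟩
  · rw [Fintype.sum_sum_type, Fintype.card_sum, ← h.card, ← h'.card]
    simp

section Split

variable [Fintype N] [CharP k p] [hp : Fact p.Prime]

/-- The number of elements of `A` is invertible. -/
theorem card_ne_zero : (Fintype.card Δ.A : k) ≠ 0 := fun h => Δ.reg <| by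
  rw [Nat.card_eq_fintype_card]; exact (CharP.cast_eq_zero_iff k p _).1 h

/-- A chain with a functional seeing its end splits off. -/
theorem exists_chain_summand {v : ι → k} {β : Δ.A →* k} (hv : ∀ a : Δ.A, S (a : N) *ᵥ v = β a • v) {L : ℕ}
    (hkill : tee Δ S ^ L *ᵥ v = 0) (φ : (ι → k) →ₗ[k] k) (hφ : ∀ u, φ (tee Δ S ^ L *ᵥ u) = 0)
    (hφv : φ (tee Δ S ^ (L - 1) *ᵥ v) ≠ 0) :
    ∃ (U : N →* Matrix (Fin L) (Fin L) k) (i : Matrix ι (Fin L) k) (r : Matrix (Fin L) ι k) (v₀ : Fin L → k),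
      IsEq U S i ∧ IsEq S U r ∧ r * i = 1 ∧ i *ᵥ v₀ = v ∧
      IsChains Δ U (fun _ : Unit => L) (fun _ => β) (fun _ => v₀) := by
  set T := tee Δ S with hT
  have hL : 0 < L := by
    by_contra h0
    obtain rfl : L = 0 := by omega
    exact hφv (by rw [Nat.zero_sub, hkill, map_zero])
  have hsoc : T ^ (L - 1) *ᵥ v ≠ 0 := fun e => hφv (by rw [e, map_zero])
  have hind : LinearIndependent k fun j : Fin L => T ^ (j : ℕ) *ᵥ v := by
    have := indep_of_socle (K := Unit) (L := fun _ => L) (v := fun _ => v) (T := T) (fun _ => hkill)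
      (linearIndependent_unique_iff.2 hsoc)
    exact this.comp (fun j => ⟨(), j⟩) fun j j' e => eq_of_heq (Sigma.mk.inj e).2
  set i : Matrix ι (Fin L) k := fun s j => (T ^ (j : ℕ) *ᵥ v) s
  have hi : ∀ u : Fin L → k, i *ᵥ u = ∑ j, u j • (T ^ (j : ℕ) *ᵥ v) := fun u => by
    ext s; simp [i, mulVec, dotProduct, Finset.sum_apply, mul_comm]
  have hiinj : Function.Injective (i *ᵥ ·) := fun u u' e => by
    simp only [hi] at e
    rw [← sub_eq_zero, ← Finset.sum_sub_distrib] at e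
    simp only [← sub_smul] at e
    exact funext fun j => sub_eq_zero.1 (Fintype.linearIndependent_iff.1 hind _ e j)
  set V : Submodule k (ι → k) := LinearMap.range i.mulVecLin
  have hVpow : ∀ j, T ^ j *ᵥ v ∈ V := fun j => by
    by_cases hj : j < L
    · exact ⟨Pi.single ⟨j, hj⟩ 1, by
        rw [Matrix.mulVecLin_apply, hi, Finset.sum_eq_single (⟨j, hj⟩ : Fin L)] <;> simp +contextual⟩
    · rw [show j = (j - L) + L by omega, pow_add, ← mulVec_mulVec, hkill, mulVec_zero]; exact V.zero_mem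
  have hVpoly : ∀ q : k[X], aeval T q *ᵥ v ∈ V := fun q => by
    rw [aeval_eq_sum_range, sum_mulVec]
    exact V.sum_mem fun j _ => by rw [smul_mulVec]; exact V.smul_mem _ (hVpow j)
  have hVpoly' : ∀ (q : k[X]) u, u ∈ V → aeval T q *ᵥ u ∈ V := by
    rintro q _ ⟨u, rfl⟩
    rw [Matrix.mulVecLin_apply, hi, mulVec_sum]
    refine V.sum_mem fun j _ => ?_
    rw [mulVec_smul, mulVec_mulVec]
    refine V.smul_mem _ ?_
    have := hVpoly (q * Polynomial.X ^ (j : ℕ))
    simpa using this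
  have hVA : ∀ (a : Δ.A) u, u ∈ V → S (a : N) *ᵥ u ∈ V := by
    rintro a _ ⟨u, rfl⟩
    rw [Matrix.mulVecLin_apply, hi, mulVec_sum]
    refine V.sum_mem fun j _ => ?_
    rw [mulVec_smul, mulVec_mulVec, conj_pow, ← mulVec_mulVec, hv, mulVec_smul, ← hT]
    refine V.smul_mem _ (V.smul_mem _ ?_)
    have := hVpoly (((Polynomial.X + 1) ^ ((Δ.ε a : (ZMod p)ˣ) : ZMod p).val - 1) ^ (j : ℕ))
    simpa using this
  -- the retraction over `⟨x⟩`
  set q : k[X] := ∑ m ∈ Finset.range L, C (φ (T ^ (L - 1 - m) *ᵥ v)) * Polynomial.X ^ m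
  have hq0 : q.coeff 0 = φ (T ^ (L - 1) *ᵥ v) := by
    simp only [q, finsetSum_coeff, coeff_C_mul, coeff_X_pow]
    rw [Finset.sum_eq_single 0] <;> simp +contextual [hL, eq_comm]
  obtain ⟨r', s', hrs⟩ : IsCoprime q (Polynomial.X ^ L) := by
    refine IsCoprime.pow_right ((Polynomial.irreducible_X.coprime_iff_not_dvd).2 ?_).symm
    rwa [Polynomial.X_dvd_iff, hq0]
  let Qm : Matrix ι ι k := fun s s' => ∑ j ∈ Finset.range L,
    φ (T ^ (L - 1 - j) *ᵥ Pi.single s' 1) * (T ^ j *ᵥ v) s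
  have hQm : ∀ u, Qm *ᵥ u = ∑ j ∈ Finset.range L, φ (T ^ (L - 1 - j) *ᵥ u) • (T ^ j *ᵥ v) := fun u => by
    have hu : u = ∑ s', u s' • (Pi.single s' 1 : ι → k) := by
      ext s; simp [Finset.sum_apply, Pi.single_apply]
    conv_rhs => rw [hu]
    ext s
    simp only [mulVec_sum, mulVec_smul, map_sum, map_smul, Finset.sum_apply, Pi.smul_apply, smul_eq_mul,
      Finset.sum_mul, Qm, mulVec, dotProduct]
    rw [Finset.sum_comm]
    exact Finset.sum_congr rfl fun a _ => Finset.sum_congr rfl fun b _ => by ring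
  have hQT : ∀ u, Qm *ᵥ (T *ᵥ u) = T *ᵥ (Qm *ᵥ u) := fun u => by
    rw [hQm, hQm, mulVec_sum]
    simp only [mulVec_smul, mulVec_mulVec, ← pow_succ', ← pow_succ]
    obtain ⟨L', rfl⟩ : ∃ L', L = L' + 1 := ⟨L - 1, by omega⟩
    rw [Finset.sum_range_succ', Finset.sum_range_succ (n := L'), hkill, smul_zero, add_zero]
    simp only [Nat.add_sub_cancel, Nat.sub_zero, hφ, zero_smul, add_zero]
    exact Finset.sum_congr rfl fun j hj => by
      rw [show L' - (j + 1) + 1 = L' - j by have := Finset.mem_range.1 hj; omega]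
  have hQv : ∀ j, Qm *ᵥ (T ^ j *ᵥ v) = aeval T q *ᵥ (T ^ j *ᵥ v) := fun j => by
    induction j with
    | zero =>
      rw [pow_zero, one_mulVec, hQm]
      simp only [q, map_sum, map_mul, aeval_C, aeval_X, map_pow, sum_mulVec, ← Algebra.smul_def, smul_mulVec]
    | succ j ih =>
      rw [pow_succ', ← mulVec_mulVec, hQT, ih, mulVec_mulVec, mulVec_mulVec, mulVec_mulVec,
        (commute_aeval (Commute.refl T) q).eq, mulVec_mulVec, Matrix.mul_assoc]
  set R₀ := aeval T r' * Qm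
  have hR₀V : ∀ u, R₀ *ᵥ u ∈ V := fun u => by
    rw [← mulVec_mulVec, hQm]
    exact hVpoly' _ _ (V.sum_mem fun j _ => V.smul_mem _ (hVpow j))
  have hR₀fix : ∀ u ∈ V, R₀ *ᵥ u = u := by
    rintro _ ⟨u, rfl⟩
    rw [Matrix.mulVecLin_apply, hi, mulVec_sum]
    refine Finset.sum_congr rfl fun j _ => ?_
    rw [mulVec_smul, ← mulVec_mulVec, hQv, mulVec_mulVec, ← map_mul,
      show r' * q = 1 - s' * Polynomial.X ^ L by rw [← hrs]; ring, map_sub, map_one, map_mul, map_pow, aeval_X,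
      sub_mulVec, one_mulVec, ← mulVec_mulVec, mulVec_mulVec (M := T ^ L), ← pow_add, add_comm, pow_add,
      ← mulVec_mulVec, hkill, mulVec_zero, mulVec_zero, sub_zero]
  have hR₀x : Commute (S Δ.x) R₀ := by
    have h1 : Commute T Qm := by
      refine Matrix.toLin'.injective (LinearMap.ext fun u => ?_)
      simp only [Matrix.toLin'_apply, ← mulVec_mulVec]
      exact (hQT u).symm
    have h2 : Commute T R₀ := (commute_aeval (Commute.refl T) r').mul_right h1
    rw [← tee_add_one Δ]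
    exact h2.add_left (Commute.one_left _)
  -- average over `A`
  set e : Matrix ι ι k := (Fintype.card Δ.A : k)⁻¹ • ∑ a : Δ.A, S (a : N) * R₀ * S ((a : N)⁻¹)
  have hexA : ∀ a : Δ.A, Commute (S (a : N)) e := fun a => by
    refine Commute.smul_right ?_ _
    show _ * _ = _ * _
    rw [Matrix.mul_sum, Matrix.sum_mul]
    refine Fintype.sum_equiv (Equiv.mulLeft a) _ _ fun b => ?_
    simp only [Equiv.coe_mulLeft, Subgroup.coe_mul, _root_.mul_inv_rev, map_mul, Matrix.mul_assoc,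
      inv_mul_eq_one' (S := S), Matrix.mul_one]
  have hex : Commute (S Δ.x) e := by
    refine Commute.smul_right (Commute.sum_right _ _ _ fun a _ => ?_) _
    have hc : (a : N)⁻¹ * Δ.x * (a : N) = Δ.x ^ ((Δ.ε a⁻¹ : (ZMod p)ˣ) : ZMod p).val := by
      rw [← Δ.conj]; simp
    have h1 : Commute (S ((a : N)⁻¹ * Δ.x * (a : N))) R₀ := by rw [hc, map_pow]; exact hR₀x.pow_left _
    have e1 : S Δ.x * S (a : N) = S (a : N) * S ((a : N)⁻¹ * Δ.x * (a : N)) := by
      rw [← map_mul, ← map_mul]; congr 1; group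
    have e2 : S ((a : N)⁻¹ * Δ.x * (a : N)) * S ((a : N)⁻¹) = S ((a : N)⁻¹) * S Δ.x := by
      rw [← map_mul, ← map_mul]; congr 1; group
    show _ * _ = _ * _
    rw [← Matrix.mul_assoc, ← Matrix.mul_assoc, e1, Matrix.mul_assoc (S (a : N)), h1.eq]
    simp only [Matrix.mul_assoc, e2]
  have heN : ∀ n, Commute (S n) e := fun n => by
    obtain ⟨j, a, rfl⟩ := Δ.decomp n
    rw [map_mul, map_pow]
    exact (hex.pow_left j).mul_left (hexA a)
  have heV : ∀ u, e *ᵥ u ∈ V := fun u => by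
    rw [smul_mulVec, sum_mulVec]
    refine V.smul_mem _ (V.sum_mem fun a _ => ?_)
    rw [Matrix.mul_assoc, ← mulVec_mulVec, ← mulVec_mulVec]
    exact hVA a _ (hR₀V _)
  have hefix : ∀ u ∈ V, e *ᵥ u = u := fun u hu => by
    have : ∀ a : Δ.A, (S (a : N) * R₀ * S ((a : N)⁻¹)) *ᵥ u = u := fun a => by
      rw [← mulVec_mulVec, ← mulVec_mulVec, ← Subgroup.coe_inv, hR₀fix _ (hVA _ _ hu), mulVec_mulVec, ← map_mul,
        Subgroup.coe_inv, mul_inv_cancel, map_one, one_mulVec]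
    rw [smul_mulVec, sum_mulVec, Finset.sum_congr rfl fun a _ => this a, Finset.sum_const, Finset.card_univ,
      ← Nat.cast_smul_eq_nsmul k, smul_smul, inv_mul_cancel₀ (card_ne_zero (Δ := Δ)), one_smul]
  obtain ⟨il, hil⟩ : ∃ il : Matrix (Fin L) ι k, il * i = 1 := by
    obtain ⟨g, hg⟩ := LinearMap.exists_leftInverse_of_injective (Matrix.toLin' i) (LinearMap.ker_eq_bot.2 hiinj)
    refine ⟨LinearMap.toMatrix' g, Matrix.toLin'.injective ?_⟩
    rw [Matrix.toLin'_mul, Matrix.toLin'_toMatrix', hg, Matrix.toLin'_one]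
  set r := il * e
  have hri : r * i = 1 := by
    refine Matrix.toLin'.injective (LinearMap.ext fun u => ?_)
    simp only [Matrix.toLin'_apply]
    rw [← mulVec_mulVec u r i, show r = il * e from rfl, ← mulVec_mulVec (i *ᵥ u) il e, hefix (i *ᵥ u) ⟨u, Matrix.mulVecLin_apply i u⟩,
      mulVec_mulVec u il i, hil]
  have hir : i * r = e := by
    refine Matrix.toLin'.injective (LinearMap.ext fun u => ?_)
    simp only [Matrix.toLin'_apply, r, ← mulVec_mulVec]
    obtain ⟨w, hw⟩ := heV u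
    rw [← hw, Matrix.mulVecLin_apply, mulVec_mulVec w il i, hil, one_mulVec]
  have hE : IsEq S S (i * r) := by rw [hir]; exact fun n => heN n
  set v₀ : Fin L → k := Pi.single ⟨0, hL⟩ 1
  have hiv : i *ᵥ v₀ = v := by
    rw [hi, Finset.sum_eq_single (⟨0, hL⟩ : Fin L)] <;> simp +contextual [v₀]
  obtain ⟨hI, hR⟩ := Lattice.isEq_corner hri hE
  set U := Lattice.corner S i r hri hE
  have hpow : ∀ j, T ^ j * i = i * tee Δ U ^ j := fun j => by
    induction j with
    | zero => simp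
    | succ j ih =>
      rw [pow_succ', Matrix.mul_assoc, ih, ← Matrix.mul_assoc, pow_succ', ← Matrix.mul_assoc i]
      congr 1
      rw [hT, tee, tee, Matrix.sub_mul, hI, Matrix.one_mul, Matrix.mul_sub, Matrix.mul_one]
  refine ⟨U, i, r, v₀, hI, hR, hri, hiv, ⟨fun _ a => hiinj ?_, fun _ => hiinj ?_, ?_, by simp⟩⟩
  · show i *ᵥ _ = i *ᵥ _
    rw [mulVec_mulVec, ← hI, ← mulVec_mulVec, hiv, hv, mulVec_smul, hiv]
  · show i *ᵥ _ = i *ᵥ _
    rw [mulVec_mulVec, ← hpow, ← mulVec_mulVec, hiv, hkill, mulVec_zero]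
  · refine LinearIndependent.of_comp i.mulVecLin ?_
    have e1 : (i.mulVecLin ∘ fun w : Σ _ : Unit, Fin L => tee Δ U ^ (w.2 : ℕ) *ᵥ v₀)
        = fun w => T ^ (w.2 : ℕ) *ᵥ v := funext fun w => by
      simp only [Function.comp_apply, Matrix.mulVecLin_apply, mulVec_mulVec, ← hpow]
      rw [← mulVec_mulVec, hiv]
    rw [e1]
    refine hind.comp (fun w : Σ _ : Unit, Fin L => w.2) ?_
    rintro ⟨⟨⟩, j⟩ ⟨⟨⟩, j'⟩ e
    obtain rfl : j = j' := e
    rfl

end Split

section Weight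

/-- Inversion in a commutative group. -/
def invHom {H : Type*} [Group H] (hcomm : ∀ a b : H, a * b = b * a) : H →* H where
  toFun a := a⁻¹
  map_one' := inv_one
  map_mul' a b := by rw [_root_.mul_inv_rev, hcomm]

/-- A commuting family of invertible matrices stabilizing a nonzero subspace has a common eigenvector in it. -/
theorem exists_weight [IsAlgClosed k] {H : Type*} [Group H] (F : H →* Matrix ι ι k) (hcomm : ∀ a b : H, a * b = b * a) :
    ∀ (W : Submodule k (ι → k)), W ≠ ⊥ → (∀ a, ∀ u ∈ W, F a *ᵥ u ∈ W) →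
      ∃ w ∈ W, w ≠ 0 ∧ ∃ β : H →* k, ∀ a, F a *ᵥ w = β a • w := by
  intro W
  induction h : Module.finrank k W using Nat.strong_induction_on generalizing W with
  | _ n ih =>
  intro hW hinv
  by_cases hscal : ∀ a, ∃ c : k, ∀ u ∈ W, F a *ᵥ u = c • u
  · obtain ⟨w, hwW, hw0⟩ := Submodule.exists_mem_ne_zero_of_ne_bot hW
    choose c hc using hscal
    refine ⟨w, hwW, hw0, { toFun := c, map_one' := ?_, map_mul' := fun a b => ?_ }, fun a => hc a w hwW⟩
    · have := hc 1 w hwW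
      rw [map_one, one_mulVec] at this
      exact smul_left_injective k hw0 (show c 1 • w = (1 : k) • w by rw [one_smul]; exact this.symm)
    · have := hc (a * b) w hwW
      rw [map_mul, ← mulVec_mulVec, hc b w hwW, mulVec_smul, hc a w hwW, smul_smul] at this
      exact smul_left_injective k hw0 (show c (a * b) • w = (c a * c b) • w by rw [← this, mul_comm])
  push Not at hscal
  obtain ⟨a, ha⟩ := hscal
  let f : W →ₗ[k] W := (F a).mulVecLin.restrict (hinv a)
  haveI : Nontrivial W := Submodule.nontrivial_iff_ne_bot.2 hW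
  obtain ⟨c, hc⟩ := Module.End.exists_eigenvalue f
  set W' := W ⊓ LinearMap.ker ((F a).mulVecLin - c • LinearMap.id)
  have hmem : ∀ u, u ∈ W' ↔ u ∈ W ∧ F a *ᵥ u = c • u := fun u => by
    simp [W', LinearMap.mem_ker, sub_eq_zero]
  have hne : W' ≠ ⊥ := by
    obtain ⟨⟨u, huW⟩, hu, hu0⟩ := hc.exists_hasEigenvector
    intro e
    refine hu0 (Subtype.ext ?_)
    have hu' : f ⟨u, huW⟩ = c • (⟨u, huW⟩ : W) := Module.End.mem_eigenspace_iff.1 hu
    have h1 := congrArg Subtype.val hu'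
    have : u ∈ W' := (hmem u).2 ⟨huW, h1⟩
    rwa [e, Submodule.mem_bot] at this
  have hlt : W' < W := lt_of_le_of_ne inf_le_left fun e => by
    obtain ⟨u, hu, hne⟩ := ha c
    exact hne ((hmem u).1 (e.symm ▸ hu)).2
  obtain ⟨w, hw, hw0, hβ⟩ := ih _ (h ▸ Submodule.finrank_lt_finrank_of_lt hlt) W' rfl hne fun b u hu => by
    obtain ⟨h1, h2⟩ := (hmem u).1 hu
    refine (hmem _).2 ⟨hinv b u h1, ?_⟩
    rw [mulVec_mulVec, ← map_mul, hcomm, map_mul, ← mulVec_mulVec, h2, mulVec_smul]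
  exact ⟨w, ((hmem w).1 hw).1, hw0, hβ⟩

variable [Fintype N] [CharP k p] [hp : Fact p.Prime] [IsAlgClosed k]

/-- The top of the longest chain can be taken to be a weight vector. -/
theorem exists_top (hcomm : ∀ a b : Δ.A, a * b = b * a) {L : ℕ} (hL : tee Δ S ^ (L + 1) = 0)
    (hne : tee Δ S ^ L ≠ 0) :
    ∃ (v : ι → k) (β : Δ.A →* k), (∀ a : Δ.A, S (a : N) *ᵥ v = β a • v) ∧ tee Δ S ^ L *ᵥ v ≠ 0 := by
  set T := tee Δ S
  set W : Submodule k (ι → k) := LinearMap.range (T ^ L).mulVecLin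
  have hW : W ≠ ⊥ := fun e => hne (Matrix.toLin'.injective (by
    rw [map_zero, ← LinearMap.range_eq_bot]; exact e))
  have hinv : ∀ a : Δ.A, ∀ u ∈ W, S (a : N) *ᵥ u ∈ W := by
    rintro a _ ⟨u, rfl⟩
    rw [Matrix.mulVecLin_apply, mulVec_mulVec, conj_top Δ hL, smul_mulVec]
    exact W.smul_mem _ ⟨S (a : N) *ᵥ u, by rw [Matrix.mulVecLin_apply, mulVec_mulVec]⟩
  obtain ⟨w, ⟨u, rfl⟩, hw0, β', hβ'⟩ := exists_weight (S.comp Δ.A.subtype) hcomm W hW hinv
  let m : Δ.A →* k := (powMonoidHom L : k →* k).comp ((ZMod.castHom (dvd_refl p) k).toMonoidHom.comp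
    ((Units.coeHom (ZMod p)).comp Δ.ε))
  have hm : ∀ a, m a = ((((Δ.ε a : (ZMod p)ˣ) : ZMod p).val : k) ^ L) := fun a => by
    show (ZMod.castHom (dvd_refl p) k _) ^ L = _
    rw [ZMod.castHom_apply, ← ZMod.natCast_val]
    rfl
  have hminv : ∀ a, m a * m a⁻¹ = 1 := fun a => by rw [← map_mul, mul_inv_cancel, map_one]
  let β : Δ.A →* k := β' * (m.comp (invHom hcomm))
  set v₀ := (Fintype.card Δ.A : k)⁻¹ • ∑ a : Δ.A, β a⁻¹ • (S (a : N) *ᵥ u)
  have hβinv : ∀ a, β a * β a⁻¹ = 1 := fun a => by rw [← map_mul, mul_inv_cancel, map_one]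
  refine ⟨v₀, β, fun b => ?_, ?_⟩
  · rw [mulVec_smul, smul_comm (β b)]
    congr 1
    rw [mulVec_sum, Finset.smul_sum]
    refine Fintype.sum_equiv (Equiv.mulLeft b) _ _ fun a => ?_
    simp only [Equiv.coe_mulLeft, Subgroup.coe_mul, _root_.mul_inv_rev, map_mul, mulVec_smul, mulVec_mulVec, smul_smul]
    rw [mul_left_comm, hβinv, mul_one]
  · have key : ∀ a : Δ.A, β a⁻¹ • (T ^ L *ᵥ (S (a : N) *ᵥ u)) = T ^ L *ᵥ u := fun a => by
      have h1 : β' a • (T ^ L *ᵥ u) = m a • (T ^ L *ᵥ (S (a : N) *ᵥ u)) := by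
        have h0 := hβ' a
        rw [Matrix.mulVecLin_apply, MonoidHom.comp_apply, Subgroup.coe_subtype] at h0
        rw [← h0, mulVec_mulVec,
          conj_top Δ hL, smul_mulVec, ← hm, mulVec_mulVec]
      have h2 : T ^ L *ᵥ (S (a : N) *ᵥ u) = (m a⁻¹ * β' a) • (T ^ L *ᵥ u) := by
        rw [mul_smul, h1, smul_smul, mul_comm, hminv, one_smul]
      rw [h2, smul_smul]
      convert one_smul k (T ^ L *ᵥ u) using 2
      show β' a⁻¹ * m a⁻¹⁻¹ * (m a⁻¹ * β' a) = 1
      rw [inv_inv, show β' a⁻¹ * m a * (m a⁻¹ * β' a) = m a * m a⁻¹ * (β' a⁻¹ * β' a) by ring, hminv, one_mul,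
        ← map_mul, inv_mul_cancel, map_one]
    rw [mulVec_smul, mulVec_sum]
    simp only [mulVec_smul, key, Finset.sum_const, Finset.card_univ, ← Nat.cast_smul_eq_nsmul k, smul_smul]
    rw [inv_mul_cancel₀ (card_ne_zero (Δ := Δ)), one_smul]
    exact hw0

end Weight

end CfsgLib.Char.FeitDegree.Chains
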