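import Cfsg.Agent.Lib.Char.FeitDegree.ConicSym
import Cfsg.Agent.Lib.Classical.Dickson.Main
import Cfsg.Agent.Lib.Classical.Dickson.PSL
import Cfsg.Agent.Lib.Classical.Dickson.Big

/-!
# Three-dimensional orthogonal groups in characteristic `p`

A three-dimensional orthogonal representation with an element acting as a single unipotent block
maps into a finite `PGL₂`; Dickson's theorem then gives the fusion of an element of order `p`.
-/

set_option autoImplicit false
set_option linter.unusedSectionVars false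

namespace CfsgLib.Char.FeitDegree.Conic

open Matrix

/-- A finite subfield containing given elements of finite subfields. -/
theorem exists_finite_subfield {p : ℕ} [Fact p.Prime] {K : Type*} [Field K] [CharP K p]
    (halg : ∀ a : K, ∃ n : ℕ, 0 < n ∧ a ^ (p ^ n) = a) {ι : Type*} [Fintype ι] (a : ι → K) :
    ∃ F : Subfield K, Finite F ∧ ∀ i, a i ∈ F := by
  choose n hn hna using fun i => halg (a i)
  set N := ∏ i, n i with hN
  have hN0 : 0 < N := Finset.prod_pos fun i _ => hn i
  let φ : K →+* K := iterateFrobenius K p N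
  refine ⟨φ.eqLocusField (RingHom.id K), ?_, fun i => ?_⟩
  · have hfin : {x : K | x ^ p ^ N = x}.Finite := by
      have hne : (Polynomial.X ^ p ^ N - Polynomial.X : Polynomial K) ≠ 0 :=
        FiniteField.X_pow_card_pow_sub_X_ne_zero K hN0.ne' (Fact.out : p.Prime).one_lt
      refine (Polynomial.finite_setOf_isRoot hne).subset fun x (hx : x ^ p ^ N = x) => ?_
      simp [hx]
    haveI := hfin.to_subtype
    exact Finite.of_injective (fun x : φ.eqLocusField (RingHom.id K) =>
      (⟨(x : K), by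
        have := x.2
        exact (iterateFrobenius_def (R := K) p N (x : K)).symm.trans this⟩ :
        {x : K | x ^ p ^ N = x})) fun x y e => Subtype.ext (congrArg (fun z : {x : K | x ^ p ^ N = x} => (z : K)) e)
  · show iterateFrobenius K p N (a i) = a i
    rw [iterateFrobenius_def]
    obtain ⟨m, hm⟩ : n i ∣ N := Finset.dvd_prod_of_mem _ (Finset.mem_univ i)
    rw [hm]
    have : ∀ j, a i ^ p ^ (n i * j) = a i := fun j => by
      induction j with
      | zero => simp
      | succ j ih => rw [Nat.mul_succ, pow_add, pow_mul, ih, hna]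
    exact this m

/-- A basis in which a single unipotent block preserves the standard conic. -/
theorem exists_basis {p : ℕ} [Fact p.Prime] (hp : 5 ≤ p) {K : Type*} [Field K] [CharP K p]
    {X B : Matrix (Fin 3) (Fin 3) K} (hB : IsUnit B) (hsym : Bᵀ = B) (hinv : Xᵀ * B * X = B)
    (hXp : X ^ p = 1) (hX : (X - 1) ^ 2 ≠ 0) :
    ∃ (Q : Matrix (Fin 3) (Fin 3) K) (c : K), IsUnit Q ∧ c ≠ 0 ∧ Qᵀ * B * Q = c • gram K := by
  have h2 : (2 : K) ≠ 0 := by
    intro h
    have := (CharP.cast_eq_zero_iff K p 2).mp (by exact_mod_cast h)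
    have := Nat.le_of_dvd two_pos this
    omega
  set N := X - 1 with hN
  have hN3 : N ^ 3 = 0 := by
    have hnil : N ^ p = 0 := by
      rw [hN, sub_pow_char_of_commute _ (Commute.one_right X), hXp, one_pow, sub_self]
    have h := Matrix.isNilpotent_charpoly_sub_pow_of_isNilpotent (M := N) ⟨p, hnil⟩
    rw [isNilpotent_iff_eq_zero, sub_eq_zero] at h
    have h' := Matrix.aeval_self_charpoly N
    rw [h] at h'
    simpa using h'
  obtain ⟨v, hv⟩ : ∃ v, (N ^ 2).mulVec v ≠ 0 := by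
    by_contra h
    push_neg at h
    exact hX (Matrix.ext_iff_mulVec.mpr fun v => by rw [h, Matrix.zero_mulVec])
  set e₁ := N.mulVec v with he₁
  set e₀ := N.mulVec e₁ with he₀
  have hN0 : N.mulVec e₀ = 0 := by
    rw [he₀, he₁, Matrix.mulVec_mulVec, Matrix.mulVec_mulVec, ← pow_three', hN3,
      Matrix.zero_mulVec]
  have he0 : e₀ ≠ 0 := by rwa [he₀, he₁, Matrix.mulVec_mulVec, ← pow_two]
  set P : Matrix (Fin 3) (Fin 3) K := Matrix.of fun i j => ![e₀, e₁, v] j i with hP
  have hPv : ∀ w : Fin 3 → K, P.mulVec w = w 0 • e₀ + w 1 • e₁ + w 2 • v := fun w => by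
    ext i
    simp [hP, Matrix.mulVec, dotProduct, Fin.sum_univ_three, mul_comm]
  have hPu : IsUnit P := by
    rw [← Matrix.mulVec_injective_iff_isUnit]
    intro w w' hw
    have hz : ∀ u : Fin 3 → K, P.mulVec u = 0 → u = 0 := fun u hu => by
      rw [hPv] at hu
      have h1 := congrArg N.mulVec hu
      simp only [Matrix.mulVec_add, Matrix.mulVec_smul, hN0, ← he₀, ← he₁, Matrix.mulVec_zero,
        smul_zero, zero_add] at h1
      have h2' := congrArg N.mulVec h1
      simp only [Matrix.mulVec_add, Matrix.mulVec_smul, hN0, ← he₀, Matrix.mulVec_zero,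
        smul_zero, zero_add] at h2'
      have hu2 : u 2 = 0 := (smul_eq_zero.mp h2').resolve_right he0
      rw [hu2, zero_smul, add_zero] at h1 hu
      have hu1 : u 1 = 0 := (smul_eq_zero.mp h1).resolve_right he0
      rw [hu1, zero_smul, add_zero] at hu
      have hu0 : u 0 = 0 := (smul_eq_zero.mp hu).resolve_right he0
      ext i; fin_cases i <;> simpa
    have := hz (w - w') (by rw [Matrix.mulVec_sub, hw, sub_self])
    exact sub_eq_zero.mp this
  set U : Matrix (Fin 3) (Fin 3) K := !![1, 1, 0; 0, 1, 1; 0, 0, 1] with hU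
  have hXP : X * P = P * U := by
    have hX1 : X = N + 1 := by rw [hN]; abel
    rw [hX1, Matrix.add_mul, one_mul]
    ext i j
    have h : ∀ w, (N * P) i w = N.mulVec (fun k => P k w) i := fun w => rfl
    fin_cases j <;> simp [h, hU, Matrix.mul_apply, Fin.sum_univ_three, hP, hN0, ← he₀, ← he₁] <;>
      first
      | simpa [Matrix.mulVec, dotProduct, Fin.sum_univ_three] using congrFun hN0 i
      | simpa [Matrix.mulVec, dotProduct, Fin.sum_univ_three] using congrFun he₀.symm i
      | simpa [Matrix.mulVec, dotProduct, Fin.sum_univ_three] using congrFun he₁.symm i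
  set C := Pᵀ * B * P with hC
  have hCU : Uᵀ * C * U = C := by
    calc Uᵀ * (Pᵀ * B * P) * U = (P * U)ᵀ * B * (P * U) := by
          simp [Matrix.transpose_mul, Matrix.mul_assoc]
      _ = (X * P)ᵀ * B * (X * P) := by rw [hXP]
      _ = Pᵀ * (Xᵀ * B * X) * P := by simp [Matrix.transpose_mul, Matrix.mul_assoc]
      _ = C := by rw [hinv]
  have hCs : Cᵀ = C := by simp [hC, Matrix.transpose_mul, hsym, Matrix.mul_assoc]
  have s10 : C 1 0 = C 0 1 := congrFun (congrFun hCs 0) 1
  have s20 : C 2 0 = C 0 2 := congrFun (congrFun hCs 0) 2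
  have s21 : C 2 1 = C 1 2 := congrFun (congrFun hCs 1) 2
  have u01 := congrFun (congrFun hCU 0) 1
  have u02 := congrFun (congrFun hCU 0) 2
  have u12 := congrFun (congrFun hCU 1) 2
  have u22 := congrFun (congrFun hCU 2) 2
  simp [hU, Matrix.mul_apply, Fin.sum_univ_three] at u01 u02 u12 u22
  have c00 : C 0 0 = 0 := by linear_combination u01
  have c01 : C 0 1 = 0 := by linear_combination u02
  have c11 : C 1 1 = -C 0 2 := by linear_combination u12 - c01
  have c12 : 2 * C 1 2 = C 0 2 := by linear_combination u22 - s21 - c11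
  have hc : C 0 2 ≠ 0 := by
    intro h
    have hdet : C.det ≠ 0 := by
      rw [hC]
      exact ((((Matrix.isUnit_iff_isUnit_det P).mp hPu).mul
        ((Matrix.isUnit_iff_isUnit_det B).mp hB)).mul
        ((Matrix.isUnit_iff_isUnit_det P).mp hPu)).ne_zero ∘ fun e => by
          rwa [Matrix.det_mul, Matrix.det_mul, Matrix.det_transpose] at e
    apply hdet
    rw [Matrix.det_fin_three, c00, c01, h, s10, c01, s20, h]
    ring
  set c := C 0 2 with hcdef
  set s := -(c + 4 * C 2 2) / (8 * c) with hs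
  set T : Matrix (Fin 3) (Fin 3) K := !![1, 0, 2 * s; 0, 1, 1; 0, 0, 2] with hT
  refine ⟨P * T, c, hPu.mul ?_, hc, ?_⟩
  · rw [Matrix.isUnit_iff_isUnit_det, isUnit_iff_ne_zero, hT, Matrix.det_fin_three]
    simp [h2]
  have h8 : (8 : K) ≠ 0 := by
    rw [show (8 : K) = 2 * 2 * 2 by norm_num]; exact mul_ne_zero (mul_ne_zero h2 h2) h2
  have hs' : 8 * c * s = -(c + 4 * C 2 2) := by rw [hs]; field_simp
  rw [show (P * T)ᵀ * B * (P * T) = Tᵀ * C * T by simp [hC, Matrix.transpose_mul, Matrix.mul_assoc]]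
  ext i j
  fin_cases i <;> fin_cases j <;>
    simp [hT, gram, Matrix.mul_apply, Fin.sum_univ_three, c00, c01, c11, s10, s20, s21, ← hcdef] <;>
    try linear_combination (norm := ring1) c12
  all_goals first
    | ring1
    | linear_combination hs' + 2 * c12

/-- An orthogonal representation of degree three with a single unipotent block maps into a finite
`PGL₂` with scalar kernel. -/
theorem exists_pgl {p : ℕ} [Fact p.Prime] (hp : 5 ≤ p) {K : Type} [Field K] [CharP K p]
    (halg : ∀ a : K, ∃ n : ℕ, 0 < n ∧ a ^ (p ^ n) = a) [IsAlgClosed K]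
    {G : Type*} [Group G] [Fintype G] (ρ : G →* Matrix (Fin 3) (Fin 3) K) (B : Matrix (Fin 3) (Fin 3) K)
    (hB : IsUnit B) (hsym : B.transpose = B) (hinv : ∀ g, (ρ g).transpose * B * ρ g = B)
    (x : G) (hx : x ^ p = 1) (hx2 : (ρ x - 1) ^ 2 ≠ 0) :
    ∃ (F : Type) (_ : Field F) (_ : Fintype F) (_ : CharP F p)
      (f : G →* Matrix.ProjGenLinGroup (Fin 2) F),
      f x ≠ 1 ∧ ∀ g, f g = 1 → ∃ c : K, ρ g = c • 1 := by
  classical
  have h2 : (2 : K) ≠ 0 := by
    intro h
    have := (CharP.cast_eq_zero_iff K p 2).mp (by exact_mod_cast h)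
    have := Nat.le_of_dvd two_pos this
    omega
  have hXp : ρ x ^ p = 1 := by rw [← map_pow, hx, map_one]
  obtain ⟨Q, c, hQ, hc, hQB⟩ := exists_basis hp hB hsym (hinv x) hXp hx2
  have hQd : IsUnit Q.det := (Matrix.isUnit_iff_isUnit_det Q).mp hQ
  set M : G → Matrix (Fin 3) (Fin 3) K := fun g => Q⁻¹ * ρ g * Q with hM
  have hMQ : ∀ g, Q * M g = ρ g * Q := fun g => by
    show Q * (Q⁻¹ * ρ g * Q) = _
    rw [← Matrix.mul_assoc, ← Matrix.mul_assoc, Matrix.mul_nonsing_inv Q hQd, one_mul]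
  have hMmul : ∀ g h, M (g * h) = M g * M h := fun g h => by
    show Q⁻¹ * ρ (g * h) * Q = Q⁻¹ * ρ g * Q * M h
    rw [Matrix.mul_assoc _ Q (M h), hMQ, map_mul]
    simp [Matrix.mul_assoc]
  have hMi : ∀ g, (M g)ᵀ * gram K * M g = gram K := fun g => by
    have h1 : (M g)ᵀ * (c • gram K) * M g = c • gram K := by
      rw [← hQB]
      calc (M g)ᵀ * (Qᵀ * B * Q) * M g = (Q * M g)ᵀ * B * (Q * M g) := by
            simp [Matrix.transpose_mul, Matrix.mul_assoc]
        _ = Qᵀ * ((ρ g)ᵀ * B * ρ g) * Q := by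
            rw [hMQ]; simp [Matrix.transpose_mul, Matrix.mul_assoc]
        _ = _ := by rw [hinv]
    rw [Matrix.mul_smul, Matrix.smul_mul] at h1
    exact smul_right_injective _ hc h1
  choose A hA hAsq using fun g => exists_sq h2 (hMi g)
  obtain ⟨F, hF, hAF⟩ := exists_finite_subfield (p := p) halg
    (fun t : G × Fin 2 × Fin 2 => A t.1 t.2.1 t.2.2)
  haveI := hF
  let A' : G → Matrix (Fin 2) (Fin 2) F := fun g => Matrix.of fun i j => ⟨A g i j, hAF ⟨g, i, j⟩⟩
  have hA'map : ∀ g, (A' g).map F.subtype = A g := fun g => by ext i j; rfl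
  have hA'det : ∀ g, (A' g).det ≠ 0 := fun g e => hA g (by
    rw [← hA'map g, ← RingHom.mapMatrix_apply, ← RingHom.map_det, e, map_zero])
  let f₀ : G → GL (Fin 2) F := fun g => GeneralLinearGroup.mkOfDetNeZero (A' g) (hA'det g)
  have hf₀ : ∀ g, ((f₀ g : GL (Fin 2) F) : Matrix (Fin 2) (Fin 2) F) = A' g := fun g => rfl
  have hmul : ∀ g h, ProjGenLinGroup.mk (f₀ (g * h)) =
      (ProjGenLinGroup.mk (f₀ g) * ProjGenLinGroup.mk (f₀ h) : ProjGenLinGroup (Fin 2) F) := by
    intro g h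
    rw [← map_mul]
    have hd : (A g * A h).det ≠ 0 := by rw [Matrix.det_mul]; exact mul_ne_zero (hA g) (hA h)
    have h1 : sq ((A g * A h)⁻¹ * A (g * h)) = 1 := by
      rw [sq_mul, hAsq, hMmul, ← hAsq, ← hAsq, ← sq_mul, ← sq_mul,
        Matrix.nonsing_inv_mul _ (isUnit_iff_ne_zero.mpr hd), sq_one]
    have h3 : A (g * h) = A g * A h * ((A g * A h)⁻¹ * A (g * h)) := by
      rw [← Matrix.mul_assoc, Matrix.mul_nonsing_inv _ (isUnit_iff_ne_zero.mpr hd), one_mul]
    rcases eq_one_or_neg_one_of_sq h1 with e | e <;> rw [e] at h3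
    · congr 1
      apply Units.ext
      rw [Units.val_mul, hf₀, hf₀, hf₀]
      refine Matrix.map_injective F.subtype.injective ?_
      dsimp only
      rw [Matrix.map_mul, hA'map, hA'map, hA'map, h3, mul_one]
    · rw [ProjGenLinGroup.mk_eq_mk_iff]
      refine ⟨-1, Units.ext ?_⟩
      rw [Units.val_mul, Units.val_mul, hf₀, hf₀, hf₀]
      refine Matrix.map_injective F.subtype.injective ?_
      dsimp only
      rw [Matrix.map_mul, Matrix.map_mul, hA'map, hA'map, hA'map, h3]
      ext i j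
      fin_cases i <;> fin_cases j <;>
        simp [Matrix.mul_apply, Fin.sum_univ_two, Matrix.GeneralLinearGroup.coe_scalar] <;> ring1
  let f : G →* ProjGenLinGroup (Fin 2) F :=
    MonoidHom.mk' (fun g => ProjGenLinGroup.mk (f₀ g)) hmul
  have hker : ∀ g, f g = 1 → ∃ c : K, ρ g = c • 1 := by
    intro g hg
    have h1 : ProjGenLinGroup.mk (1 : GL (Fin 2) F) = ProjGenLinGroup.mk (f₀ g) := by
      rw [map_one]; exact hg.symm
    obtain ⟨u, hu⟩ := ProjGenLinGroup.mk_eq_mk_iff.mp h1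
    have h3 : A g = ((u : F) : K) • (1 : Matrix (Fin 2) (Fin 2) K) := by
      rw [← hA'map g, ← hf₀ g, ← hu]
      ext i j
      fin_cases i <;> fin_cases j <;>
        simp [Matrix.GeneralLinearGroup.coe_scalar]
    refine ⟨((u : F) : K) ^ 2, ?_⟩
    have h4 : M g = (((u : F) : K) ^ 2) • 1 := by rw [← hAsq, h3, sq_smul, sq_one]
    have h5 := hMQ g
    rw [h4, Matrix.mul_smul, mul_one] at h5
    calc ρ g = ρ g * Q * Q⁻¹ := by
          rw [Matrix.mul_assoc, Matrix.mul_nonsing_inv Q hQd, mul_one]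
      _ = _ := by rw [← h5, Matrix.smul_mul, Matrix.mul_nonsing_inv Q hQd]
  refine ⟨F, inferInstance, Fintype.ofFinite _, inferInstance, f, fun h => ?_, hker⟩
  obtain ⟨d, hd⟩ := hker x h
  apply hx2
  rw [hd, show d • (1 : Matrix (Fin 3) (Fin 3) K) - 1 = (d - 1) • 1 by rw [sub_smul, one_smul]]
  have hnil : ((d - 1) • (1 : Matrix (Fin 3) (Fin 3) K)) ^ p = 0 := by
    rw [sub_smul, one_smul, ← hd, sub_pow_char_of_commute _ (Commute.one_right (ρ x)), hXp, one_pow,
      sub_self]
  rw [smul_pow, one_pow] at hnil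
  have : d - 1 = 0 := by
    have := congrFun (congrFun hnil 0) 0
    simp at this
    exact this.1
  rw [this, zero_smul, zero_pow two_ne_zero]

open CfsgLib.Classical.Dickson OnePoint MulAction in
/-- The torus normalising a unipotent subgroup of `PGL₂`. -/
theorem exists_torus {p : ℕ} [Fact p.Prime] {A : Type*} [Field A] [Finite A] [CharP A p]
    [DecidableEq A] {y : ProjGenLinGroup (Fin 2) A} (hy : y ^ p = 1) (a : (ZMod p)ˣ) :
    ∃ t : ProjGenLinGroup (Fin 2) A, t * y * t⁻¹ = y ^ (a : ZMod p).val ∧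
      (IsSquare a → t ∈ (SpecialLinearGroup.toPGL (n := Fin 2) (R := A)).range) := by
  haveI := Fintype.ofFinite A
  have hcoe : ∀ (m : Matrix (Fin 2) (Fin 2) A) (hm : m.det = 1) (i j : Fin 2),
      ((SpecialLinearGroup.toGL (⟨m, hm⟩ : SpecialLinearGroup (Fin 2) A) : GL (Fin 2) A) :
        Matrix (Fin 2) (Fin 2) A) i j = m i j := fun _ _ _ _ => rfl
  obtain ⟨x₀, hx₀⟩ := exists_fixed_of_unip p hy
  obtain ⟨h, hh, hS⟩ : ∃ h : ProjGenLinGroup (Fin 2) A, h • (∞ : OnePoint A) = x₀ ∧
      h ∈ (SpecialLinearGroup.toPGL (n := Fin 2) (R := A)).range := by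
    cases x₀ with
    | infty => exact ⟨1, one_smul _ _, one_mem _⟩
    | coe k =>
      refine ⟨SpecialLinearGroup.toPGL ⟨!![k, -1; 1, 0], by simp [det_fin_two]⟩, ?_, _, rfl⟩
      show ProjGenLinGroup.mk (SpecialLinearGroup.toGL _) • _ = _
      rw [mk_smul, smul_infty_eq_ite]
      simp [hcoe]
  have hi : (h⁻¹ * y * h) • (∞ : OnePoint A) = ∞ := by
    rw [mul_smul, mul_smul, hh, hx₀, ← hh, inv_smul_smul]
  obtain ⟨u, b, hub⟩ := exists_aff hi
  obtain rfl : u = 1 := (aff_pow_char_eq_one_iff p u b).mp (by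
    rw [← hub, show h⁻¹ * y * h = MulAut.conj h⁻¹ y by simp, ← map_pow, hy, map_one])
  have hy' : y = h * aff 1 b * h⁻¹ := by rw [← hub]; group
  set φ := (ZMod.castHom dvd_rfl A : ZMod p →+* A) with hφ
  set a' : Aˣ := Units.map φ.toMonoidHom a with ha'
  refine ⟨h * aff a' 0 * h⁻¹, ?_, fun ⟨s, hs⟩ => ?_⟩
  · obtain ⟨c, hc, hc'⟩ := aff_pow (1 : Aˣ) (a : ZMod p).val b
    have hval : (((a : ZMod p).val : ℕ) : A) = (a' : A) := by
      rw [← map_natCast φ, ZMod.natCast_zmod_val]; rfl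
    have hinv : (aff a' (0 : A))⁻¹ = aff a'⁻¹ 0 := inv_eq_of_mul_eq_one_right (by
      rw [aff_mul, mul_inv_cancel, mul_zero, add_zero, aff_one])
    have e1 : aff a' 0 * aff 1 b * (aff a' 0)⁻¹ = aff (1 : Aˣ) b ^ (a : ZMod p).val := by
      rw [hc, hc' rfl, one_pow, hinv, aff_mul, aff_mul, hval]
      simp
    rw [hy', show h * aff a' 0 * h⁻¹ * (h * aff 1 b * h⁻¹) * (h * aff a' 0 * h⁻¹)⁻¹ =
      h * (aff a' 0 * aff 1 b * (aff a' 0)⁻¹) * h⁻¹ by group, e1, conj_pow]
  · refine Subgroup.mul_mem _ (Subgroup.mul_mem _ hS ?_) (Subgroup.inv_mem _ hS)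
    set t : Aˣ := Units.map φ.toMonoidHom s with ht
    refine ⟨⟨!![(t : A), 0; 0, ((t⁻¹ : Aˣ) : A)], by simp [det_fin_two]⟩, ?_⟩
    show ProjGenLinGroup.mk (SpecialLinearGroup.toGL _) = ProjGenLinGroup.mk (affGL a' 0)
    rw [ProjGenLinGroup.mk_eq_mk_iff]
    have hat : a' = t * t := by rw [ha', hs, map_mul]
    refine ⟨t, Units.ext ?_⟩
    ext i j
    fin_cases i <;> fin_cases j <;>
      simp [hcoe, affGL, hat, Matrix.mul_apply, Fin.sum_univ_two, Matrix.GeneralLinearGroup.coe_scalar]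

open CfsgLib.Classical.Dickson OnePoint MulAction in
/-- Dickson's theorem applied to a group with Sylow subgroup of order `p`. -/
theorem psl_or_pgl {p : ℕ} [Fact p.Prime] (hp : 7 < p) {F : Type} [Field F] [Fintype F] [CharP F p]
    {G : Type*} [Group G] [Fintype G] (P : Sylow p G) (hP : Nat.card P = p)
    (f : G →* Matrix.ProjGenLinGroup (Fin 2) F) {x : G} (hxP : x ∈ (P : Subgroup G)) (hfx : f x ≠ 1)
    (hconj : ∃ g, f (g * x * g⁻¹) ∉ Subgroup.zpowers (f x)) :
    (∀ a : (ZMod p)ˣ, IsSquare a → ∃ h : G, h * x * h⁻¹ = x ^ (a : ZMod p).val) ∧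
    ((∀ a : (ZMod p)ˣ, ∃ h : G, h * x * h⁻¹ = x ^ (a : ZMod p).val) ∨
      ∃ (F₀ : Type) (_ : Field F₀) (_ : Fintype F₀), Fintype.card F₀ = p ∧
        Nonempty (G ⧸ f.ker ≃* Matrix.ProjectiveSpecialLinearGroup (Fin 2) F₀)) := by
  classical
  have hpp : p.Prime := Fact.out
  have hxne : x ≠ 1 := fun e => hfx (by rw [e, map_one])
  have hord : orderOf (⟨x, hxP⟩ : (P : Subgroup G)) = p :=
    (hpp.eq_one_or_self_of_dvd _ ((orderOf_dvd_natCard _).trans hP.dvd)).resolve_left
      fun e => hxne (congrArg Subtype.val (orderOf_eq_one_iff.mp e))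
  have hxo : orderOf x = p := by rwa [← Subgroup.orderOf_mk x hxP]
  have hfxp : f x ^ p = 1 := by rw [← map_pow, ← hxo, pow_orderOf_eq_one, map_one]
  have hfo : orderOf (f x) = p := orderOf_eq_prime hfxp hfx
  have hPz : (P : Subgroup G) = Subgroup.zpowers x := by
    refine (Subgroup.eq_of_le_of_card_ge (Subgroup.zpowers_le.mpr hxP) ?_).symm
    rw [Nat.card_zpowers, hxo]; exact hP.le
  -- powers of `p` in the image
  have hsylow : ∀ n, p ^ n ∣ Nat.card f.range → n ≤ 1 := by
    intro n hn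
    have h1 : p ^ n ∣ Nat.card P := by
      rw [P.card_eq_multiplicity]
      exact Nat.pow_dvd_pow p ((hpp.pow_dvd_iff_le_factorization Nat.card_pos.ne').mp
        (hn.trans (Subgroup.card_range_dvd f)))
    rw [hP] at h1
    exact (Nat.pow_dvd_pow_iff_le_right hpp.one_lt).mp (h1.trans (pow_one p).symm.dvd)
  have hmemx : f x ∈ f.range := ⟨x, rfl⟩
  have hpdvd : p ∣ Nat.card f.range := by
    rw [← hfo]; exact Subgroup.orderOf_dvd_natCard _ hmemx
  -- lifting conjugations
  have hlift : ∀ (a : (ZMod p)ˣ), ∀ t ∈ f.range, t * f x * t⁻¹ = f x ^ (a : ZMod p).val →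
      ∃ h : G, h * x * h⁻¹ = x ^ (a : ZMod p).val := by
    rintro a _ ⟨h₀, rfl⟩ ht
    set N := (Subgroup.zpowers (f x)).comap f with hN
    have hxN : x ∈ N := Subgroup.mem_zpowers (f x)
    have hyN : h₀ * x * h₀⁻¹ ∈ N := by
      show f _ ∈ Subgroup.zpowers (f x)
      rw [map_mul, map_mul, map_inv, ht]
      exact Subgroup.pow_mem _ (Subgroup.mem_zpowers _) _
    obtain ⟨R, hR⟩ := (IsPGroup.of_card (n := 1) (by
      rw [Nat.card_zpowers, Subgroup.orderOf_mk, hxo, pow_one]) :
        IsPGroup p (Subgroup.zpowers (⟨x, hxN⟩ : N))).exists_le_sylow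
    obtain ⟨R', hR'⟩ := (IsPGroup.of_card (n := 1) (by
      rw [Nat.card_zpowers, Subgroup.orderOf_mk, show h₀ * x * h₀⁻¹ = MulAut.conj h₀ x from rfl,
        MulEquiv.orderOf_eq, hxo, pow_one]) :
        IsPGroup p (Subgroup.zpowers (⟨h₀ * x * h₀⁻¹, hyN⟩ : N))).exists_le_sylow
    have hRle : (R : Subgroup N) ≤ Subgroup.zpowers (⟨x, hxN⟩ : N) := by
      refine (Subgroup.eq_of_le_of_card_ge hR ?_).ge
      rw [Nat.card_zpowers, Subgroup.orderOf_mk, hxo]
      obtain ⟨n, hn⟩ := IsPGroup.iff_card.mp R.2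
      rw [hn]
      have h1 : p ^ n ∣ Nat.card P := by
        rw [P.card_eq_multiplicity]
        refine Nat.pow_dvd_pow p ((hpp.pow_dvd_iff_le_factorization Nat.card_pos.ne').mp ?_)
        rw [← hn]
        exact (Subgroup.card_subgroup_dvd_card _).trans (Subgroup.card_subgroup_dvd_card _)
      rw [hP] at h1
      exact Nat.le_of_dvd hpp.pos h1
    obtain ⟨⟨k, hkN⟩, hk⟩ := MulAction.exists_smul_eq N R' R
    have hmem : (⟨k, hkN⟩ : N) * ⟨h₀ * x * h₀⁻¹, hyN⟩ * (⟨k, hkN⟩ : N)⁻¹ ∈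
        Subgroup.zpowers (⟨x, hxN⟩ : N) := by
      apply hRle
      rw [← hk]
      exact ⟨_, hR' (Subgroup.mem_zpowers _), rfl⟩
    obtain ⟨i, hi⟩ := Subgroup.mem_zpowers_iff.mp hmem
    have hi' : x ^ i = k * (h₀ * x * h₀⁻¹) * k⁻¹ := by simpa using congrArg Subtype.val hi
    obtain ⟨j, hj⟩ := Subgroup.mem_zpowers_iff.mp (show f k ∈ Subgroup.zpowers (f x) from hkN)
    refine ⟨k * h₀, ?_⟩
    rw [show k * h₀ * x * (k * h₀)⁻¹ = x ^ i by rw [hi']; group, ← zpow_natCast,
      zpow_eq_zpow_iff_modEq, hxo]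
    have e : f x ^ i = f x ^ (((a : ZMod p).val : ℕ) : ℤ) := by
      rw [← map_zpow, hi', map_mul, map_mul, map_mul, map_mul, map_inv, map_inv, ht, zpow_natCast,
        ← hj]
      rw [((Commute.zpow_self (f x) j).pow_right (a : ZMod p).val).eq, mul_inv_cancel_right]
    rwa [zpow_eq_zpow_iff_modEq, hfo] at e
  -- the subfield cases
  have hcase : ∀ (A : Subfield F) (h : ProjGenLinGroup (Fin 2) F)
      (L : Subgroup (ProjGenLinGroup (Fin 2) A)),
      f.range.map (MulAut.conj h).toMonoidHom = L.map (ProjGenLinGroup.map A.subtype) →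
      Nat.card L = Nat.card f.range ∧ ∀ (a : (ZMod p)ˣ),
        (∀ y : ProjGenLinGroup (Fin 2) A, y ^ p = 1 → ∃ t ∈ L, t * y * t⁻¹ = y ^ (a : ZMod p).val) →
          ∃ g : G, g * x * g⁻¹ = x ^ (a : ZMod p).val := by
    intro A h L hL
    have hinj := map_injective_subfield (F := F) A
    refine ⟨?_, fun a ha => ?_⟩
    · rw [← Subgroup.card_map_of_injective (K := L) hinj, ← hL,
        Subgroup.card_map_of_injective (MulAut.conj h).injective]
    obtain ⟨y, -, hy⟩ := hL.le ⟨f x, hmemx, rfl⟩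
    have hyp : y ^ p = 1 := hinj (by
      rw [map_pow, hy, ← map_pow, hfxp, map_one, map_one])
    obtain ⟨t, htL, ht⟩ := ha y hyp
    obtain ⟨t', ht', hte⟩ := hL.ge ⟨t, htL, rfl⟩
    refine hlift a t' ht' ((MulAut.conj h).injective ?_)
    have e := congrArg (ProjGenLinGroup.map A.subtype) ht
    rw [map_mul, map_mul, map_inv, map_pow, ← hte, hy] at e
    rw [map_mul, map_mul, map_inv, map_pow]
    exact e
  have hA : ∀ (A : Subfield F), ∀ d : ℕ, (d = 1 ∨ d = 2) → d * Nat.card f.range =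
      (Nat.card A + 1) * Nat.card A * (Nat.card A - 1) → Nat.card A = p := by
    intro A d hd hcard
    haveI := Fintype.ofFinite A
    haveI : CharP A p := inferInstance
    obtain ⟨n, -, hn⟩ := FiniteField.card A p
    rw [← Nat.card_eq_fintype_card] at hn
    have hdiv : p ^ (n : ℕ) ∣ Nat.card f.range := by
      have hcop : (p ^ (n : ℕ)).Coprime d := by
        refine Nat.Coprime.pow_left _ ((Nat.Prime.coprime_iff_not_dvd hpp).mpr fun h => ?_)
        have := Nat.le_of_dvd (by omega) h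
        omega
      refine hcop.dvd_of_dvd_mul_left ?_
      rw [hcard, hn]
      exact Dvd.dvd.mul_right (dvd_mul_left _ _) _
    have := hsylow _ hdiv
    have := n.pos
    rw [hn, show (n : ℕ) = 1 by omega, pow_one]
  cases kind p f.range with
  | fixed x₀ hfix =>
    exfalso
    let U : Subgroup (ProjGenLinGroup (Fin 2) F) :=
      { carrier := {u | u ∈ f.range ∧ u ^ p = 1}
        one_mem' := ⟨one_mem _, one_pow p⟩
        mul_mem' := fun {u v} hu hv => ⟨mul_mem hu.1 hv.1,
          (unip_mul p (hfix u hu.1) (hfix v hv.1) hu.2 hv.2).1⟩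
        inv_mem' := fun {u} hu => ⟨inv_mem hu.1, by rw [inv_pow, hu.2, inv_one]⟩ }
    have hUp : IsPGroup p U := fun u => ⟨1, Subtype.ext (by simpa using u.2.2)⟩
    obtain ⟨n, hn⟩ := IsPGroup.iff_card.mp hUp
    have hn1 := hsylow n (hn ▸ Subgroup.card_dvd_of_le (fun u hu => hu.1))
    have hle : Subgroup.zpowers (f x) ≤ U := Subgroup.zpowers_le.mpr ⟨hmemx, hfxp⟩
    have heq : Subgroup.zpowers (f x) = U := Subgroup.eq_of_le_of_card_ge hle (by
      rw [Nat.card_zpowers, hfo, hn]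
      exact (Nat.pow_le_pow_right hpp.pos hn1).trans (pow_one p).le)
    obtain ⟨g, hg⟩ := hconj
    refine hg (heq ▸ ⟨⟨_, rfl⟩, ?_⟩)
    rw [← map_pow, show g * x * g⁻¹ = MulAut.conj g x from rfl, ← map_pow, ← hxo,
      pow_orderOf_eq_one, map_one, map_one]
  | cyclic c hc hcp =>
    exfalso
    rw [hc, Nat.card_zpowers] at hpdvd
    exact hcp hpdvd
  | dihedral c _ hcp _ hG =>
    exfalso
    obtain ⟨e⟩ := hG
    rw [Nat.card_congr e.toEquiv, DihedralGroup.nat_card] at hpdvd
    rcases hpp.dvd_mul.mp hpdvd with h | h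
    · have := Nat.le_of_dvd two_pos h; omega
    · exact hcp h
  | a4 hG =>
    exfalso
    obtain ⟨e⟩ := hG
    rw [Nat.card_congr e.toEquiv, nat_card_alternatingGroup, Nat.card_eq_fintype_card,
      Fintype.card_fin] at hpdvd
    have h2 : p ∣ Nat.factorial 4 := hpdvd.trans (Nat.div_dvd_of_dvd (by decide))
    have := (Nat.Prime.dvd_factorial hpp).mp h2
    omega
  | s4 hG =>
    exfalso
    obtain ⟨e⟩ := hG
    rw [Nat.card_congr e.toEquiv, Nat.card_perm, Nat.card_eq_fintype_card, Fintype.card_fin] at hpdvd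
    have := (Nat.Prime.dvd_factorial hpp).mp hpdvd
    omega
  | a5 hG =>
    exfalso
    obtain ⟨e⟩ := hG
    rw [Nat.card_congr e.toEquiv, nat_card_alternatingGroup, Nat.card_eq_fintype_card,
      Fintype.card_fin] at hpdvd
    have h2 : p ∣ Nat.factorial 5 := hpdvd.trans (Nat.div_dvd_of_dvd (by decide))
    have := (Nat.Prime.dvd_factorial hpp).mp h2
    omega
  | pgl A h hG =>
    obtain ⟨hcard, hall⟩ := hcase A h ⊤ (by rw [hG, MonoidHom.range_eq_map])
    rw [Subgroup.card_top, card_pgl2] at hcard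
    have hAp := hA A 1 (Or.inl rfl) (by rw [one_mul, ← hcard])
    haveI : CharP A p := inferInstance
    have key : ∀ a : (ZMod p)ˣ, ∃ g : G, g * x * g⁻¹ = x ^ (a : ZMod p).val := fun a =>
      hall a fun y hy => by
        obtain ⟨t, ht, -⟩ := exists_torus hy a
        exact ⟨t, Subgroup.mem_top t, ht⟩
    exact ⟨fun a _ => key a, Or.inl key⟩
  | psl A hodd h hG =>
    obtain ⟨hcard, hall⟩ := hcase A h (SpecialLinearGroup.toPGL (n := Fin 2) (R := A)).range
      (by rw [hG, MonoidHom.map_range])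
    haveI : CharP A p := inferInstance
    have hd2 : Nat.gcd 2 (Nat.card A - 1) = 2 :=
      Nat.gcd_eq_left (by omega)
    have h2 := card_range_toPGL A
    rw [hd2, hcard] at h2
    have hAp := hA A 2 (Or.inr rfl) h2
    refine ⟨fun a ha => hall a fun y hy => ?_, Or.inr ?_⟩
    · obtain ⟨t, ht, hts⟩ := exists_torus hy a
      exact ⟨t, hts ha, ht⟩
    · letI := Fintype.ofFinite A
      obtain ⟨e⟩ := psl_congr (RingEquiv.refl A)
      refine ⟨A, inferInstance, inferInstance, by rw [← Nat.card_eq_fintype_card]; exact hAp, ⟨?_⟩⟩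
      exact (QuotientGroup.quotientKerEquivRange f).trans
        ((Subgroup.equivMapOfInjective f.range _ (MulAut.conj h).injective).trans
          ((MulEquiv.subgroupCongr (hG.trans (MonoidHom.range_comp _ _))).trans
            ((Subgroup.equivMapOfInjective _ _ (map_injective_subfield (F := F) A)).symm.trans e)))

end CfsgLib.Char.FeitDegree.Conic
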