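import Mathlib

/-!
# The symmetric square of a two-by-two matrix and the isometries of a conic

Every isometry of the quadratic form `4 v₀ v₂ - v₁²` over an algebraically closed field of odd
characteristic is the symmetric square of a two-by-two matrix, unique up to sign.
-/

set_option autoImplicit false

namespace CfsgLib.Char.FeitDegree.Conic

open Matrix

variable {K : Type*} [Field K]

/-- The Gram matrix of the conic. -/
def gram (K : Type*) [Field K] : Matrix (Fin 3) (Fin 3) K := !![0, 0, 2; 0, -1, 0; 2, 0, 0]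

/-- The symmetric square. -/
def sq (A : Matrix (Fin 2) (Fin 2) K) : Matrix (Fin 3) (Fin 3) K :=
  !![A 0 0 ^ 2, A 0 0 * A 0 1, A 0 1 ^ 2;
    2 * A 0 0 * A 1 0, A 0 0 * A 1 1 + A 0 1 * A 1 0, 2 * A 0 1 * A 1 1;
    A 1 0 ^ 2, A 1 0 * A 1 1, A 1 1 ^ 2]

theorem sq_mul (A B : Matrix (Fin 2) (Fin 2) K) : sq (A * B) = sq A * sq B := by
  ext i j
  fin_cases i <;> fin_cases j <;>
    simp [sq, Matrix.mul_apply, Fin.sum_univ_two, Fin.sum_univ_three] <;> ring

theorem sq_one : sq (1 : Matrix (Fin 2) (Fin 2) K) = 1 := by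
  ext i j
  fin_cases i <;> fin_cases j <;> simp [sq]

theorem sq_smul (t : K) (A : Matrix (Fin 2) (Fin 2) K) : sq (t • A) = t ^ 2 • sq A := by
  ext i j
  fin_cases i <;> fin_cases j <;> simp [sq] <;> ring

theorem sq_isometry (A : Matrix (Fin 2) (Fin 2) K) :
    (sq A)ᵀ * gram K * sq A = A.det ^ 2 • gram K := by
  ext i j
  fin_cases i <;> fin_cases j <;>
    simp [sq, gram, Matrix.mul_apply, Fin.sum_univ_three, Matrix.det_fin_two] <;> ring

/-- The symmetric square determines the matrix up to sign. -/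
theorem eq_one_or_neg_one_of_sq {A : Matrix (Fin 2) (Fin 2) K} (h : sq A = 1) :
    A = 1 ∨ A = -1 := by
  have h00 := congrFun (congrFun h 0) 0
  have h02 := congrFun (congrFun h 0) 2
  have h20 := congrFun (congrFun h 2) 0
  have h22 := congrFun (congrFun h 2) 2
  have h11 := congrFun (congrFun h 1) 1
  simp [sq] at h00 h02 h20 h22 h11
  rw [h02, h20, mul_zero, add_zero] at h11
  rcases h00 with h00 | h00
  · left
    rw [h00, one_mul] at h11
    ext i j
    fin_cases i <;> fin_cases j <;> simp [h00, h02, h20, h11]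
  · right
    rw [h00] at h11
    have : A 1 1 = -1 := by linear_combination -h11
    ext i j
    fin_cases i <;> fin_cases j <;> simp [h00, h02, h20, this]

/-- Transport of the isometry equation by a symmetric square. -/
theorem isometry_mul {A : Matrix (Fin 2) (Fin 2) K} {M : Matrix (Fin 3) (Fin 3) K} {k : K}
    (hM : Mᵀ * gram K * M = k • gram K) :
    (sq A * M)ᵀ * gram K * (sq A * M) = (A.det ^ 2 * k) • gram K := by
  rw [Matrix.transpose_mul,
    show Mᵀ * (sq A)ᵀ * gram K * (sq A * M) = Mᵀ * ((sq A)ᵀ * gram K * sq A) * M by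
      simp [Matrix.mul_assoc],
    sq_isometry, Matrix.mul_smul, Matrix.smul_mul, hM, smul_smul]

theorem mem_one {M : Matrix (Fin 3) (Fin 3) K} {k : K} (h2 : (2 : K) ≠ 0)
    (hM : Mᵀ * gram K * M = k • gram K) :
    4 * M 0 0 * M 2 0 - M 1 0 ^ 2 = 0 ∧ 4 * M 0 2 * M 2 2 - M 1 2 ^ 2 = 0 ∧
      2 * M 0 1 * M 2 0 + 2 * M 2 1 * M 0 0 - M 1 0 * M 1 1 = 0 ∧
      2 * M 0 0 * M 2 2 + 2 * M 2 0 * M 0 2 - M 1 0 * M 1 2 = 2 * k ∧
      2 * M 0 1 * M 2 2 + 2 * M 2 1 * M 0 2 - M 1 1 * M 1 2 = 0 ∧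
      4 * M 0 1 * M 2 1 - M 1 1 ^ 2 = -k := by
  have h00 := congrFun (congrFun hM 0) 0
  have h01 := congrFun (congrFun hM 0) 1
  have h02 := congrFun (congrFun hM 0) 2
  have h11 := congrFun (congrFun hM 1) 1
  have h12 := congrFun (congrFun hM 1) 2
  have h22 := congrFun (congrFun hM 2) 2
  simp [gram, Matrix.mul_apply, Fin.sum_univ_three] at h00 h01 h02 h11 h12 h22
  refine ⟨?_, ?_, ?_, ?_, ?_, ?_⟩
  · linear_combination h00
  · linear_combination h22
  · linear_combination h01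
  · linear_combination h02
  · linear_combination h12
  · linear_combination h11

theorem inv_det (A : Matrix (Fin 2) (Fin 2) K) (hA : A.det ≠ 0) :
    sq A * sq A⁻¹ = 1 ∧ sq A⁻¹ * sq A = 1 := by
  have hu : IsUnit A.det := isUnit_iff_ne_zero.mpr hA
  rw [← sq_mul, ← sq_mul, Matrix.mul_nonsing_inv A hu, Matrix.nonsing_inv_mul A hu, sq_one]
  exact ⟨rfl, rfl⟩

/-- An isometry of the conic is a symmetric square. -/
theorem exists_sq [IsAlgClosed K] (h2 : (2 : K) ≠ 0) {M : Matrix (Fin 3) (Fin 3) K}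
    (hM : Mᵀ * gram K * M = gram K) : ∃ A : Matrix (Fin 2) (Fin 2) K, A.det ≠ 0 ∧ sq A = M := by
  have h4 : (4 : K) ≠ 0 := by
    rw [show (4 : K) = 2 * 2 by norm_num]; exact mul_ne_zero h2 h2
  have hM1 : Mᵀ * gram K * M = (1 : K) • gram K := by rw [hM, one_smul]
  obtain ⟨e00, -, -, e02, -, -⟩ := mem_one h2 hM1
  -- move the first column to the first basis vector
  obtain ⟨A₁, hA₁, hcol₁⟩ : ∃ A₁ : Matrix (Fin 2) (Fin 2) K, A₁.det ≠ 0 ∧
      ∀ i, sq A₁ i 0 = M i 0 := by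
    by_cases h0 : M 0 0 = 0
    · have h10 : M 1 0 = 0 := by
        have : M 1 0 ^ 2 = 0 := by linear_combination (-1) * e00 + 4 * M 2 0 * h0
        simpa using this
      obtain ⟨g, hg⟩ := IsAlgClosed.exists_eq_mul_self (M 2 0)
      have hg0 : g ≠ 0 := by
        rintro rfl
        rw [mul_zero] at hg
        rw [h0, h10, hg] at e02
        exact h2 (by linear_combination -e02)
      refine ⟨!![0, 1; g, 0], by simp [Matrix.det_fin_two, hg0], fun i => ?_⟩
      fin_cases i <;> simp [sq, h0, h10, hg, pow_two]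
    · obtain ⟨a, ha⟩ := IsAlgClosed.exists_eq_mul_self (M 0 0)
      have ha0 : a ≠ 0 := by rintro rfl; exact h0 (by simpa using ha)
      refine ⟨!![a, 0; M 1 0 / (2 * a), 1], by simp [Matrix.det_fin_two, ha0], fun i => ?_⟩
      fin_cases i
      · simp [sq, ha, pow_two]
      · simp [sq]; field_simp
      · simp [sq]
        field_simp
        linear_combination (-1) * e00 + 4 * M 2 0 * ha
  set M₁ := sq A₁⁻¹ * M with hM₁
  set k := A₁⁻¹.det ^ 2 with hk
  have hi₁ : M₁ᵀ * gram K * M₁ = k • gram K := by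
    rw [hM₁, isometry_mul hM1, mul_one]
  have hc₁ : ∀ i, M₁ i 0 = (1 : Matrix (Fin 3) (Fin 3) K) i 0 := fun i => by
    rw [hM₁, ← (inv_det A₁ hA₁).2, Matrix.mul_apply, Matrix.mul_apply]
    exact Finset.sum_congr rfl fun j _ => by rw [hcol₁]
  have hk0 : k ≠ 0 := pow_ne_zero _ (by
    rw [Matrix.det_nonsing_inv, Ring.inverse_eq_inv']
    exact inv_ne_zero hA₁)
  obtain ⟨-, f22, f01, f02, -, -⟩ := mem_one h2 hi₁
  rw [hc₁ 0, hc₁ 1, hc₁ 2] at f01 f02
  simp at f01 f02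
  have hM22 : M₁ 2 2 = k := f02.resolve_right h2
  -- move the last column to the last basis vector
  obtain ⟨d, hd⟩ := IsAlgClosed.exists_eq_mul_self k
  have hd0 : d ≠ 0 := by rintro rfl; exact hk0 (by simpa using hd)
  set A₂ : Matrix (Fin 2) (Fin 2) K := !![1, M₁ 1 2 / (2 * d); 0, d] with hA₂
  have hA₂d : A₂.det = d := by simp [hA₂, Matrix.det_fin_two]
  have hcol₂ : ∀ i, sq A₂ i 2 = M₁ i 2 := by
    intro i
    fin_cases i
    · simp [sq, hA₂]
      field_simp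
      linear_combination (-1) * f22 + 4 * M₁ 0 2 * hM22 + 4 * M₁ 0 2 * hd
    · simp [sq, hA₂]; field_simp
    · simp [sq, hA₂, hM22, hd, pow_two]
  set M₂ := sq A₂⁻¹ * M₁ with hM₂
  have hA₂0 : A₂.det ≠ 0 := by rw [hA₂d]; exact hd0
  have hi₂ : M₂ᵀ * gram K * M₂ = (1 : K) • gram K := by
    rw [hM₂, isometry_mul hi₁, Matrix.det_nonsing_inv, hA₂d, Ring.inverse_eq_inv', hd]
    congr 1
    field_simp
  have hc₂ : ∀ i, M₂ i 0 = (1 : Matrix (Fin 3) (Fin 3) K) i 0 := fun i => by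
    have h1 : ∀ j, sq A₂ j 0 = (1 : Matrix (Fin 3) (Fin 3) K) j 0 := fun j => by
      fin_cases j <;> simp [sq, hA₂, Matrix.one_apply]
    rw [hM₂, ← (inv_det A₂ hA₂0).2, Matrix.mul_apply, Matrix.mul_apply]
    exact Finset.sum_congr rfl fun j _ => by rw [hc₁, h1]
  have hc₂' : ∀ i, M₂ i 2 = (1 : Matrix (Fin 3) (Fin 3) K) i 2 := fun i => by
    rw [hM₂, ← (inv_det A₂ hA₂0).2, Matrix.mul_apply, Matrix.mul_apply]
    exact Finset.sum_congr rfl fun j _ => by rw [hcol₂]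
  obtain ⟨-, -, g01, -, g12, g11⟩ := mem_one h2 hi₂
  rw [hc₂ 0, hc₂ 1, hc₂ 2] at g01
  rw [hc₂' 0, hc₂' 1, hc₂' 2] at g12
  simp [h2] at g01 g12
  rw [g01, g12] at g11
  simp at g11
  obtain ⟨A₃, hA₃, hsq₃⟩ : ∃ A₃ : Matrix (Fin 2) (Fin 2) K, A₃.det ≠ 0 ∧ sq A₃ = M₂ := by
    refine ⟨!![1, 0; 0, M₂ 1 1], ?_, ?_⟩
    · rcases g11 with h | h <;> simp [Matrix.det_fin_two, h]
    · ext i j
      fin_cases i <;> fin_cases j <;> simp [sq, hc₂, hc₂', g01, g12]
      all_goals rcases g11 with h | h <;> simp [h]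
  refine ⟨A₁ * (A₂ * A₃), by simp [hA₁, hA₂0, hA₃], ?_⟩
  rw [sq_mul, sq_mul, hsq₃, hM₂, hM₁, ← Matrix.mul_assoc (sq A₂), (inv_det A₂ hA₂0).1, one_mul,
    ← Matrix.mul_assoc, (inv_det A₁ hA₁).1, one_mul]

end CfsgLib.Char.FeitDegree.Conic
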