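import Cfsg.Agent.Lib.Char.FeitDegree.Chains

/-!
# Lifting characters of `p'`-order and the Gauss element

In the regular representation of a group of order `p` the element
`U = ∑ t(h)⁻¹ x ^ h`, with `t` the lift of the identity character, generates the group ring, so
`x` is a polynomial in `U` with coefficients in the local ring.
-/

set_option autoImplicit false

namespace CfsgLib.Char.FeitDegree.Gauss

open Matrix Polynomial Chains
open scoped Classical

variable {p : ℕ} [hp : Fact p.Prime] {R k : Type*} [CommRing R] [IsDomain R] [Field k]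
  (Ψ : Lattice.Sys p R k)

include Ψ in
omit hp [IsDomain R] in
theorem natCast_unit {m : ℕ} (hm : ¬ p ∣ m) : (m : k) ≠ 0 := by
  haveI := Ψ.charP
  exact fun h => hm ((CharP.cast_eq_zero_iff k p m).1 h)

omit hp in
/-- A root of unity of order prime to `p` is determined by its reduction. -/
theorem eq_of_red_eq {m : ℕ} (hm : ¬ p ∣ m) {r r' : R} (hr : r ^ m = 1) (hr' : r' ^ m = 1)
    (h : Ψ.π r = Ψ.π r') : r = r' := by
  have hm0 : 0 < m := Nat.pos_of_ne_zero fun e => hm (e ▸ dvd_zero p)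
  have hinv : r' * r' ^ (m - 1) = 1 := by rw [← pow_succ', Nat.sub_add_cancel hm0, hr']
  set u := r * r' ^ (m - 1)
  have hu : u ^ m = 1 := by rw [mul_pow, hr, one_mul, ← pow_mul, mul_comm, pow_mul, hr', one_pow]
  have hπu : Ψ.π u = 1 := by rw [map_mul, h, ← map_mul, hinv, map_one]
  have hs : Ψ.π (∑ i ∈ Finset.range m, u ^ i) ≠ 0 := by
    rw [map_sum]
    simp only [map_pow, hπu, one_pow, Finset.sum_const, Finset.card_range, nsmul_eq_mul, mul_one]
    exact natCast_unit Ψ hm
  have h1 : (∑ i ∈ Finset.range m, u ^ i) * (u - 1) = 0 := by rw [geom_sum_mul, hu, sub_self]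
  have hu1 : u = 1 := sub_eq_zero.1 ((mul_eq_zero.1 h1).resolve_left fun e => hs (by rw [e, map_zero]))
  calc r = r * (r' * r' ^ (m - 1)) := by rw [hinv, mul_one]
    _ = u * r' := by ring
    _ = r' := by rw [hu1, one_mul]

omit hp in
/-- Characters of `p'`-groups lift. -/
theorem exists_lift_char {H : Type*} [Group H] [Finite H] (hH : ¬ p ∣ Nat.card H) (β : H →* k) :
    ∃ B : H →* R, ∀ h, Ψ.π (B h) = β h := by
  set m := Nat.card H
  have hm0 : 0 < m := Nat.card_pos
  obtain ⟨s, hs⟩ := Ψ.split (X ^ m - 1) (by simpa using monic_X_pow_sub_C (1 : R) hm0.ne')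
  have key : ∀ h, ∃ r : R, r ^ m = 1 ∧ Ψ.π r = β h := by
    intro h
    have h0 : eval (β h) ((X ^ m - 1 : R[X]).map Ψ.π) = 0 := by
      rw [Polynomial.map_sub, Polynomial.map_pow, map_X, Polynomial.map_one, eval_sub, eval_pow, eval_X, eval_one,
        ← map_pow, pow_card_eq_one', map_one, sub_self]
    rw [hs, Polynomial.map_multiset_prod, eval_multiset_prod, Multiset.prod_eq_zero_iff, Multiset.map_map,
      Multiset.map_map, Multiset.mem_map] at h0
    obtain ⟨r, hr, hr0⟩ := h0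
    refine ⟨r, ?_, (sub_eq_zero.1 (by simpa using hr0)).symm⟩
    have h1 : eval r (X ^ m - 1 : R[X]) = 0 := by
      rw [hs, eval_multiset_prod, Multiset.prod_eq_zero_iff, Multiset.map_map, Multiset.mem_map]
      exact ⟨r, hr, by simp⟩
    simpa [sub_eq_zero] using h1
  choose B hB hπ using key
  exact ⟨{ toFun := B
           map_one' := eq_of_red_eq Ψ hH (hB 1) (one_pow _) (by rw [hπ, map_one, map_one])
           map_mul' := fun a b => eq_of_red_eq Ψ hH (hB _) (by rw [mul_pow, hB, hB, one_mul])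
             (by rw [hπ, map_mul, map_mul, hπ, hπ]) }, hπ⟩

/-- The powers of the root of unity. -/
def pw (s : ZMod p) : R := Ψ.ω ^ s.val

omit [IsDomain R] in
theorem pw_add (a b : ZMod p) : pw Ψ (a + b) = pw Ψ a * pw Ψ b := by
  rw [pw, pw, pw, ← pow_add, ZMod.val_add, ← pow_eq_pow_mod _ Ψ.ω_pow]

omit [IsDomain R] in
theorem pw_zero : pw Ψ 0 = 1 := by rw [pw, ZMod.val_zero, pow_zero]

omit [IsDomain R] in
theorem pw_pow (a : ZMod p) (n : ℕ) : pw Ψ a ^ n = pw Ψ ((n : ZMod p) * a) := by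
  induction n with
  | zero => simp [pw_zero]
  | succ n ih => rw [pow_succ, ih, ← pw_add, Nat.cast_succ, add_mul, one_mul]

theorem pw_injective : Function.Injective (pw Ψ) := fun a b h => by
  have hprim : IsPrimitiveRoot Ψ.ω p :=
    IsPrimitiveRoot.iff_orderOf.2 (orderOf_eq_prime Ψ.ω_pow Ψ.ω_ne)
  exact ZMod.val_injective p (hprim.pow_inj a.val_lt b.val_lt h)

omit [IsDomain R] in
theorem red_pw (a : ZMod p) : Ψ.π (pw Ψ a) = 1 := by
  haveI := Ψ.charP
  have h1 : (Ψ.π Ψ.ω - 1) ^ p = 0 := by rw [sub_pow_char, one_pow, ← map_pow, Ψ.ω_pow, map_one, sub_self]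
  rw [pw, map_pow, sub_eq_zero.1 ((pow_eq_zero_iff hp.out.ne_zero).1 h1), one_pow]

/-- Translation on `ZMod p` over a ring. -/
def cyc (A : Type*) [CommRing A] (h : ZMod p) : Matrix (ZMod p) (ZMod p) A := fun i j => if i = j + h then 1 else 0

theorem cyc_mul {A : Type*} [CommRing A] (h h' : ZMod p) : cyc A h * cyc A h' = cyc A (h + h') := by
  ext i j
  rw [Matrix.mul_apply, Finset.sum_eq_single (j + h') (fun b _ hb => by simp [cyc, hb])
    (fun hn => absurd (Finset.mem_univ _) hn)]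
  simp [cyc, add_assoc, add_comm h' h]

theorem cyc_pow {A : Type*} [CommRing A] (h : ZMod p) (n : ℕ) : cyc A h ^ n = cyc A ((n : ZMod p) * h) := by
  induction n with
  | zero => ext i j; simp [cyc, Matrix.one_apply]
  | succ n ih => rw [pow_succ, ih, cyc_mul, Nat.cast_succ, add_mul, one_mul]

theorem cyc_single {A : Type*} [CommRing A] (h : ZMod p) :
    cyc A h *ᵥ (Pi.single 0 1 : ZMod p → A) = Pi.single h 1 := by
  ext i
  simp [cyc, mulVec, dotProduct, Pi.single_apply]

theorem red_cyc (h : ZMod p) : Lattice.red Ψ (cyc R h) = cyc k h := by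
  ext i j
  simp only [Lattice.red, Matrix.map_apply, cyc]
  split_ifs <;> simp

theorem card_units : ¬ p ∣ Nat.card (ZMod p)ˣ := by
  rw [Nat.card_eq_fintype_card, ZMod.card_units]
  intro h
  have h2 := hp.out.two_le
  have := Nat.le_of_dvd (by omega) h
  omega

variable (t : (ZMod p)ˣ →* R)

/-- The Gauss element in the regular representation. -/
noncomputable def elt : Matrix (ZMod p) (ZMod p) R := ∑ h : (ZMod p)ˣ, t h⁻¹ • cyc R (h : ZMod p)

/-- Its eigenvalue. -/
noncomputable def val (s : ZMod p) : R := ∑ h : (ZMod p)ˣ, t h⁻¹ * pw Ψ (s * (h : ZMod p))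

/-- The Gauss element and the polynomial expressing `x`. -/
structure Data where
  t : (ZMod p)ˣ →* R
  red_t : ∀ h : (ZMod p)ˣ, Ψ.π (t h) = (haveI := Ψ.charP; ZMod.castHom (dvd_refl p) k (h : ZMod p))
  Φ : R[X]
  eval_val : ∀ s, Φ.eval (val Ψ t s) = pw Ψ s
  coeff_zero : (Φ.map Ψ.π).coeff 0 = 1
  coeff_one : (Φ.map Ψ.π).coeff 1 = -1

omit [IsDomain R] in
theorem val_mul (a : (ZMod p)ˣ) (s : ZMod p) : val Ψ t ((a : ZMod p) * s) = t a * val Ψ t s := by
  rw [val, val, Finset.mul_sum]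
  refine Fintype.sum_equiv (Equiv.mulLeft a) _ _ fun h => ?_
  rw [← mul_assoc, ← map_mul, Equiv.coe_mulLeft, _root_.mul_inv_rev, mul_comm h⁻¹ a⁻¹, mul_inv_cancel_left,
    Units.val_mul]
  congr 2
  ring

omit [IsDomain R] in
theorem cyc_eigen (h s : ZMod p) :
    cyc R h *ᵥ (fun j => pw Ψ (-(s * j))) = pw Ψ (s * h) • fun j => pw Ψ (-(s * j)) := by
  ext i
  rw [mulVec, dotProduct, Finset.sum_eq_single (i - h) (fun b _ hb => by
      rw [cyc, if_neg (fun e => hb (by rw [e, add_sub_cancel_right])), zero_mul])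
    (fun hn => absurd (Finset.mem_univ _) hn), cyc, if_pos (sub_add_cancel i h).symm, one_mul, Pi.smul_apply,
    smul_eq_mul, ← pw_add]
  congr 1
  ring

omit [IsDomain R] in
theorem elt_eigen (s : ZMod p) :
    elt t *ᵥ (fun j => pw Ψ (-(s * j))) = val Ψ t s • fun j => pw Ψ (-(s * j)) := by
  rw [elt, sum_mulVec, val, Finset.sum_smul]
  exact Finset.sum_congr rfl fun h _ => by rw [smul_mulVec, cyc_eigen, smul_smul]

omit [IsDomain R] in
theorem elt_pow_eigen (s : ZMod p) (i : ℕ) :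
    elt t ^ i *ᵥ (fun j => pw Ψ (-(s * j))) = val Ψ t s ^ i • fun j => pw Ψ (-(s * j)) := by
  induction i with
  | zero => simp
  | succ i ih => rw [pow_succ', ← mulVec_mulVec, ih, mulVec_smul, elt_eigen, smul_smul, pow_succ]

omit [IsDomain R] in
theorem elt_commute (h : ZMod p) : Commute (elt t) (cyc R h) := by
  refine Commute.sum_left _ _ _ fun a _ => Commute.smul_left ?_ _
  show _ * _ = _ * _
  rw [cyc_mul, cyc_mul, add_comm]

omit hp [IsDomain R] in
theorem red_aeval {ι : Type*} [Fintype ι] [DecidableEq ι] (M : Matrix ι ι R) (f : R[X]) :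
    Lattice.red Ψ (aeval M f) = aeval (Lattice.red Ψ M) (f.map Ψ.π) := by
  induction f using Polynomial.induction_on' with
  | add f g hf hg => rw [map_add, Lattice.red_add, hf, hg, Polynomial.map_add, map_add]
  | monomial n c =>
    rw [Polynomial.map_monomial, aeval_monomial, aeval_monomial, ← Algebra.smul_def, ← Algebra.smul_def,
      Lattice.red_smul]
    congr 1
    exact map_pow (Ψ.π.mapMatrix) M n

theorem coeff_sum_val {A : Type*} [CommRing A] (c : ZMod p → A) {n : ℕ} (hn : n < p) :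
    (∑ j : ZMod p, C (c j) * X ^ j.val).coeff n = c n := by
  rw [finsetSum_coeff, Finset.sum_eq_single (n : ZMod p) (fun j _ hj => ?_)
    (fun h => absurd (Finset.mem_univ _) h)]
  · rw [coeff_C_mul_X_pow, if_pos (by rw [ZMod.val_natCast, Nat.mod_eq_of_lt hn])]
  · rw [coeff_C_mul_X_pow, if_neg]
    intro e
    exact hj (by rw [e, ZMod.natCast_val, ZMod.cast_id])

/-- The polynomial exists. -/
theorem exists_data (hp2 : 2 < p) : Nonempty (Data Ψ) := by
  haveI := Ψ.charP
  let idc : (ZMod p)ˣ →* k := (ZMod.castHom (dvd_refl p) k).toMonoidHom.comp (Units.coeHom (ZMod p))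
  obtain ⟨t, ht⟩ := exists_lift_char Ψ (card_units (p := p)) idc
  set T : Matrix (ZMod p) (ZMod p) k := cyc k 1 - 1 with hT
  set U := Lattice.red Ψ (elt t) with hU
  set e₀ : ZMod p → k := Pi.single 0 1 with he₀
  have hX : cyc k 1 = 1 + T := by rw [hT, add_sub_cancel]
  have hidc : ∀ h : (ZMod p)ˣ, idc h = (((h : ZMod p).val : ℕ) : k) := fun h => by
    show ZMod.castHom (dvd_refl p) k _ = _
    rw [ZMod.castHom_apply, ← ZMod.natCast_val]
    rfl
  have s0 : ∑ h : (ZMod p)ˣ, idc h⁻¹ = 0 := by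
    rw [Fintype.sum_equiv (Equiv.inv (ZMod p)ˣ) (fun h => idc h⁻¹) idc fun h => rfl]
    have h1 := FiniteField.sum_pow_units (ZMod p) 1
    rw [if_neg (fun h => by rw [ZMod.card] at h; have := Nat.le_of_dvd one_pos h; omega)] at h1
    simp only [pow_one] at h1
    have h2 := congrArg (ZMod.castHom (dvd_refl p) k) h1
    rw [map_sum, map_zero] at h2
    exact h2
  -- the reduction of the Gauss element
  obtain ⟨W, hTW, hUW⟩ : ∃ W, Commute T W ∧ U = T * (-1 + T * W) := by
    choose r hr1 hr2 using fun h : (ZMod p)ˣ => exists_pow_sub_one T (h : ZMod p).val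
    refine ⟨∑ h : (ZMod p)ˣ, idc h⁻¹ • r h, Commute.sum_right _ _ _ fun h _ => (hr1 h).smul_right _, ?_⟩
    have e1 : ∀ h : (ZMod p)ˣ, idc h⁻¹ • cyc k (h : ZMod p)
        = idc h⁻¹ • (1 : Matrix (ZMod p) (ZMod p) k) + T * (1 + T * (idc h⁻¹ • r h)) := by
      intro h
      have e2 : cyc k (h : ZMod p) = 1 + T * ((((h : ZMod p).val : ℕ) : Matrix (ZMod p) (ZMod p) k) + T * r h) := by
        rw [← hr2, add_comm T 1, ← hX, cyc_pow, mul_one, ZMod.natCast_val, ZMod.cast_id, add_sub_cancel]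
      rw [e2, smul_add, mul_add T, smul_add, ← nsmul_one ((h : ZMod p).val), ← Nat.cast_smul_eq_nsmul k,
        Matrix.mul_smul, smul_smul, ← hidc, ← map_mul, inv_mul_cancel, map_one, one_smul, Matrix.mul_add,
        Matrix.mul_smul, Matrix.mul_smul]
    rw [hU, elt, Lattice.red_sum, Finset.sum_congr rfl fun h _ => by rw [Lattice.red_smul, red_cyc, ht, e1 h],
      Finset.sum_add_distrib, ← Finset.sum_smul, s0, zero_smul, zero_add, ← Finset.mul_sum, Finset.sum_add_distrib,
      Finset.sum_const, Finset.card_univ, ZMod.card_units, ← Nat.cast_smul_eq_nsmul k, Nat.cast_sub hp.out.one_le,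
      CharP.cast_eq_zero, zero_sub, Nat.cast_one, neg_one_smul, ← Finset.mul_sum]
  set Q := -1 + T * W with hQ
  have hTQ : Commute T Q := (Commute.neg_one_right _).add_right ((Commute.refl T).mul_right hTW)
  have hTp : T ^ p = 0 := by
    rw [hT, sub_pow_char_of_commute (Commute.one_right _) (p := p), cyc_pow, ZMod.natCast_self, zero_mul, one_pow]
    ext i j; simp [cyc, Matrix.one_apply]
  have hTQi : ∀ i, T ^ (p - 1) * Q ^ i = ((-1 : k) ^ i) • T ^ (p - 1) := by
    intro i
    induction i with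
    | zero => simp
    | succ i ih =>
      rw [pow_succ Q, ← mul_assoc, ih, smul_mul_assoc, hQ, mul_add, ← mul_assoc, ← pow_succ,
        Nat.sub_add_cancel hp.out.one_le, hTp, zero_mul, add_zero, mul_neg, mul_one, pow_succ (-1 : k), mul_smul,
        neg_one_smul]
  have hUi : ∀ i, U ^ i = T ^ i * Q ^ i := fun i => by rw [hUW, hTQ.mul_pow]
  have hsoc : T ^ (p - 1) *ᵥ e₀ ≠ 0 := by
    have hpoly : ((X : k[X]) - 1) ^ (p - 1) = ∑ i ∈ Finset.range p, X ^ i := by
      refine mul_right_cancel₀ (X_sub_C_ne_zero (1 : k)) ?_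
      rw [map_one, geom_sum_mul, ← pow_succ, Nat.sub_add_cancel hp.out.one_le, sub_pow_char, one_pow]
    have h2 := congrArg (aeval (cyc k (1 : ZMod p))) hpoly
    simp only [map_pow, map_sub, map_one, aeval_X, map_sum] at h2
    rw [← hT] at h2
    intro h0
    have h3 := congrFun h0 0
    rw [h2, sum_mulVec, Finset.sum_apply, Finset.sum_eq_single 0, pow_zero, one_mulVec] at h3
    · simp [he₀] at h3
    · intro b hb hb0
      rw [cyc_pow, he₀, cyc_single, Pi.single_apply, if_neg]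
      intro e
      rw [mul_one, eq_comm, ZMod.natCast_eq_zero_iff] at e
      exact hb0 (Nat.eq_zero_of_dvd_of_lt e (Finset.mem_range.1 hb))
    · intro h; exact absurd (Finset.mem_range.2 hp.out.pos) h
  have hkill : U ^ p *ᵥ e₀ = 0 := by rw [hUi, hTp, zero_mul, zero_mulVec]
  have hUsoc : U ^ (p - 1) *ᵥ e₀ ≠ 0 := by
    rw [hUi, hTQi, smul_mulVec]
    exact smul_ne_zero (pow_ne_zero _ (neg_ne_zero.2 one_ne_zero)) hsoc
  have hind := indep_of_socle (K := Unit) (L := fun _ => p) (v := fun _ => e₀) (T := U) (fun _ => hkill)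
    (linearIndependent_unique_iff.2 hUsoc)
  let Msq : Matrix (ZMod p) (ZMod p) R := fun i j => (elt t ^ j.val *ᵥ (Pi.single 0 1 : ZMod p → R)) i
  have hcol : ∀ i : ℕ, Lattice.red Ψ (elt t ^ i) = U ^ i := fun i => map_pow (Ψ.π.mapMatrix) (elt t) i
  have hunit : IsUnit Msq := by
    refine Lattice.isUnit_of_red Ψ (Matrix.linearIndependent_cols_iff_isUnit.1 ?_)
    have := hind.comp (fun j : ZMod p => (⟨(), ⟨j.val, j.val_lt⟩⟩ : Σ _ : Unit, Fin p)) fun j j' e => by
      simp only [Sigma.mk.injEq, heq_eq_eq, Fin.mk.injEq, true_and] at e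
      exact ZMod.val_injective p e
    convert this using 1
    funext j i
    show Ψ.π ((elt t ^ j.val *ᵥ (Pi.single 0 1 : ZMod p → R)) i) = (U ^ j.val *ᵥ e₀) i
    rw [he₀, mulVec_single_one, mulVec_single_one, ← hcol]
    rfl
  obtain ⟨Mi, hMi⟩ := hunit.exists_right_inv
  set c : ZMod p → R := Mi *ᵥ Pi.single 1 1 with hc
  set Φ : R[X] := ∑ j : ZMod p, C (c j) * X ^ j.val with hΦ
  have hΦe : aeval (elt t) Φ *ᵥ (Pi.single 0 1 : ZMod p → R) = Pi.single 1 1 := by
    have h1 : Msq *ᵥ c = Pi.single 1 1 := by rw [hc, mulVec_mulVec, hMi, one_mulVec]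
    rw [← h1]
    ext i
    simp only [hΦ, map_sum, map_mul, aeval_C, map_pow, aeval_X, ← Algebra.smul_def, sum_mulVec, Finset.sum_apply,
      smul_mulVec, Pi.smul_apply, smul_eq_mul]
    simp only [mulVec, dotProduct, Msq]
    exact Finset.sum_congr rfl fun j _ => mul_comm _ _
  have hΦU : aeval (elt t) Φ = cyc R (1 : ZMod p) := by
    refine Matrix.toLin'.injective ((Pi.basisFun R (ZMod p)).ext fun j => ?_)
    have hcm : Commute (aeval (elt t) Φ) (cyc R j) :=
      (CfsgLib.BrouePuig.commute_aeval (elt_commute t j).symm Φ).symm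
    rw [Pi.basisFun_apply, Matrix.toLin'_apply, Matrix.toLin'_apply, ← cyc_single j, mulVec_mulVec, hcm.eq,
      ← mulVec_mulVec, hΦe, mulVec_mulVec, cyc_mul, ← cyc_single (A := R) 1, mulVec_mulVec, cyc_mul, add_comm]
  refine ⟨⟨t, fun h => ht h, Φ, fun s => ?_, ?_, ?_⟩⟩
  · have h1 := congrArg (fun M => (M *ᵥ fun j => pw Ψ (-(s * j))) 0) hΦU
    simp only [cyc_eigen, hΦ, map_sum, map_mul, aeval_C, map_pow, aeval_X, ← Algebra.smul_def, sum_mulVec,
      smul_mulVec, elt_pow_eigen, Finset.sum_apply, Pi.smul_apply, smul_eq_mul, mul_zero, neg_zero, pw_zero,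
      mul_one] at h1
    rw [hΦ, eval_finsetSum]
    simpa using h1
  all_goals
    have hred : aeval U (Φ.map Ψ.π) *ᵥ e₀ = e₀ + T *ᵥ e₀ := by
      rw [hU, ← red_aeval, hΦU, red_cyc, hX, add_mulVec, one_mulVec]
    rw [hΦ, Polynomial.map_sum] at hred
    simp only [Polynomial.map_mul, map_C, Polynomial.map_pow, map_X, map_sum, map_mul, aeval_C, map_pow, aeval_X,
      ← Algebra.smul_def, sum_mulVec, smul_mulVec, hUi] at hred
    have hΦc : ∀ n < p, (Φ.map Ψ.π).coeff n = Ψ.π (c n) := fun n hn => by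
      rw [coeff_map, hΦ, coeff_sum_val c hn]
    have hmul : ∀ m : ℕ, ∀ j : ZMod p, p ≤ m + j.val →
        T ^ m *ᵥ (Ψ.π (c j) • ((T ^ j.val * Q ^ j.val) *ᵥ e₀)) = 0 := fun m j hj => by
      rw [mulVec_smul, mulVec_mulVec, ← mul_assoc, ← pow_add, show m + j.val = p + (m + j.val - p) by omega,
        pow_add, hTp, zero_mul, zero_mul, zero_mulVec, smul_zero]
    have h0 : Ψ.π (c 0) = 1 := by
      have h1 := congrArg (T ^ (p - 1) *ᵥ ·) hred
      simp only [mulVec_sum, mulVec_add] at h1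
      rw [Finset.sum_eq_single 0 (fun j _ hj => hmul _ j (by
          have : 0 < j.val := Nat.pos_of_ne_zero fun e => hj ((ZMod.val_eq_zero j).1 e)
          omega)) (fun h => absurd (Finset.mem_univ _) h), ZMod.val_zero, pow_zero, pow_zero, one_mul, one_mulVec,
        mulVec_mulVec (M := T ^ (p - 1)), ← pow_succ, Nat.sub_add_cancel hp.out.one_le, hTp, zero_mulVec, add_zero,
        mulVec_smul] at h1
      exact smul_left_injective k hsoc (by simpa using h1)
  · rw [hΦc 0 hp.out.pos, Nat.cast_zero, h0]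
  · rw [hΦc 1 hp.out.one_lt, Nat.cast_one]
    have h1 := congrArg (T ^ (p - 2) *ᵥ ·) hred
    simp only [mulVec_sum, mulVec_add] at h1
    have h01 : (0 : ZMod p) ≠ 1 := zero_ne_one
    rw [← Finset.add_sum_erase _ _ (Finset.mem_univ (0 : ZMod p)),
      Finset.sum_eq_single 1 (fun j hj hj1 => hmul _ j (by
        have h0' : j.val ≠ 0 := fun e => (Finset.mem_erase.1 hj).1 ((ZMod.val_eq_zero j).1 e)
        have h1' : j.val ≠ 1 := fun e => hj1 (ZMod.val_injective p (by rw [e, ZMod.val_one]))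
        omega)) (fun h => absurd (Finset.mem_erase.2 ⟨h01.symm, Finset.mem_univ _⟩) h),
      ZMod.val_zero, ZMod.val_one, pow_zero, pow_zero, one_mul, one_mulVec, pow_one, pow_one, h0, one_smul,
      add_right_inj, mulVec_smul, mulVec_mulVec, ← mul_assoc, ← pow_succ, show p - 2 + 1 = p - 1 by omega,
      mulVec_mulVec, ← pow_succ, show p - 2 + 1 = p - 1 by omega] at h1
    have h2 := hTQi 1
    rw [pow_one, pow_one] at h2
    rw [h2, neg_one_smul, neg_mulVec, smul_neg, ← neg_smul] at h1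
    exact neg_eq_iff_eq_neg.1 (smul_left_injective k hsoc (by simpa using h1))

/-- The chains of a reduced representation in which `x` is a polynomial in a nilpotent `U`. -/
theorem chain_of_poly {N : Type*} [Group N] {Δ : Semi p N} {ι : Type*} [Fintype ι] [DecidableEq ι]
    {S : N →* Matrix ι ι k} {U : Matrix ι ι k} {φ : k[X]} (hS : S Δ.x = aeval U φ) (h0 : φ.coeff 0 = 1)
    (h1 : φ.coeff 1 = -1) (j : ℕ) (v : ι → k) :
    (U ^ j *ᵥ v = 0 → tee Δ S ^ j *ᵥ v = 0) ∧
      (U ^ (j + 1) *ᵥ v = 0 → tee Δ S ^ j *ᵥ v = ((-1 : k) ^ j) • (U ^ j *ᵥ v)) := by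
  obtain ⟨q, hq⟩ : (X : k[X]) ^ 2 ∣ φ - 1 + X := by
    rw [Polynomial.X_pow_dvd_iff]
    intro d hd
    rcases (by omega : d = 0 ∨ d = 1) with rfl | rfl <;> simp [h0, h1, coeff_one]
  have ht : tee Δ S = U * (-1 + U * aeval U q) := by
    rw [tee, hS, show φ = X ^ 2 * q - X + 1 by rw [← hq]; ring]
    simp only [map_add, map_sub, map_mul, map_pow, aeval_X, map_one, add_sub_cancel_right, pow_two, mul_add, mul_neg,
      mul_one, mul_assoc]
    abel
  have hc : Commute U (-1 + U * aeval U q) :=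
    (Commute.neg_one_right _).add_right ((Commute.refl U).mul_right (CfsgLib.BrouePuig.commute_aeval (Commute.refl U) q))
  refine ⟨fun h => ?_, fun h => ?_⟩
  · rw [ht, hc.mul_pow, (hc.pow_pow j j).eq, ← mulVec_mulVec, h, mulVec_zero]
  · have key : ∀ i, (-1 + U * aeval U q) ^ i *ᵥ (U ^ j *ᵥ v) = ((-1 : k) ^ i) • (U ^ j *ᵥ v) := by
      intro i
      induction i with
      | zero => simp
      | succ i ih =>
        rw [pow_succ', ← mulVec_mulVec, ih, mulVec_smul, add_mulVec, neg_mulVec, one_mulVec, mulVec_mulVec,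
          (CfsgLib.BrouePuig.commute_aeval (Commute.refl U) q).eq, mul_assoc, ← pow_succ', ← mulVec_mulVec, h,
          mulVec_zero, add_zero, pow_succ, mul_smul, neg_one_smul, smul_neg]
    rw [ht, hc.mul_pow, (hc.pow_pow j j).eq, ← mulVec_mulVec, key]

end CfsgLib.Char.FeitDegree.Gauss
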