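import Cfsg.Agent.Lib.Char.FeitDegree.Summand
import Cfsg.Agent.Lib.Char.FeitDegree.Omega
import Cfsg.Agent.Lib.Blocks.RankOneFrame
import Cfsg.Agent.Lib.CharDeep.IrrTools

/-!
# A lattice with indecomposable reduction

The local ring at a maximal ideal over `p` as a system, a lattice generated by the image of a
primitive idempotent, and its restriction to the normalizer: a single chain.
-/

set_option autoImplicit false

open scoped Classical

namespace CfsgLib.Char.FeitDegree.Indec

open Cfsg CfsgLib.Blocks CfsgLib.Blocks.ResidueAlgebra Matrix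
open Polynomial hiding funext

variable {p : ℕ} {M : Ideal AlgInt} (hM : IsPModular p M)

/-! ### The system -/

/-- The primitive root of unity in the local ring. -/
noncomputable def zeta [Fact p.Prime] : localSubring hM :=
  ⟨(ZMod.stdAddChar (1 : ZMod p) : ℂ), LR.of_isIntegral hM ⟨Polynomial.X ^ p - 1,
    Polynomial.monic_X_pow_sub_C 1 (Fact.out : p.Prime).ne_zero, by
      rw [eval₂_sub, eval₂_X_pow, eval₂_one, ← AddChar.map_nsmul_eq_pow, nsmul_eq_mul, ZMod.natCast_self, zero_mul,
        AddChar.map_zero_eq_one, sub_self]⟩⟩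

theorem coe_zeta [Fact p.Prime] : ((zeta hM : localSubring hM) : ℂ) = (ZMod.stdAddChar (1 : ZMod p) : ℂ) := rfl

/-- The local ring at `M` with its residue field. -/
noncomputable def sys [hp : Fact p.Prime] : Lattice.Sys p (localSubring hM) (Residue hM) where
  π := Ideal.Quotient.mk (localMaxIdeal hM)
  surj := Ideal.Quotient.mk_surjective
  unit := BrouePuig.isUnit_of_residue_ne_zero hM
  split := BrouePuig.splits_local hM
  ω := zeta hM
  ω_pow := Subtype.ext (by
    rw [SubmonoidClass.coe_pow, coe_zeta, ← AddChar.map_nsmul_eq_pow, nsmul_eq_mul, ZMod.natCast_self, zero_mul,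
      AddChar.map_zero_eq_one]
    rfl)
  ω_ne := fun h => by
    have h1 := congrArg Subtype.val h
    rw [coe_zeta] at h1
    exact one_ne_zero (ZMod.injective_stdAddChar (h1.trans (AddChar.map_zero_eq_one _).symm))
  charP := BrouePuig.charP_residue hM

include hM in
theorem isAlgClosed : IsAlgClosed (Residue hM) := by
  refine IsAlgClosed.of_exists_root _ fun f hf hirr => ?_
  obtain ⟨s, hs⟩ := BrouePuig.splits_residue hM f hf
  obtain ⟨r, hr⟩ : ∃ r, r ∈ s := Multiset.exists_mem_of_ne_zero fun h => hirr.not_isUnit (by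
    rw [hs, h, Multiset.map_zero, Multiset.prod_zero]
    exact isUnit_one)
  refine ⟨r, ?_⟩
  rw [hs, eval_multiset_prod]
  exact Multiset.prod_eq_zero (Multiset.mem_map.2 ⟨_, Multiset.mem_map.2 ⟨r, hr, rfl⟩, by simp⟩)

theorem isLocalRing : IsLocalRing (localSubring hM) := by
  haveI : Nontrivial (localSubring hM) := ⟨⟨0, 1, fun h => zero_ne_one (congrArg Subtype.val h)⟩⟩
  refine IsLocalRing.of_isUnit_or_isUnit_one_sub_self fun r => ?_
  by_cases h : Ideal.Quotient.mk (localMaxIdeal hM) r = 0
  · refine Or.inr (BrouePuig.isUnit_of_residue_ne_zero hM _ ?_)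
    rw [map_sub, map_one, h, sub_zero]
    exact one_ne_zero
  · exact Or.inl (BrouePuig.isUnit_of_residue_ne_zero hM _ h)

theorem isAlgebraic_coe (x : localSubring hM) : IsAlgebraic ℤ (x : ℂ) := by
  obtain ⟨a, b, -, h⟩ := x.2
  rw [← h]
  refine (IsFractionRing.isAlgebraic_iff ℤ ℚ ℂ).2 ?_
  have ha : IsIntegral ℚ (a : ℂ) := (show IsIntegral ℤ (a : ℂ) from a.2).tower_top
  have hb : IsIntegral ℚ (b : ℂ) := (show IsIntegral ℤ (b : ℂ) from b.2).tower_top
  rw [div_eq_mul_inv]
  exact (ha.mul hb.inv).isAlgebraic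

theorem dvd_total (x y : localSubring hM) : x ∣ y ∨ y ∣ x := by
  by_cases hx : x = 0
  · exact Or.inr (hx ▸ dvd_zero y)
  by_cases hy : y = 0
  · exact Or.inl (hy ▸ dvd_zero x)
  have hx' : (x : ℂ) ≠ 0 := fun h => hx (Subtype.ext h)
  have hy' : (y : ℂ) ≠ 0 := fun h => hy (Subtype.ext h)
  have halg : IsAlgebraic ℤ ((y : ℂ) / (x : ℂ)) := by
    refine (IsFractionRing.isAlgebraic_iff ℤ ℚ ℂ).2 ?_
    have h1 := ((IsFractionRing.isAlgebraic_iff ℤ ℚ ℂ).1 (isAlgebraic_coe hM y)).isIntegral
    have h2 := ((IsFractionRing.isAlgebraic_iff ℤ ℚ ℂ).1 (isAlgebraic_coe hM x)).isIntegral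
    rw [div_eq_mul_inv]
    exact (h1.mul h2.inv).isAlgebraic
  rcases DegreeTools.ValLattice.LR_or_inv hM halg with h | h
  · exact Or.inl ⟨⟨_, h⟩, Subtype.ext (by
      show (y : ℂ) = (x : ℂ) * ((y : ℂ) / (x : ℂ))
      field_simp)⟩
  · exact Or.inr ⟨⟨_, h⟩, Subtype.ext (by
      show (x : ℂ) = (y : ℂ) * ((y : ℂ) / (x : ℂ))⁻¹
      field_simp)⟩

/-- A finitely generated lattice in a free module is free. -/
theorem free_of_fg {n : ℕ} (L : Submodule (localSubring hM) (Fin n → localSubring hM))
    [Module.Finite (localSubring hM) L] : Module.Free (localSubring hM) L := by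
  haveI := isLocalRing hM
  haveI : ValuationRing (localSubring hM) := ValuationRing.iff_dvd_total.2 ⟨dvd_total hM⟩
  haveI : Module.Flat (localSubring hM) L := Module.Flat.flat_iff_torsion_eq_bot_of_isBezout.2 (by
    rw [← Submodule.isTorsionFree_iff_torsion_eq_bot]; infer_instance)
  exact Module.free_of_flat_of_isLocalRing

/-! ### The lattice -/

variable {G : Type*} [Group G] [Fintype G]

/-- An idempotent of the group algebra over the local ring, not killed by a representation and with
primitive reduction. -/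
theorem exists_primitive {A : Type*} [Ring A] [Nontrivial A] (L : BrouePuig.LAlg hM G →+* A) :
    ∃ f : BrouePuig.LAlg hM G, IsIdempotentElem f ∧ L f ≠ 0 ∧
      ∀ e : BrouePuig.KAlg hM G, IsIdempotentElem e → BrouePuig.red hM f * e = e → e * BrouePuig.red hM f = e →
        e = 0 ∨ e = BrouePuig.red hM f := by
  let rk : BrouePuig.LAlg hM G → ℕ := fun j =>
    Module.finrank (Residue hM) (LinearMap.range (LinearMap.mulLeft (Residue hM) (BrouePuig.red hM j)))
  have hex : ∃ m, ∃ j : BrouePuig.LAlg hM G, IsIdempotentElem j ∧ L j ≠ 0 ∧ rk j = m :=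
    ⟨_, 1, IsIdempotentElem.one, by rw [map_one]; exact one_ne_zero, rfl⟩
  obtain ⟨j, hj, hjL, hjr⟩ := Nat.find_spec hex
  refine ⟨j, hj, hjL, fun e he hje hej => ?_⟩
  by_contra hcon
  push Not at hcon
  obtain ⟨a, ha, hae, hja, haj, -⟩ := BrouePuig.exists_lift_idem_corner hM hj he hje hej
  have hsum : L a + L (j - a) = L j := by rw [← map_add, add_sub_cancel]
  have hlt : ∀ b : BrouePuig.LAlg hM G, BrouePuig.red hM j * BrouePuig.red hM b = BrouePuig.red hM b →
      BrouePuig.red hM b * BrouePuig.red hM j = BrouePuig.red hM b →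
      IsIdempotentElem (BrouePuig.red hM b) → BrouePuig.red hM b ≠ BrouePuig.red hM j → rk b < rk j := by
    intro b h1 h2 h3 h4
    refine Submodule.finrank_lt_finrank_of_lt (lt_of_le_of_ne ?_ fun heq => ?_)
    · rintro _ ⟨u, rfl⟩
      exact ⟨BrouePuig.red hM b * u, by simp only [LinearMap.mulLeft_apply, ← mul_assoc, h1]⟩
    · obtain ⟨u, hu⟩ : BrouePuig.red hM j ∈
          LinearMap.range (LinearMap.mulLeft (Residue hM) (BrouePuig.red hM b)) :=
        heq ▸ ⟨1, by simp⟩
      refine h4 ?_
      rw [LinearMap.mulLeft_apply] at hu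
      calc BrouePuig.red hM b = BrouePuig.red hM b * BrouePuig.red hM j := h2.symm
        _ = BrouePuig.red hM b * (BrouePuig.red hM b * u) := by rw [hu]
        _ = BrouePuig.red hM j := by rw [← mul_assoc, h3.eq, hu]
  have hjj : BrouePuig.red hM j * BrouePuig.red hM j = BrouePuig.red hM j := by rw [← map_mul, hj.eq]
  rcases eq_or_ne (L a) 0 with h0 | h0
  · have hidem : IsIdempotentElem (j - a) := by
      show (j - a) * (j - a) = j - a
      rw [mul_sub, sub_mul, sub_mul, hj.eq, hja, haj, ha.eq, sub_self, sub_zero]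
    refine Nat.find_min hex (m := rk (j - a)) (hjr ▸ hlt _ ?_ ?_ ?_ ?_)
      ⟨j - a, hidem, fun h => hjL (by rw [← hsum, h0, h, add_zero]), rfl⟩
    · rw [map_sub, hae, mul_sub, hjj, hje]
    · rw [map_sub, hae, sub_mul, hjj, hej]
    · exact hidem.map (BrouePuig.red hM)
    · rw [map_sub, hae]
      exact fun h => hcon.1 (by simpa using h)
  · exact Nat.find_min hex (m := rk a) (hjr ▸ hlt _ (by rw [hae, hje]) (by rw [hae, hej]) (by rw [hae]; exact he)
      (by rw [hae]; exact hcon.2)) ⟨a, ha, h0, rfl⟩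

set_option maxHeartbeats 1000000 in
/-- An irreducible character has a lattice with indecomposable reduction. -/
theorem exists_indec (χ : IrrCharacter G) :
    haveI := Fact.mk hM.1
    ∃ (n : ℕ) (S : G →* Matrix (Fin n) (Fin n) (localSubring hM)),
      (∀ g, (χ : G → ℂ) g = (((S g).trace : localSubring hM) : ℂ)) ∧
      ∀ e : Matrix (Fin n) (Fin n) (Residue hM), IsIdempotentElem e →
        Stable.IsEq (Lattice.redRep (sys hM) S) (Lattice.redRep (sys hM) S) e → e = 0 ∨ e = 1 := by
  haveI := Fact.mk hM.1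
  haveI := isLocalRing hM
  obtain ⟨n, SC, hSC, htr⟩ := RankOneFrame.exists_lattice_rep hM χ
  let ιC : localSubring hM →+* ℂ := (localSubring hM).subtype
  let S₀ : G →* Matrix (Fin n) (Fin n) (localSubring hM) :=
    { toFun := fun g => fun i j => ⟨SC g i j, hSC g i j⟩
      map_one' := by
        ext i j
        show SC 1 i j = (((1 : Matrix (Fin n) (Fin n) (localSubring hM)) i j : localSubring hM) : ℂ)
        rw [map_one, Matrix.one_apply, Matrix.one_apply]
        split_ifs <;> rfl
      map_mul' := fun g h => by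
        ext i j
        show SC (g * h) i j = ((∑ l, (⟨SC g i l, hSC g i l⟩ : localSubring hM) * ⟨SC h l j, hSC h l j⟩ :
          localSubring hM) : ℂ)
        rw [map_mul, Matrix.mul_apply]
        simp only [AddSubmonoidClass.coe_finsetSum, MulMemClass.coe_mul] }
  have hmapS : ∀ g, ιC.mapMatrix (S₀ g) = SC g := fun g => by ext i j; rfl
  have hn : n = charDegree (χ : G → ℂ) := by
    apply Nat.cast_injective (R := ℂ)
    rw [← irr_one_eq, htr, map_one, Matrix.trace_one, Fintype.card_fin]
  haveI : Nonempty (Fin n) := ⟨⟨0, hn ▸ charDegree_pos χ⟩⟩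
  let L₀ := MonoidAlgebra.lift (localSubring hM) (Matrix (Fin n) (Fin n) (localSubring hM)) G S₀
  obtain ⟨f, hf, hfL, hprim⟩ := exists_primitive hM (L := L₀.toRingHom)
  obtain ⟨j₀, hv⟩ : ∃ j₀, L₀ f *ᵥ (Pi.single j₀ 1 : Fin n → localSubring hM) ≠ 0 := by
    by_contra h
    push Not at h
    refine hfL ?_
    ext i j
    have := congrFun (h j) i
    simp only [mulVec_single_one, Matrix.col_apply, Pi.zero_apply] at this
    simpa using congrArg Subtype.val this
  set w := L₀ f *ᵥ (Pi.single j₀ 1 : Fin n → localSubring hM) with hw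
  have hfw : L₀ f *ᵥ w = w := by rw [hw, mulVec_mulVec, ← map_mul, hf.eq]
  let Φ : BrouePuig.LAlg hM G →ₗ[localSubring hM] (Fin n → localSubring hM) :=
    { toFun := fun a => L₀ a *ᵥ w
      map_add' := fun a b => by rw [map_add, add_mulVec]
      map_smul' := fun r a => by rw [map_smul, smul_mulVec]; rfl }
  set L := LinearMap.range Φ
  haveI : Module.Finite (localSubring hM) L := Module.Finite.range Φ
  haveI : Module.Free (localSubring hM) L := free_of_fg hM L
  set m := Module.finrank (localSubring hM) L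
  let b : Module.Basis (Fin m) (localSubring hM) L := Module.finBasis _ L
  let ib : Matrix (Fin n) (Fin m) (localSubring hM) := fun i j => (b j : Fin n → localSubring hM) i
  let co : L → Fin m → localSubring hM := fun u => ⇑(b.repr u)
  have hib : ∀ u : L, ib *ᵥ co u = (u : Fin n → localSubring hM) := fun u => by
    funext i
    have h := congrFun (congrArg Subtype.val (b.sum_repr u)) i
    simp only [AddSubmonoidClass.coe_finsetSum, SetLike.val_smul, Finset.sum_apply, Pi.smul_apply, smul_eq_mul] at h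
    rw [← h]
    simp only [mulVec, dotProduct, ib, co]
    exact Finset.sum_congr rfl fun x _ => mul_comm _ _
  have hibinj : ∀ c : Fin m → localSubring hM, ib *ᵥ c = 0 → c = 0 := by
    intro c hc
    obtain ⟨u, rfl⟩ : ∃ u, co u = c := ⟨∑ j, c j • b j, funext fun j => by
      simp only [co]; rw [Module.Basis.repr_sum_self]⟩
    rw [hib] at hc
    rw [show u = 0 from Subtype.ext hc]
    funext j
    simp [co]
  have hstab : ∀ (a : BrouePuig.LAlg hM G) (u : L), L₀ a *ᵥ (u : Fin n → localSubring hM) ∈ L := by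
    rintro a ⟨_, c, rfl⟩
    exact ⟨a * c, by show L₀ (a * c) *ᵥ w = L₀ a *ᵥ (L₀ c *ᵥ w); rw [map_mul, ← mulVec_mulVec w]⟩
  let Tm : G → Matrix (Fin m) (Fin m) (localSubring hM) := fun g i j =>
    co ⟨L₀ (MonoidAlgebra.single g 1) *ᵥ (b j : Fin n → localSubring hM), hstab _ _⟩ i
  have hL0S : ∀ g, L₀ (MonoidAlgebra.single g 1) = S₀ g := fun g => by simp [L₀]
  have hTm : ∀ g, ib * Tm g = S₀ g * ib := fun g => by
    refine Matrix.ext fun i j => ?_
    have h := congrFun (hib ⟨L₀ (MonoidAlgebra.single g 1) *ᵥ (b j : Fin n → localSubring hM), hstab _ _⟩) i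
    rw [Matrix.mul_apply, Matrix.mul_apply]
    refine h.trans ?_
    show (L₀ (MonoidAlgebra.single g 1) *ᵥ (b j : Fin n → localSubring hM)) i = _
    rw [hL0S]
    rfl
  have cancel : ∀ X Y : Matrix (Fin m) (Fin m) (localSubring hM), ib * X = ib * Y → X = Y := fun X Y h => by
    refine Matrix.ext fun i j => ?_
    have h1 : ib *ᵥ ((X - Y) *ᵥ Pi.single j 1) = 0 := by
      rw [mulVec_mulVec, Matrix.mul_sub, h, sub_self, zero_mulVec]
    have h2 := congrFun (hibinj _ h1) i
    simpa [sub_eq_zero] using h2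
  let T : G →* Matrix (Fin m) (Fin m) (localSubring hM) :=
    { toFun := Tm
      map_one' := cancel _ _ (by rw [hTm, map_one, Matrix.one_mul, Matrix.mul_one])
      map_mul' := fun g h => cancel _ _ (by
        rw [hTm, map_mul, Matrix.mul_assoc, ← hTm h, ← Matrix.mul_assoc, ← hTm g, Matrix.mul_assoc]) }
  -- the traces
  have hTtr : ∀ g, (χ : G → ℂ) g = (((T g).trace : localSubring hM) : ℂ) := by
    let K := FractionRing (localSubring hM)
    let ιK : K →+* ℂ := IsFractionRing.lift (K := K) (g := ιC) Subtype.val_injective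
    set iK := ib.map (algebraMap (localSubring hM) K) with hiK
    have hker : ∀ c : Fin m → K, iK *ᵥ c = 0 → c = 0 := by
      intro c hc
      obtain ⟨d, hd⟩ := IsLocalization.exist_integer_multiples_of_finite
        (nonZeroDivisors (localSubring hM)) c
      choose c' hc' using hd
      have h0 : ib *ᵥ c' = 0 := by
        funext i
        apply IsFractionRing.injective (localSubring hM) K
        have := congrArg (fun x : K => algebraMap (localSubring hM) K (d : localSubring hM) * x) (congrFun hc i)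
        simp only [Pi.zero_apply, mul_zero] at this
        rw [Pi.zero_apply, map_zero, ← this]
        simp only [mulVec, dotProduct, map_sum, map_mul, Finset.mul_sum, hiK, Matrix.map_apply]
        refine Finset.sum_congr rfl fun j _ => ?_
        rw [hc' j, Algebra.smul_def]
        ring
      funext j
      have h2 := hc' j
      rw [congrFun (hibinj c' h0) j, Pi.zero_apply, map_zero, Algebra.smul_def] at h2
      refine (mul_eq_zero.1 h2.symm).resolve_left fun h3 => ?_
      exact nonZeroDivisors.ne_zero d.2 (IsFractionRing.injective (localSubring hM) K (by rw [h3, map_zero]))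
    obtain ⟨lK, hlK⟩ : ∃ lK : Matrix (Fin m) (Fin n) K, lK * iK = 1 := by
      obtain ⟨g, hg⟩ := LinearMap.exists_leftInverse_of_injective (Matrix.toLin' iK)
        (LinearMap.ker_eq_bot'.2 fun c hc => hker c (by rwa [Matrix.toLin'_apply] at hc))
      refine ⟨LinearMap.toMatrix' g, Matrix.toLin'.injective ?_⟩
      rw [Matrix.toLin'_mul, Matrix.toLin'_toMatrix', hg, Matrix.toLin'_one]
    set iC := ib.map ιC with hiC
    set lC := lK.map ιK
    have hiCK : iC = iK.map ιK := by
      ext i j
      exact (IsFractionRing.lift_algebraMap (K := K) (g := ιC) (fun a b h => Subtype.ext h) _).symm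
    have hlC : lC * iC = 1 := by
      rw [hiCK, ← Matrix.map_mul, hlK, Matrix.map_one _ (map_zero _) (map_one _)]
    have hint : ∀ g, SC g * iC = iC * ιC.mapMatrix (T g) := fun g => by
      rw [← hmapS, hiC, RingHom.mapMatrix_apply, RingHom.mapMatrix_apply, ← Matrix.map_mul, ← Matrix.map_mul]
      exact congrArg (Matrix.map · ιC) (hTm g).symm
    obtain ⟨nρ, ρ, hρi, hρ⟩ := χ.2
    let σ : Representation ℂ G (Fin n → ℂ) :=
      (Matrix.toLinAlgEquiv' : Matrix (Fin n) (Fin n) ℂ ≃ₐ[ℂ] Module.End ℂ (Fin n → ℂ)).toAlgHom.toMonoidHom.comp SC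
    haveI := hρi
    have hσc : σ.character = ρ.character := by
      funext g
      rw [hρ, htr g]
      exact Matrix.trace_toLin'_eq (SC g)
    obtain ⟨E⟩ := CharDeep.IrrTools.nonempty_equiv_of_character_eq ρ σ hσc
    set W := LinearMap.range iC.mulVecLin
    have hWinv : ∀ g, ∀ u ∈ W, σ g u ∈ W := by
      rintro g _ ⟨c, rfl⟩
      refine ⟨ιC.mapMatrix (T g) *ᵥ c, ?_⟩
      show iC *ᵥ (ιC.mapMatrix (T g) *ᵥ c) = SC g *ᵥ (iC *ᵥ c)
      rw [mulVec_mulVec, mulVec_mulVec, hint]
    have hW : W = ⊤ := by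
      rcases CharDeep.IrrTools.eq_bot_or_top_of_invariant ρ (W.comap E.toLinearEquiv.toLinearMap)
        (fun g u hu => by
          show E.toLinearEquiv (ρ g u) ∈ W
          rw [show E.toLinearEquiv (ρ g u) = σ g (E.toLinearEquiv u) from Representation.IntertwiningMap.isIntertwining _ _ E.toIntertwiningMap g u]
          exact hWinv g _ hu) with h | h
      · exfalso
        have hwL : w ∈ L := ⟨f, hfw⟩
        have hwne : (⟨w, hwL⟩ : L) ≠ 0 := fun e => hv (congrArg Subtype.val e)
        obtain ⟨j, hj⟩ : ∃ j, co ⟨w, hwL⟩ j ≠ 0 := by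
          by_contra hall
          push Not at hall
          exact hwne (b.repr.injective (Finsupp.ext fun j => by rw [map_zero]; exact hall j))
        have hWbot : W = ⊥ := by
          rw [eq_bot_iff]
          intro u hu
          have : E.toLinearEquiv.symm u ∈ W.comap E.toLinearEquiv.toLinearMap := by
            show E.toLinearEquiv (E.toLinearEquiv.symm u) ∈ W
            rw [LinearEquiv.apply_symm_apply]; exact hu
          rw [h, Submodule.mem_bot] at this
          exact (LinearEquiv.map_eq_zero_iff _).1 this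
        have h1 : iC *ᵥ (Pi.single j 1 : Fin m → ℂ) = 0 := by
          have : iC.mulVecLin (Pi.single j 1) ∈ W := ⟨_, rfl⟩
          rwa [hWbot, Submodule.mem_bot] at this
        have h2 := congrArg (lC *ᵥ ·) h1
        rw [mulVec_mulVec, hlC, one_mulVec, mulVec_zero] at h2
        simpa using congrFun h2 j
      · rw [eq_top_iff]
        intro u _
        have : E.toLinearEquiv.symm u ∈ W.comap E.toLinearEquiv.toLinearMap := by rw [h]; trivial
        have this' : E.toLinearEquiv (E.toLinearEquiv.symm u) ∈ W := this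
        rwa [LinearEquiv.apply_symm_apply] at this'
    have hil : iC * lC = 1 := by
      refine Matrix.toLin'.injective (LinearMap.ext fun u => ?_)
      obtain ⟨c, rfl⟩ : u ∈ W := hW ▸ Submodule.mem_top
      simp only [Matrix.toLin'_apply, Matrix.mulVecLin_apply, Matrix.one_mulVec]
      rw [mulVec_mulVec, Matrix.mul_assoc, hlC, Matrix.mul_one]
    intro g
    rw [htr g]
    show _ = ιC ((T g).trace)
    rw [AddMonoidHom.map_trace ιC, show (T g).map ιC = ιC.mapMatrix (T g) from rfl]
    calc (SC g).trace = (SC g * (iC * lC)).trace := by rw [hil, Matrix.mul_one]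
      _ = (iC * (ιC.mapMatrix (T g) * lC)).trace := by rw [← Matrix.mul_assoc, hint, Matrix.mul_assoc]
      _ = (ιC.mapMatrix (T g)).trace := by rw [Matrix.trace_mul_comm, Matrix.mul_assoc, hlC, Matrix.mul_one]
  refine ⟨m, T, hTtr, fun e he hee => ?_⟩
  -- indecomposable
  let LT := MonoidAlgebra.lift (localSubring hM) (Matrix (Fin m) (Fin m) (localSubring hM)) G T
  let Lk := MonoidAlgebra.lift (Residue hM) (Matrix (Fin m) (Fin m) (Residue hM)) G (Lattice.redRep (sys hM) T)
  have hLTk : ∀ a, Lk (BrouePuig.red hM a) = Lattice.red (sys hM) (LT a) := fun a => by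
    induction a using MonoidAlgebra.induction_linear with
    | zero => simp [Lattice.red]
    | add a c ha hc => rw [map_add, map_add, map_add, ha, hc, Lattice.red_add]
    | single g r =>
      rw [BrouePuig.red, MonoidAlgebra.mapRingHom_single, MonoidAlgebra.lift_single, MonoidAlgebra.lift_single,
        Lattice.red_smul]
      rfl
  have hLT : ∀ a, L₀ a * ib = ib * LT a := fun a => by
    induction a using MonoidAlgebra.induction_linear with
    | zero => simp
    | add a c ha hc => rw [map_add, map_add, Matrix.add_mul, Matrix.mul_add, ha, hc]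
    | single g r =>
      rw [MonoidAlgebra.lift_single, MonoidAlgebra.lift_single, Matrix.smul_mul, Matrix.mul_smul, ← hTm g]
      rfl
  have hcancel : ∀ c c' : Fin m → localSubring hM, ib *ᵥ c = ib *ᵥ c' → c = c' := fun c c' h =>
    sub_eq_zero.1 (hibinj _ (by rw [mulVec_sub, h, sub_self]))
  set u0 : Fin m → localSubring hM := co ⟨w, ⟨f, hfw⟩⟩
  have hu0 : ∀ a, LT a *ᵥ u0 = co ⟨L₀ a *ᵥ w, ⟨a, rfl⟩⟩ := fun a => hcancel _ _ (by
    rw [mulVec_mulVec, ← hLT, ← mulVec_mulVec, hib, hib])
  have hfu0 : LT f *ᵥ u0 = u0 := by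
    rw [hu0]
    exact congrArg co (Subtype.ext hfw)
  set u := fun i => (sys hM).π (u0 i) with hu
  have hredvec : ∀ (A : Matrix (Fin m) (Fin m) (localSubring hM)) (c : Fin m → localSubring hM),
      Lattice.red (sys hM) A *ᵥ (fun i => (sys hM).π (c i)) = fun i => (sys hM).π ((A *ᵥ c) i) := fun A c => by
    funext i
    simp [Lattice.red, mulVec, dotProduct, map_sum]
  have hfu : Lk (BrouePuig.red hM f) *ᵥ u = u := by rw [hLTk, hu, hredvec, hfu0]
  have hgen : ∀ c : Fin m → Residue hM, ∃ a, Lk a *ᵥ u = c := by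
    intro c
    have hj : ∀ j, ∃ a, Lk a *ᵥ u = (Pi.single j 1 : Fin m → Residue hM) := fun j => by
      obtain ⟨a, ha⟩ := (b j).2
      refine ⟨BrouePuig.red hM a, ?_⟩
      rw [hLTk, hu, hredvec, hu0]
      funext i
      have : (⟨L₀ a *ᵥ w, ⟨a, rfl⟩⟩ : L) = b j := Subtype.ext ha
      rw [this]
      simp only [co, Module.Basis.repr_self, Finsupp.single_apply, Pi.single_apply, eq_comm (a := j)]
      split_ifs <;> simp
    choose a ha using hj
    refine ⟨∑ j, c j • a j, ?_⟩
    rw [map_sum, Matrix.sum_mulVec]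
    simp only [map_smul, smul_mulVec, ha]
    funext i
    simp [Finset.sum_apply, Pi.single_apply]
  have hcomm : ∀ a, Commute (Lk a) e := fun a => by
    induction a using MonoidAlgebra.induction_linear with
    | zero => simp
    | add a c ha hc => rw [map_add]; exact ha.add_left hc
    | single g r => rw [MonoidAlgebra.lift_single]; exact (show Commute _ e from hee g).smul_left r
  set j := BrouePuig.red hM f with hjdef
  have hjj : IsIdempotentElem j := hf.map (BrouePuig.red hM)
  obtain ⟨a, ha⟩ := hgen (e *ᵥ u)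
  set a' := j * a * j with ha'def
  have ha' : Lk a' *ᵥ u = e *ᵥ u := by
    rw [ha'def, map_mul, map_mul, ← mulVec_mulVec, hfu, ← mulVec_mulVec, ha, mulVec_mulVec, (hcomm j).eq,
      ← mulVec_mulVec, hfu]
  have hja' : j * a' = a' := by rw [ha'def, ← mul_assoc, ← mul_assoc, hjj.eq]
  have ha'j : a' * j = a' := by rw [ha'def, mul_assoc, hjj.eq]
  have hext : ∀ X : Matrix (Fin m) (Fin m) (Residue hM), (∀ a, Commute (Lk a) X) → X *ᵥ u = 0 → X = 0 := by
    intro X hX hXu
    refine Matrix.toLin'.injective (LinearMap.ext fun c => ?_)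
    obtain ⟨a, rfl⟩ := hgen c
    rw [Matrix.toLin'_apply, mulVec_mulVec, ← (hX a).eq, ← mulVec_mulVec, hXu, mulVec_zero, map_zero]
    rfl
  rcases BrouePuig.corner_trichotomy (Residue hM) hjj hja' ha'j with ⟨N, hN⟩ | ⟨y, -, -, -, hyx, -⟩ |
    ⟨e', he', h1, h2, h3, h4, -⟩
  · left
    refine hext e hcomm ?_
    have hpow : ∀ q, e ^ (q + 1) *ᵥ u = Lk (a' ^ (q + 1)) *ᵥ u := fun q => by
      induction q with
      | zero => rw [zero_add, pow_one, pow_one, ha']
      | succ q ih =>
        rw [pow_succ' e, ← mulVec_mulVec, ih, mulVec_mulVec, ← (hcomm _).eq, ← mulVec_mulVec, ← ha',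
          mulVec_mulVec, ← map_mul, ← pow_succ]
    have h := hpow N
    rwa [pow_succ a' N, hN, zero_mul, map_zero, zero_mulVec, he.pow_succ_eq] at h
  · right
    refine sub_eq_zero.1 (hext (e - 1) (fun a => (hcomm a).sub_right (Commute.one_right _)) ?_)
    have h : u = e *ᵥ (Lk y *ᵥ u) := by
      rw [mulVec_mulVec, ← (hcomm y).eq, ← mulVec_mulVec, ← ha', mulVec_mulVec, ← map_mul, hyx, hfu]
    rw [sub_mulVec, one_mulVec, sub_eq_zero]
    conv_rhs => rw [h, ← he.eq, ← mulVec_mulVec]
    conv_lhs => rw [h]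
  · rcases hprim e' he' h3 h4 with h | h
    · exact absurd h h1
    · exact absurd h h2

/-! ### The restriction to the normalizer -/

variable [hp : Fact p.Prime] {k : Type*} [Field k] [CharP k p] [IsAlgClosed k]
  {P N : Subgroup G} [Fintype P] [Fintype N] [Fintype (G ⧸ N)]

omit hM [Fact p.Prime] in
/-- An indecomposable module of dimension less than `p` is a single chain over the normalizer. -/
theorem exists_single [hp : Fact p.Prime] (Loc : Stable.Local k P N) (Δ : Chains.Semi p N)
    (hcomm : ∀ a b : Δ.A, a * b = b * a) {n : ℕ} (hn : n < p) (hn0 : 0 < n)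
    (S : G →* Matrix (Fin n) (Fin n) k)
    (hindec : ∀ e : Matrix (Fin n) (Fin n) k, IsIdempotentElem e → Stable.IsEq S S e → e = 0 ∨ e = 1) :
    ∃ (β : Δ.A →* k) (v : Unit → Fin n → k),
      Chains.IsChains Δ (S.comp N.subtype) (fun _ : Unit => n) (fun _ => β) v := by
  set U := S.comp N.subtype
  have hTn : Chains.tee Δ U ^ n = 0 := by simpa using Omega.tee_pow_card Δ U
  have hex : ∃ L, Chains.tee Δ U ^ (L + 1) = 0 := ⟨n - 1, by rw [Nat.sub_add_cancel hn0]; exact hTn⟩
  set L := Nat.find hex with hL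
  have hLspec : Chains.tee Δ U ^ (L + 1) = 0 := Nat.find_spec hex
  have hLne : Chains.tee Δ U ^ L ≠ 0 := by
    intro h
    rcases Nat.eq_zero_or_pos L with h0 | h0
    · rw [h0, pow_zero] at h
      haveI : Nonempty (Fin n) := ⟨⟨0, hn0⟩⟩
      exact one_ne_zero h
    · exact Nat.find_min hex (m := L - 1) (by omega) (by rwa [Nat.sub_add_cancel h0])
  obtain ⟨v, β, hv, hv0⟩ := Chains.exists_top hcomm hLspec hLne
  obtain ⟨c, hc⟩ := Function.ne_iff.1 hv0
  obtain ⟨W, i, r, v₀, hi, hr, hri, hiv, hW⟩ := Chains.exists_chain_summand hv (L := L + 1)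
    (by rw [hLspec, zero_mulVec]) (LinearMap.proj c) (fun u => by rw [hLspec, zero_mulVec, map_zero])
    (by rw [Nat.add_sub_cancel]; exact hc)
  have hxG : orderOf (Δ.x : G) = p := by rw [Subgroup.orderOf_coe]; exact Δ.ord
  have hX : (S (Δ.x : G) - 1) ^ (p - 1) = 0 := by
    have h : Chains.tee Δ U ^ (p - 1) = 0 := pow_eq_zero_of_le (by omega) hTn
    exact h
  obtain ⟨E, hE, hEq, u, -, hEu⟩ := Summand.exists_lift Loc Δ.x.2 hxG hX (e := i * r)
    (by show i * r * (i * r) = i * r; rw [Matrix.mul_assoc, ← Matrix.mul_assoc r, hri, Matrix.one_mul])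
    (hi.comp hr)
  rcases hindec E hE hEq with rfl | rfl
  · exfalso
    rw [Matrix.zero_mul] at hEu
    have h0 : i * r = 0 := u.mul_right_eq_zero.1 hEu.symm
    haveI : Nonempty (Fin (L + 1)) := ⟨0⟩
    have h1 : (1 : Matrix (Fin (L + 1)) (Fin (L + 1)) k) = 0 := by
      calc (1 : Matrix (Fin (L + 1)) (Fin (L + 1)) k) = r * i * (r * i) := by rw [hri, Matrix.one_mul]
        _ = r * (i * r) * i := by simp only [Matrix.mul_assoc]
        _ = 0 := by rw [h0, Matrix.mul_zero, Matrix.zero_mul]
    exact one_ne_zero h1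
  · have hir : i * r = 1 := by
      rw [Matrix.one_mul] at hEu
      exact u.mul_right_inj.1 (by rw [Matrix.mul_one]; exact hEu.symm)
    have h := hW.map hi (b := r) hri hir
    have hLn : L + 1 = n := by simpa using h.card
    have e : (fun _ : Unit => L + 1) = fun _ : Unit => n := funext fun _ => hLn
    rw [e] at h
    exact ⟨β, fun _ => i *ᵥ v₀, h⟩

end CfsgLib.Char.FeitDegree.Indec
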