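import Cfsg.Agent.Lib.Char.FeitDegree.Lattice
import Cfsg.Agent.Lib.TraceTI.Sums

/-!
# Modules with short Jordan blocks at an element of order `p`

When `(x - 1) ^ (p - 1) = 0` every trace from the trivial subgroup is nilpotent, so the idempotent
endomorphisms over the normalizer lift to the group.
-/

set_option autoImplicit false

namespace CfsgLib.Char.FeitDegree.Summand

open Matrix Polynomial Stable
open CfsgLib.BrouePuig (exists_spectral commute_aeval)

variable {p : ℕ} [hp : Fact p.Prime] {k : Type*} [Field k] [CharP k p] {G : Type*} [Group G] [Fintype G]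
  {ι : Type*} [Fintype ι] [DecidableEq ι]

omit [Fintype G] in
/-- The trace over the powers of an element with short Jordan blocks is nilpotent. -/
theorem isNilpotent_sum_conj {X : Matrix ι ι k} (hX : (X - 1) ^ (p - 1) = 0) (f : Matrix ι ι k)
    (hcomm : Commute X (∑ i ∈ Finset.range p, X ^ i * f * X ^ (p - 1 - i))) :
    IsNilpotent (∑ i ∈ Finset.range p, X ^ i * f * X ^ (p - 1 - i)) := by
  set T := ∑ i ∈ Finset.range p, X ^ i * f * X ^ (p - 1 - i)
  have hT : T = ∑ i ∈ Finset.range p, (X - 1) ^ i * f * (X - 1) ^ (p - 1 - i) := by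
    have h := TraceTI.sum_conj_eq_sum_sub_one (p := p) k X f 1
    simpa [pow_one] using h
  have hY : Commute (X - 1) T := (hcomm.sub_left (Commute.one_left T))
  set Y := X - 1
  -- `T` lowers the kernel filtration
  have key : ∀ (n : ℕ) (B : Matrix ι ι k), Y ^ n * B = 0 → T ^ n * B = 0 := by
    intro n
    induction n with
    | zero => intro B hB; exact hB
    | succ n ih =>
      intro B hB
      have h2 : T * (Y ^ n * B) = 0 := by
        rw [hT, Finset.sum_mul]
        refine Finset.sum_eq_zero fun i hi => ?_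
        by_cases hlast : i = p - 1
        · subst hlast
          rw [hX, Matrix.zero_mul, Matrix.zero_mul, Matrix.zero_mul]
        · have := Finset.mem_range.1 hi
          obtain ⟨j, hj⟩ : ∃ j, p - 1 - i = j + 1 := ⟨p - 2 - i, by omega⟩
          rw [hj, pow_succ, ← Matrix.mul_assoc _ (Y ^ j) Y, Matrix.mul_assoc _ Y,
            ← Matrix.mul_assoc Y (Y ^ n), ← pow_succ', hB, Matrix.mul_zero]
      rw [pow_succ, Matrix.mul_assoc]
      refine ih _ ?_
      rw [← Matrix.mul_assoc, ((hY.pow_left n)).eq, Matrix.mul_assoc, h2]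
  exact ⟨p - 1, by simpa using key (p - 1) 1 (by rw [hX, Matrix.zero_mul])⟩

variable {S : G →* Matrix ι ι k} {x : G}

include hp in
/-- Traces from the trivial subgroup are nilpotent. -/
theorem isNilpotent_of_InI (hx : orderOf x = p) (hX : (S x - 1) ^ (p - 1) = 0) {f : Matrix ι ι k}
    (hf : InI S S f) : IsNilpotent f := by
  classical
  set H := Subgroup.zpowers x
  letI : Fintype H := Fintype.ofFinite _
  obtain ⟨f₀, h0⟩ := InI.restrict H hf
  have e : f = (∑ i ∈ Finset.range p, S x ^ i * f₀ * S x ^ (p - 1 - i)) * S x := by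
    rw [← h0, trOne, Finset.sum_mul]
    symm
    refine Finset.sum_bij (fun i _ => (⟨x ^ i, pow_mem (Subgroup.mem_zpowers x) i⟩ : H)) (fun _ _ => Finset.mem_univ _) ?_ ?_ ?_
    · intro i hi j hj e
      have := congrArg Subtype.val e
      simp only [pow_eq_pow_iff_modEq, hx] at this
      exact this.eq_of_lt_of_lt (Finset.mem_range.1 hi) (Finset.mem_range.1 hj)
    · rintro ⟨u, hu⟩ -
      obtain ⟨i, hi⟩ := (isOfFinOrder_of_finite x).mem_powers_iff_mem_zpowers.2 hu
      refine ⟨i % p, Finset.mem_range.2 (Nat.mod_lt _ hp.out.pos), Subtype.ext ?_⟩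
      simpa [← hx, pow_mod_orderOf] using hi
    · intro i hi
      show _ = S (x ^ i) * f₀ * S (x ^ i)⁻¹
      rw [Matrix.mul_assoc, ← pow_succ, ← map_pow, ← map_pow]
      congr 2
      refine eq_inv_of_mul_eq_one_left ?_
      rw [← pow_add, show p - 1 - i + 1 + i = p by have := Finset.mem_range.1 hi; have := hp.out.pos; omega,
        ← hx, pow_orderOf_eq_one]
  have hfx : Commute (S x) f := hf.isEq x
  have hu : S x * S x⁻¹ = 1 := mul_inv_eq_one (S := S) x
  set T := ∑ i ∈ Finset.range p, S x ^ i * f₀ * S x ^ (p - 1 - i)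
  have hT : T = f * S x⁻¹ := by rw [e, Matrix.mul_assoc, hu, Matrix.mul_one]
  have hxi : Commute (S x) (S x⁻¹) := by
    show _ * _ = _ * _
    rw [hu, inv_mul_eq_one' (S := S)]
  have hTc : Commute (S x) T := hT ▸ hfx.mul_right hxi
  obtain ⟨m, hm⟩ := isNilpotent_sum_conj (p := p) hX f₀ hTc
  exact ⟨m, by rw [e, hTc.symm.mul_pow, hm, Matrix.zero_mul]⟩

include hp in
theorem isFreeRep (hx : orderOf x = p) (hX : (S x - 1) ^ (p - 1) = 0) : IsFreeRep S :=
  IsFreeRep.of_nilpotent fun _ hi => isNilpotent_of_InI hx hX hi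

variable {P N : Subgroup G} [Fintype P] [Fintype N] [Fintype (G ⧸ N)]

omit [CharP k p] hp in
theorem InI.aeval_sub {H : Type*} [Group H] [Fintype H] {U : H →* Matrix ι ι k} {a b : Matrix ι ι k}
    (ha : IsEq U U a) (hb : IsEq U U b) (h : InI U U (a - b)) (q : k[X]) :
    InI U U (aeval a q - aeval b q) := by
  induction q using Polynomial.induction_on' with
  | add q q' hq hq' => rw [map_add, map_add, add_sub_add_comm]; exact hq.add hq'
  | monomial n c =>
    rw [aeval_monomial, aeval_monomial, ← Algebra.smul_def, ← Algebra.smul_def, ← smul_sub]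
    refine InI.smul ?_ c
    induction n with
    | zero => simpa using InI.zero
    | succ n ih =>
      rw [pow_succ, pow_succ, show a ^ n * a - b ^ n * b = (a ^ n - b ^ n) * a + b ^ n * (a - b) by
        rw [Matrix.sub_mul, Matrix.mul_sub]; abel]
      exact (ih.mul_right ha).add (h.mul_left fun g => (show Commute (U g) b from hb g).pow_right n)

omit [CharP k p] hp in
theorem eq_zero_of_idem {E : Matrix ι ι k} (hE : IsIdempotentElem E) (hn : IsNilpotent E) : E = 0 := by
  obtain ⟨m, hm⟩ := hn
  rw [← hE.pow_succ_eq m, pow_succ', hm, Matrix.mul_zero]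

include hp in
/-- An idempotent over the normalizer is conjugate to one over the group. -/
theorem exists_lift (L : Local k P N) (hxN : x ∈ N) (hx : orderOf x = p) (hX : (S x - 1) ^ (p - 1) = 0)
    {e : Matrix ι ι k} (he : IsIdempotentElem e) (hee : IsEq (S.comp N.subtype) (S.comp N.subtype) e) :
    ∃ E : Matrix ι ι k, IsIdempotentElem E ∧ IsEq S S E ∧ ∃ u : (Matrix ι ι k)ˣ,
      IsEq (S.comp N.subtype) (S.comp N.subtype) (u : Matrix ι ι k) ∧ E * u = u * e := by
  classical
  set U := S.comp N.subtype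
  have hxU : orderOf (⟨x, hxN⟩ : N) = p := by rw [← hx]; exact (Subgroup.orderOf_coe _).symm
  have hnil : ∀ {i}, InI U U i → IsNilpotent i := fun hi => isNilpotent_of_InI (S := U) hxU hX hi
  by_cases he0 : e = 0
  · exact ⟨0, IsIdempotentElem.zero, IsEq.zero, 1, IsEq.one, by simp [he0]⟩
  set g := trN N S S e
  have hg : IsEq S S g := isEq_trN hee
  have hge : InI U U (g - e) := InI.trN_sub L hee
  obtain ⟨n, h, hn, hid, hkill⟩ := exists_spectral (k := k) g
  set E := g ^ n * aeval g h
  have hEq : IsEq S S E := fun a =>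
    ((show Commute (S a) g from hg a).pow_right n).mul_right (commute_aeval (hg a) h)
  set c := h.eval 1
  have hc : InI U U (E - c • e) := by
    have h1 := InI.aeval_sub (hg.res N.subtype) hee hge (Polynomial.X ^ n * h)
    have h2 : aeval e (Polynomial.X ^ n * h) = c • e := by
      rw [BrouePuig.aeval_idem he, eval_mul, eval_mul, eval_pow, eval_X, zero_pow (by omega : n ≠ 0), zero_mul,
        zero_smul, zero_add, eval_pow, eval_X, one_pow, one_mul]
    rwa [h2, map_mul, map_pow, aeval_X] at h1
  have hI2 : InI U U ((c * c - c) • e) := by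
    have e1 : (c * c - c) • e = (E - c • e) - ((E - c • e) * E + (c • e) * (E - c • e)) := by
      simp only [Matrix.sub_mul, Matrix.mul_sub, Matrix.smul_mul, Matrix.mul_smul, hid.eq, he.eq, sub_smul, mul_smul]
      abel
    rw [e1]
    exact hc.sub ((hc.mul_right (hEq.res N.subtype)).add (hc.mul_left (hee.smul c)))
  have hc01 : c * c - c = 0 := by
    by_contra hne
    have h3 := hI2.smul (c * c - c)⁻¹
    rw [smul_smul, inv_mul_cancel₀ hne, one_smul] at h3
    exact he0 (eq_zero_of_idem he (hnil h3))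
  have hc1 : c = 1 := by
    rcases mul_eq_zero.1 (show c * (c - 1) = 0 by rw [mul_sub, mul_one, hc01]) with h0 | h1
    · exfalso
      rw [h0, zero_smul, sub_zero] at hc
      have hE0 : E = 0 := eq_zero_of_idem hid (hnil hc)
      change g ^ n * (1 - E) = 0 at hkill
      rw [hE0, sub_zero, Matrix.mul_one] at hkill
      have h4 := InI.aeval_sub (hg.res N.subtype) hee hge (Polynomial.X ^ n)
      obtain ⟨m, rfl⟩ := Nat.exists_eq_succ_of_ne_zero (by omega : n ≠ 0)
      rw [map_pow, map_pow, aeval_X, aeval_X, hkill, he.pow_succ_eq, zero_sub] at h4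
      exact he0 (eq_zero_of_idem he (hnil (by simpa using h4.neg)))
    · exact sub_eq_zero.1 h1
  rw [hc1, one_smul] at hc
  set v := E * e + (1 - E) * (1 - e)
  have hv : InI U U (v - 1) := by
    have e1 : v - 1 = (E - e) * e - E * (E - e) := by
      simp only [v, Matrix.sub_mul, Matrix.mul_sub, Matrix.one_mul, Matrix.mul_one, hid.eq, he.eq]
      abel
    rw [e1]
    exact (hc.mul_right (S := U) (T := U) (U := U) hee).sub
      (hc.mul_left (S := U) (T := U) (U := U) (hEq.res N.subtype))
  obtain ⟨u, hu⟩ : IsUnit v := by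
    have := (hnil hv).isUnit_one_add
    rwa [add_sub_cancel] at this
  refine ⟨E, hid, hEq, u, ?_, ?_⟩
  · rw [hu]
    exact ((hEq.res N.subtype).comp hee).add ((IsEq.one.sub (hEq.res N.subtype)).comp (IsEq.one.sub hee))
  · rw [hu]
    simp only [v, Matrix.mul_add, Matrix.add_mul, Matrix.sub_mul, Matrix.mul_sub, Matrix.one_mul, Matrix.mul_one,
      Matrix.mul_assoc, he.eq]
    simp only [← Matrix.mul_assoc, hid.eq]
    abel

include hp in
/-- A summand over the normalizer is the restriction of a summand over the group. -/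
theorem exists_summand (L : Local k P N) (hxN : x ∈ N) (hx : orderOf x = p) (hX : (S x - 1) ^ (p - 1) = 0)
    {κ : Type*} [Fintype κ] [DecidableEq κ] {T : N →* Matrix κ κ k} {i : Matrix ι κ k} {r : Matrix κ ι k}
    (hi : IsEq T (S.comp N.subtype) i) (hr : IsEq (S.comp N.subtype) T r) (hri : r * i = 1) :
    ∃ (W : G →* Matrix κ κ k) (i' : Matrix ι κ k) (r' : Matrix κ ι k),
      IsEq W S i' ∧ IsEq S W r' ∧ r' * i' = 1 ∧ W.comp N.subtype = T := by
  obtain ⟨E, hE, hEq, u, hu, hEu⟩ := exists_lift L hxN hx hX (e := i * r)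
    (by show i * r * (i * r) = i * r; rw [Matrix.mul_assoc, ← Matrix.mul_assoc r, hri, Matrix.one_mul]) (hi.comp hr)
  set i' := (u : Matrix ι ι k) * i
  set r' := r * (↑u⁻¹ : Matrix ι ι k)
  have hri' : r' * i' = 1 := by
    show r * _ * ((u : Matrix ι ι k) * i) = 1
    rw [Matrix.mul_assoc, ← Matrix.mul_assoc (↑u⁻¹ : Matrix ι ι k), Units.inv_mul, Matrix.one_mul, hri]
  have hir : i' * r' = E := by
    show (u : Matrix ι ι k) * i * (r * _) = E
    rw [← Matrix.mul_assoc, Matrix.mul_assoc (u : Matrix ι ι k) i r, ← hEu, Matrix.mul_assoc, Units.mul_inv,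
      Matrix.mul_one]
  have hE' : IsEq S S (i' * r') := hir.symm ▸ hEq
  refine ⟨Lattice.corner S i' r' hri' hE', i', r', (Lattice.isEq_corner hri' hE').1,
    (Lattice.isEq_corner hri' hE').2, hri', MonoidHom.ext fun n => ?_⟩
  show r' * S (n : G) * i' = T n
  calc r' * S (n : G) * i' = r * (↑u⁻¹ : Matrix ι ι k) * (S (n : G) * (u : Matrix ι ι k)) * i := by
        simp only [i', r', Matrix.mul_assoc]
    _ = r * (↑u⁻¹ : Matrix ι ι k) * ((u : Matrix ι ι k) * S (n : G)) * i := by
        rw [show S (n : G) * (u : Matrix ι ι k) = _ from hu n]; rfl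
    _ = r * (↑u⁻¹ * (u : Matrix ι ι k)) * (S (n : G) * i) := by simp only [Matrix.mul_assoc]
    _ = r * (i * T n) := by rw [Units.inv_mul, Matrix.mul_one, show S (n : G) * i = _ from hi n]
    _ = T n := by rw [← Matrix.mul_assoc, hri, Matrix.one_mul]

end CfsgLib.Char.FeitDegree.Summand
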