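import Cfsg.Agent.Lib.Char.FeitDegree.Translation
import Cfsg.Agent.Lib.Char.FeitDegree.Summand
import Cfsg.Agent.Lib.Char.FeitDegree.Omega

/-!
# A short module inside the alternating square of a chain of length `(p + 1) / 2`

The chain of length `p` in the square is symmetric, so the alternating part has short blocks and
the chain of length three or five in it splits off over the group.
-/

set_option autoImplicit false

open scoped Classical Kronecker

namespace CfsgLib.Char.FeitDegree.Square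

open Matrix Chains Stable Translation
open Polynomial hiding funext

variable {k : Type*} [Field k]

/-- The interchange of the factors. -/
def sw (k : Type*) [Field k] (d : ℕ) : Matrix (Fin d × Fin d) (Fin d × Fin d) k := fun u v =>
  if v = u.swap then 1 else 0

theorem sw_mulVec {d : ℕ} (u : Fin d × Fin d → k) : sw k d *ᵥ u = fun w => u w.swap := by
  funext w
  simp [sw, mulVec, dotProduct]

theorem sw_mul_sw (d : ℕ) : sw k d * sw k d = 1 := Matrix.toLin'.injective (LinearMap.ext fun u => by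
  simp only [Matrix.toLin'_apply, ← mulVec_mulVec, one_mulVec, sw_mulVec, Prod.swap_swap])

theorem sw_kron {d : ℕ} (A : Matrix (Fin d) (Fin d) k) : sw k d * (A ⊗ₖ A) = (A ⊗ₖ A) * sw k d := by
  ext u v
  rw [Matrix.mul_apply, Matrix.mul_apply, Finset.sum_eq_single u.swap, Finset.sum_eq_single v.swap]
  · simp [sw, mul_comm]
  · intro b _ hb
    rw [sw, if_neg (fun h => hb (by rw [h, Prod.swap_swap])), mul_zero]
  · exact fun h => absurd (Finset.mem_univ _) h
  · intro b _ hb
    rw [sw, if_neg hb, zero_mul]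
  · exact fun h => absurd (Finset.mem_univ _) h

/-- The interchange of the two variables. -/
noncomputable def swapVar (k : Type*) [Field k] : k[X][X] →+* k[X][X] :=
  eval₂RingHom (Polynomial.C.comp (compRingHom (-Polynomial.X))) (Polynomial.X - Polynomial.C Polynomial.X)

theorem swapVar_T : swapVar k (varT : k[X][X]) = varU := by simp [swapVar, varT, varU]

theorem swapVar_U : swapVar k (varU : k[X][X]) = varT := by simp [swapVar, varT, varU]

theorem swapVar_C (q : k[X]) : swapVar k (Polynomial.C q) = Polynomial.C (q.comp (-Polynomial.X)) := by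
  simp [swapVar]

theorem biv_sw {d : ℕ} (u : Fin d × Fin d → k) : biv (sw k d *ᵥ u) = swapVar k (biv u) := by
  rw [sw_mulVec, biv_apply, biv_apply, map_sum]
  refine Fintype.sum_equiv (Equiv.prodComm _ _) _ _ fun w => ?_
  rw [Algebra.smul_def, Algebra.smul_def, map_mul, map_mul, map_pow, map_pow, swapVar_T, swapVar_U,
    Translation.algebraMap_eq, Translation.algebraMap_eq, swapVar_C, C_comp]
  simp only [Equiv.prodComm_apply, Prod.fst_swap, Prod.snd_swap]
  ring

theorem sw_gen {d : ℕ} (u : Fin d × Fin d → k) (m : ℕ) (hu : biv u = gen d m) :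
    sw k d *ᵥ u = ((-1 : k) ^ (d - 1 - m)) • u := by
  refine biv_injective ?_
  rw [biv_sw, map_smul, hu, gen, show (Polynomial.X : k[X][X]) * (Polynomial.X - Polynomial.C Polynomial.X) = varT * varU from rfl,
    Algebra.smul_def, Translation.algebraMap_eq]
  simp only [map_mul, map_pow, map_neg, map_one, swapVar_T, swapVar_U, swapVar_C, X_comp, neg_pow (Polynomial.C (Polynomial.X : k[X]))]
  ring

variable {p : ℕ} [hp : Fact p.Prime] [CharP k p] {G : Type*} [Group G] [Fintype G] {P N : Subgroup G} [Fintype P]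
  [Fintype N] [Fintype (G ⧸ N)]

set_option maxHeartbeats 1000000 in
/-- A short module. -/
theorem exists_short (Loc : Stable.Local k P N) (Δ : Semi p N) {d : ℕ} {S : G →* Matrix (Fin d) (Fin d) k}
    {β : Δ.A →* k} {v : Unit → Fin d → k} (hv : IsChains Δ (S.comp N.subtype) (fun _ : Unit => d) (fun _ => β) v)
    (hd : 2 * d = p + 1) (h11 : 11 ≤ p) :
    ∃ (n L : ℕ) (W : G →* Matrix (Fin n) (Fin n) k),
      (W (Δ.x : G) - 1) ^ (L + 1) = 0 ∧ W (Δ.x : G) - 1 ≠ 0 ∧ 2 * L + 2 ≤ p := by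
  have hd0 : 0 < d := by omega
  have hinv : εk Δ k * εi Δ k = 1 := MonoidHom.ext fun a => εk_mul_inv Δ k a
  set c := β * εk Δ k ^ (d - 1)
  have hw : β = c * εi Δ k ^ (d - 1) := by rw [mul_assoc, ← mul_pow, hinv, one_pow, mul_one]
  obtain ⟨a, b, ha, hba, hab⟩ := (model_chain Δ (k := k) c hd0 (show d ≤ p by omega)).iso hv (Equiv.refl _)
    (fun _ => rfl) (fun _ => hw)
  obtain ⟨v₀, hv₀, hgen⟩ := model_tensor (Δ := Δ) c c (e := d) (by omega)
  have hch := hv₀.map (isEq_kron ha ha) (b := b ⊗ₖ b) (by rw [← Matrix.mul_kronecker_mul, hba]; simp)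
    (by rw [← Matrix.mul_kronecker_mul, hab]; simp)
  set A2 := kronRep S S
  have hU2 : kronRep (S.comp N.subtype) (S.comp N.subtype) = A2.comp N.subtype := MonoidHom.ext fun _ => rfl
  rw [hU2] at hch
  set U2 := A2.comp N.subtype
  set w : Fin d → Fin d × Fin d → k := fun m => (a ⊗ₖ a) *ᵥ v₀ m
  set T := tee Δ U2
  have hQw : ∀ m : Fin d, sw k d *ᵥ w m = ((-1 : k) ^ (d - 1 - (m : ℕ))) • w m := fun m => by
    rw [mulVec_mulVec, sw_kron, ← mulVec_mulVec, sw_gen _ _ (hgen m), mulVec_smul]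
  -- the alternating projection
  have h2 : (2 : k) ≠ 0 := fun h => by
    have h2 : ((2 : ℕ) : k) = 0 := by rw [Nat.cast_two]; exact h
    have := Nat.le_of_dvd two_pos ((CharP.cast_eq_zero_iff k p 2).1 h2)
    omega
  set π : Matrix (Fin d × Fin d) (Fin d × Fin d) k := (2 : k)⁻¹ • (1 - sw k d) with hπ
  have hπi : IsIdempotentElem π := by
    show π * π = π
    rw [hπ, Matrix.smul_mul, Matrix.mul_smul, smul_smul, Matrix.sub_mul, Matrix.mul_sub, Matrix.one_mul,
      Matrix.mul_sub, sw_mul_sw, Matrix.mul_one, Matrix.one_mul,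
      show (1 : Matrix (Fin d × Fin d) (Fin d × Fin d) k) - sw k d - (sw k d - 1) = (2 : k) • (1 - sw k d) by
        rw [two_smul]; abel, smul_smul, mul_assoc, inv_mul_cancel₀ h2, mul_one]
  have hQeq : IsEq A2 A2 (sw k d) := fun g => (sw_kron (S g)).symm
  have hπeq : IsEq A2 A2 π := (IsEq.one.sub hQeq).smul _
  have hπT : Commute T π := by
    show _ * _ = _ * _
    rw [show T = U2 Δ.x - 1 from rfl, Matrix.sub_mul, Matrix.mul_sub, Matrix.one_mul, Matrix.mul_one]
    exact congrArg (· - π) (hπeq (Δ.x : G))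
  have hπw : ∀ m : Fin d, π *ᵥ w m = if Odd (d - 1 - (m : ℕ)) then w m else 0 := fun m => by
    rw [hπ, smul_mulVec, sub_mulVec, one_mulVec, hQw]
    split_ifs with ho
    · rw [ho.neg_one_pow, neg_one_smul, sub_neg_eq_add, ← two_smul k (w m), smul_smul, inv_mul_cancel₀ h2, one_smul]
    · rw [(Nat.not_odd_iff_even.1 ho).neg_one_pow, one_smul, sub_self, smul_zero]
  -- the basis
  haveI : Nonempty (Σ m : Fin d, Fin (2 * (m : ℕ) + 1)) := ⟨⟨⟨0, hd0⟩, 0⟩⟩
  let bb : Module.Basis (Σ m : Fin d, Fin (2 * (m : ℕ) + 1)) k (Fin d × Fin d → k) :=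
    basisOfLinearIndependentOfCardEqFinrank hch.indep (by
      rw [Module.finrank_fintype_fun_eq_card, Fintype.card_sigma, ← hch.card]
      simp)
  have hbb : ∀ q, bb q = T ^ (q.2 : ℕ) *ᵥ w q.1 := fun q => by
    simp only [bb, coe_basisOfLinearIndependentOfCardEqFinrank]
    rfl
  have hbig : ∀ (m : Fin d) (j : ℕ), 2 * (m : ℕ) + 1 ≤ j → T ^ j *ᵥ w m = 0 := fun m j hj => by
    rw [show j = j - (2 * (m : ℕ) + 1) + (2 * (m : ℕ) + 1) by omega, pow_add, ← mulVec_mulVec]
    have h := hch.kill m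
    change T ^ (2 * (m : ℕ) + 1) *ᵥ w m = 0 at h
    rw [h, mulVec_zero]
  have hπtop : π * T ^ (p - 1) = 0 := by
    refine Matrix.toLin'.injective (bb.ext fun q => ?_)
    rw [map_zero, LinearMap.zero_apply, Matrix.toLin'_apply, hbb, mulVec_mulVec, mul_assoc, ← pow_add,
      ← (hπT.pow_left _).eq, ← mulVec_mulVec, hπw]
    split_ifs with ho
    · refine hbig q.1 _ ?_
      have := q.1.isLt
      obtain ⟨r, hr⟩ := ho
      omega
    · rw [mulVec_zero]
  -- the short chain
  set m : Fin d := if Even (d - 1) then ⟨1, by omega⟩ else ⟨2, by omega⟩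
  have hm2 : 1 ≤ (m : ℕ) ∧ (m : ℕ) ≤ 2 := by simp only [m]; split_ifs <;> simp
  have hmodd : Odd (d - 1 - (m : ℕ)) := by
    simp only [m]
    split_ifs with h
    · obtain ⟨r, hr⟩ := h
      exact ⟨r - 1, by simp only; omega⟩
    · obtain ⟨r, hr⟩ := Nat.not_even_iff_odd.1 h
      exact ⟨r - 1, by simp only; omega⟩
  set L := 2 * (m : ℕ) + 1 with hL
  obtain ⟨n, i, r, hri, hir⟩ := Lattice.exists_split (R := k) hπi
  have hir' : IsEq A2 A2 (i * r) := hir.symm ▸ hπeq
  set W0 := Lattice.corner A2 i r hri hir'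
  obtain ⟨hI, hR⟩ := Lattice.isEq_corner hri hir'
  set T0 := tee Δ (W0.comp N.subtype)
  have hTi : T * i = i * T0 := by
    rw [show T = U2 Δ.x - 1 from rfl, show T0 = W0 (Δ.x : G) - 1 from rfl, Matrix.sub_mul, Matrix.mul_sub,
      Matrix.one_mul, Matrix.mul_one]
    exact congrArg (· - i) (hI (Δ.x : G))
  have hTij : ∀ j, T ^ j * i = i * T0 ^ j := fun j => by
    induction j with
    | zero => simp
    | succ j ih => rw [pow_succ, Matrix.mul_assoc, hTi, ← Matrix.mul_assoc, ih, Matrix.mul_assoc, ← pow_succ]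
  have hπi' : π * i = i := by rw [← hir, Matrix.mul_assoc, hri, Matrix.mul_one]
  have hX : (W0 (Δ.x : G) - 1) ^ (p - 1) = 0 := by
    show T0 ^ (p - 1) = 0
    calc T0 ^ (p - 1) = r * (T ^ (p - 1) * i) := by rw [hTij, ← Matrix.mul_assoc, hri, Matrix.one_mul]
      _ = r * (T ^ (p - 1) * π * i) := by rw [Matrix.mul_assoc (T ^ _) π i, hπi']
      _ = 0 := by rw [(hπT.pow_left _).eq, hπtop, Matrix.zero_mul, Matrix.mul_zero]
  have hiw : i *ᵥ (r *ᵥ w m) = w m := by rw [mulVec_mulVec, hir, hπw, if_pos hmodd]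
  have hiinj : Function.Injective (i *ᵥ ·) := fun u u' h => by
    simpa [mulVec_mulVec, hri] using congrArg (r *ᵥ ·) h
  have hTu : ∀ j u, i *ᵥ (T0 ^ j *ᵥ u) = T ^ j *ᵥ (i *ᵥ u) := fun j u => by
    rw [mulVec_mulVec, ← hTij, ← mulVec_mulVec]
  have hcoord : ∀ u, bb.coord ⟨m, Fin.last _⟩ (T ^ L *ᵥ u) = 0 := by
    intro u
    have : (bb.coord ⟨m, Fin.last _⟩).comp (T ^ L).mulVecLin = 0 := bb.ext fun q => by
      rw [LinearMap.comp_apply, Matrix.mulVecLin_apply, hbb, mulVec_mulVec, ← pow_add, LinearMap.zero_apply]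
      by_cases hq : L + (q.2 : ℕ) < 2 * (q.1 : ℕ) + 1
      · have e : T ^ (L + (q.2 : ℕ)) *ᵥ w q.1 = bb ⟨q.1, ⟨_, hq⟩⟩ := (hbb ⟨q.1, ⟨_, hq⟩⟩).symm
        rw [e, Module.Basis.coord_apply, Module.Basis.repr_self, Finsupp.single_apply, if_neg]
        intro h
        have h1 : (q.1 : ℕ) = (m : ℕ) := congrArg (fun x => (x.1 : ℕ)) h
        omega
      · rw [hbig q.1 _ (not_lt.1 hq), map_zero]
    exact LinearMap.congr_fun this u
  obtain ⟨U3, i3, r3, w3, hi3, hr3, hri3, -, hch3⟩ := exists_chain_summand (Δ := Δ) (S := W0.comp N.subtype)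
    (v := r *ᵥ w m) (L := L) (β := c * c * εi Δ k ^ (d - 1 + (m : ℕ)))
    (fun e => hiinj (by
      have h := hch.eig m e
      change U2 (e : N) *ᵥ w m = _ at h
      show i *ᵥ (W0 ((e : N) : G) *ᵥ (r *ᵥ w m)) = i *ᵥ _
      rw [mulVec_smul, hiw, mulVec_mulVec, ← hI, ← mulVec_mulVec, hiw]
      exact h))
    (hiinj (by show i *ᵥ (T0 ^ L *ᵥ _) = i *ᵥ _; rw [hTu, hiw, hbig m L le_rfl, mulVec_zero]))
    ((bb.coord ⟨m, Fin.last _⟩).comp i.mulVecLin)
    (fun u => by rw [LinearMap.comp_apply, Matrix.mulVecLin_apply, hTu]; exact hcoord _)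
    (by
      rw [LinearMap.comp_apply, Matrix.mulVecLin_apply, hTu, hiw, Nat.add_sub_cancel,
        show T ^ (2 * (m : ℕ)) *ᵥ w m = bb ⟨m, Fin.last _⟩ from (hbb ⟨m, Fin.last _⟩).symm,
        Module.Basis.coord_apply, Module.Basis.repr_self, Finsupp.single_eq_same]
      exact one_ne_zero)
  have hxG : orderOf (Δ.x : G) = p := by rw [Subgroup.orderOf_coe]; exact Δ.ord
  obtain ⟨W, -, -, -, -, -, hW⟩ := Summand.exists_summand Loc Δ.x.2 hxG hX hi3 hr3 hri3
  subst hW
  refine ⟨L, 2 * (m : ℕ), W, ?_, fun h => ?_, by omega⟩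
  · have h : tee Δ (W.comp N.subtype) ^ L = 0 := by simpa using Omega.tee_pow_card Δ (W.comp N.subtype)
    exact h
  · have hne := hch3.indep.ne_zero ⟨(), ⟨1, by omega⟩⟩
    refine hne ?_
    show tee Δ (W.comp N.subtype) ^ 1 *ᵥ w3 = 0
    rw [pow_one, show tee Δ (W.comp N.subtype) = 0 from h, zero_mulVec]

end CfsgLib.Char.FeitDegree.Square
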