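import Cfsg.Agent.Lib.Char.FeitDegree.StageOne
import Cfsg.Agent.Lib.Char.DegPMinusTwo.Avg
import Cfsg.Agent.Lib.DegreeTools.FeitFour.Tools

/-!
# The squares of an exceptional character

The automizer has odd order `e` with `e + 3 ≤ t`, and the centre has even order.
-/

set_option autoImplicit false

open scoped Classical ComplexConjugate

namespace CfsgLib.Char.FeitDegree.StageTwo

open Cfsg CfsgLib CfsgLib.Blocks CfsgLib.Blocks.DefectOne CfsgLib.CharDeep.ExactP
open CfsgLib.Char.DegHalf (Over)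
open Setup Weight Block StageOne

universe u

variable {G : Type u} [Group G] [Fintype G] {p : ℕ} [hp : Fact p.Prime] {P : Sylow p G} {D : Frame P}

theorem exists_sq {θ : IrrCharacter D.K0} (hθ : fdeg D θ = 1) :
    ∃ μ : IrrCharacter D.K0, fdeg D μ = 1 ∧ ∀ v, (μ : D.K0 → ℂ) v = (θ : D.K0 → ℂ) v * (θ : D.K0 → ℂ) v := by
  obtain ⟨l, hl⟩ := Char.exists_hom_of_apply_one_eq_one (Char.isCharacter_irr θ) (DegHalf.linear_apply_one hθ)
  refine ⟨⟨_, Char.isIrrCharacter_hom (l * l)⟩, ?_, fun v => by simp [hl]⟩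
  have h := irr_one_eq (⟨_, Char.isIrrCharacter_hom (l * l)⟩ : IrrCharacter D.K0)
  simp only [map_one, Units.val_one] at h
  exact_mod_cast h.symm

theorem isCharacter_galois {χ : G → ℂ} (hχ : Cfsg.IsCharacter G χ) (σ : ℂ ≃+* ℂ) :
    Cfsg.IsCharacter G fun g => σ (χ g) := by
  obtain ⟨n, ρ, rfl⟩ := hχ
  let b := Pi.basisFun ℂ (Fin n)
  let f : Matrix (Fin n) (Fin n) ℂ →+* Module.End ℂ (Fin n → ℂ) :=
    (Matrix.toLinAlgEquiv b).toRingEquiv.toRingHom.comp σ.toRingHom.mapMatrix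
  let ρ' : Representation ℂ G (Fin n → ℂ) :=
    f.toMonoidHom.comp ((LinearMap.toMatrixAlgEquiv b).toRingEquiv.toRingHom.toMonoidHom.comp ρ)
  refine ⟨n, ρ', funext fun g => ?_⟩
  show LinearMap.trace ℂ _ (Matrix.toLin b b ((LinearMap.toMatrix b b (ρ g)).map σ)) = σ (LinearMap.trace ℂ _ (ρ g))
  rw [LinearMap.trace_eq_matrix_trace ℂ b, LinearMap.trace_eq_matrix_trace ℂ b (ρ g), LinearMap.toMatrix_toLin]
  simp [Matrix.trace, map_sum]

/-- Summing over the elements acting by `-1`. -/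
theorem sum_fiber (χ : nrm P →* ℂˣ) (hχ : ∀ g : nrm P, D.act g = 1 → χ g = 1) {g₀ : nrm P} (hg₀ : D.act g₀ = -1) :
    ∑ g ∈ Finset.univ.filter (fun g : nrm P => D.act g = -1), (χ g : ℂ)
      = (p : ℂ) * Nat.card D.K0 * (χ g₀ : ℂ) := by
  have hval : ∀ g : nrm P, D.act g = -1 → χ g = χ g₀ := fun g hg => by
    have h := hχ (g * g₀⁻¹) (by rw [map_mul, map_inv, hg, hg₀, mul_inv_cancel])
    rwa [map_mul, map_inv, mul_inv_eq_one] at h
  rw [Finset.sum_congr rfl (g := fun _ => (χ g₀ : ℂ)) fun g hg => by rw [hval g (Finset.mem_filter.1 hg).2],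
    Finset.sum_const, nsmul_eq_mul]
  congr 1
  have h1 : (Finset.univ.filter fun g : nrm P => D.act g = -1).card = Nat.card D.act.ker := by
    rw [Nat.card_eq_fintype_card, Fintype.card_subtype]
    refine Finset.card_nbij' (fun g => g * g₀⁻¹) (fun k => k * g₀) ?_ ?_ ?_ ?_ <;> intro g hg <;>
      simp_all [MonoidHom.mem_ker]
  rw [h1]
  have hker : Nat.card D.act.ker * Nat.card D.act.range = Nat.card (nrm P) := by
    rw [← Subgroup.index_ker, Subgroup.card_mul_index]
  rw [card_nrm_eq' D, mul_comm (Nat.card D.act.range)] at hker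
  rw [Nat.eq_of_mul_eq_mul_right Nat.card_pos hker, Nat.cast_mul]

/-- An element of `N` acting as `1` on `P` and of order prime to `p` lies in `K0`. -/
theorem mem_K0_act {g : nrm P} (hg : D.act g = 1) (hreg : ¬ p ∣ orderOf (g : G)) : (g : G) ∈ D.K0 :=
  (D.mem_K0 _).2 ⟨(D.mem_cent_iff _).1 ((D.act_eq_one_iff g).1 hg), hreg⟩

variable {ζ : IrrCharacter G} {θ : IrrCharacter D.K0} {c : (ZMod p)ˣ}
  (hfaith : ∀ g : G, (ζ : G → ℂ) g = (ζ : G → ℂ) 1 → g = 1) (hd : charDegree (ζ : G → ℂ) + 2 ≤ p)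
  (hnn : ¬ (P : Subgroup G).Normal) (h3 : 3 * Nat.card D.act.range ≤ p - 1)

/-- The number of pairs of eigenvalues with a given sum. -/
noncomputable def pairs (D : Frame P) (k : ZMod p) : ℤ := ∑ s, off D 1 s * off D 1 (k - s)

theorem off_zero (l : (ZMod p)ˣ) : off D l 0 = 1 := if_neg (zero_notMem_cos D l)

theorem sum_pairs : ∑ k, pairs D k = ((p : ℤ) - Nat.card D.act.range) ^ 2 := by
  simp only [pairs]
  rw [Finset.sum_comm]
  simp only [← Finset.mul_sum]
  rw [Finset.sum_congr rfl (g := fun s => off D 1 s * ((p : ℤ) - Nat.card D.act.range)) fun s _ => by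
    rw [Fintype.sum_equiv (Equiv.subRight s) (fun k => off D 1 (k - s)) (fun k => off D 1 k) fun k => rfl, sum_off],
    ← Finset.sum_mul, sum_off]
  ring

theorem neg_cos (l : (ZMod p)ˣ) (s : ZMod p) : -s ∈ cos D l ↔ s ∈ cos D (-l) := by
  constructor <;> intro h <;> obtain ⟨u, hu, he⟩ := (mem_cos D).1 h <;> refine (mem_cos D).2 ⟨u, hu, ?_⟩
  · rw [neg_mul, Units.val_neg, he, neg_neg]
  · rw [← he, neg_mul, Units.val_neg, neg_neg]

theorem pairs_zero_of_mem (h : (-1 : (ZMod p)ˣ) ∈ D.act.range) :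
    pairs D 0 = (p : ℤ) - Nat.card D.act.range := by
  have hiff : ∀ s, -s ∈ cos D (1 : (ZMod p)ˣ) ↔ s ∈ cos D (1 : (ZMod p)ˣ) := fun s => by
    rw [neg_cos]
    constructor <;> intro hs <;> obtain ⟨u, hu, he⟩ := (mem_cos D).1 hs
    · exact (mem_cos D).2 ⟨(-1) * u, mul_mem h hu, by rw [← he, one_mul]⟩
    · exact (mem_cos D).2 ⟨(-1) * u, mul_mem h hu, by rw [← he]; simp⟩
  rw [← sum_off (D := D) 1, pairs]
  refine Finset.sum_congr rfl fun s _ => ?_
  rw [zero_sub]
  unfold off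
  by_cases hs : s ∈ cos D (1 : (ZMod p)ˣ) <;> simp [hiff, hs]

theorem pairs_zero_of_notMem (h : (-1 : (ZMod p)ˣ) ∉ D.act.range) :
    pairs D 0 = (p : ℤ) - 2 * Nat.card D.act.range := by
  rw [← sum_off_mul (D := D) (i := 1) (j := -1) (fun hm => h (by simpa using (mem_cos_iff D 1 (-1)).1 hm)), pairs]
  refine Finset.sum_congr rfl fun s _ => ?_
  rw [zero_sub]
  unfold off
  simp only [neg_cos]

include hfaith hd hnn h3 in
set_option maxHeartbeats 2000000 in
/-- The conclusions from the two squares. -/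
theorem bound (M : Minus D ζ θ c) {t : ℕ} (ht : Nat.card D.act.range * t = p - 1) (he3 : 3 ≤ Nat.card D.act.range) :
    Nat.card D.act.range + 3 ≤ t ∧ ¬ Odd (Nat.card (Subgroup.center G)) := by
  obtain ⟨hb1, hb2⟩ := StageOne.bound hfaith hd hnn h3 M ht
  set e := Nat.card D.act.range with he
  have he0 : 0 < e := Nat.card_pos
  have ht3 : 3 ≤ t := Nat.le_of_mul_le_mul_left (show e * 3 ≤ e * t by omega) he0
  have hp2 : 2 < p := by omega
  have hpt : (p : ℤ) - 1 = (e : ℤ) * t := by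
    have : ((e * t : ℕ) : ℤ) = ((p - 1 : ℕ) : ℤ) := by rw [ht]
    push_cast [Nat.cast_sub hp.out.one_le] at this
    linarith
  obtain ⟨E⟩ := Norm.exists_split D
  have hA := Norm.comm E M.K0_eq
  obtain ⟨B⟩ := exists_blk M.K0_eq h3 M.theta_one
  obtain ⟨μ, hμ, hμv⟩ := exists_sq M.theta_one
  obtain ⟨B₂⟩ := exists_blk M.K0_eq h3 hμ
  obtain ⟨α, hαx, hαext, hα⟩ := Members.exists_alpha h3 E M B
  obtain ⟨w, hwx, hwext, hcap⟩ := B₂.exists_cap (Char.isCharacter_irr ζ) hfaith hd hnn h3 E hμ hA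
  obtain ⟨-, hdeg, -⟩ := Members.minus hfaith hd h3 M B 1
  set d := charDegree (ζ : G → ℂ) with hddef
  have hde : d + e = p := M.deg
  have hde' : (d : ℤ) = (p : ℤ) - e := by omega
  set φ₁ : G → ℂ := (B.ζ 1 : G → ℂ) with hφ₁
  set Alt : G → ℂ := fun g => (φ₁ g * φ₁ g - φ₁ (g * g)) / 2 with hAlt
  set Sym : G → ℂ := fun g => (φ₁ g * φ₁ g + φ₁ (g * g)) / 2 with hSym
  have hcl := Char.IsIrrCharacter.isClassFunction (B.ζ 1).2
  have hchA : Cfsg.IsCharacter G Alt := DegPMinusTwo.isCharacter_altSquare (Char.isCharacter_irr (B.ζ 1))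
  have hchS : Cfsg.IsCharacter G Sym := DegreeTools.FeitFour.isCharacter_symSquare (Char.isCharacter_irr (B.ζ 1))
  have hsq : ∀ (g : G) (v : D.K0), φ₁ (g * (v : G)) * φ₁ (g * (v : G)) = (μ : D.K0 → ℂ) v * (φ₁ g * φ₁ g) ∧
      φ₁ (g * (v : G) * (g * (v : G))) = (μ : D.K0 → ℂ) v * φ₁ (g * g) := by
    intro g v
    have hv : (v : G) ∈ Subgroup.center G := M.K0_eq ▸ v.2
    refine ⟨?_, ?_⟩
    · rw [hφ₁, B.ov_ζ 1, hμv]; ring
    · have e1 : g * (v : G) * (g * (v : G)) = g * g * ((v * v : D.K0) : G) := by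
        rw [mul_assoc, ← mul_assoc (v : G), ← Subgroup.mem_center_iff.1 hv g, Subgroup.coe_mul]
        group
      rw [e1, hφ₁, B.ov_ζ 1, hμv]
      congr 1
      obtain ⟨l, hl⟩ := Char.exists_hom_of_apply_one_eq_one (Char.isCharacter_irr θ) (DegHalf.linear_apply_one M.theta_one)
      rw [hl]
      simp
  have hovA : Over μ Alt := fun g v => by
    obtain ⟨h1, h2⟩ := hsq g v
    show (φ₁ (g * v) * φ₁ (g * v) - φ₁ (g * v * (g * v))) / 2 = _
    rw [h1, h2, hAlt]
    ring
  have hovS : Over μ Sym := fun g v => by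
    obtain ⟨h1, h2⟩ := hsq g v
    show (φ₁ (g * v) * φ₁ (g * v) + φ₁ (g * v * (g * v))) / 2 = _
    rw [h1, h2, hSym]
    ring
  -- values on `P`
  have h2p : (2 : ZMod p) ≠ 0 := fun h => by
    have h' : ((2 : ℕ) : ZMod p) = 0 := by exact_mod_cast h
    have := Nat.le_of_dvd two_pos ((ZMod.natCast_eq_zero_iff 2 p).1 h')
    omega
  have hval : ∀ b : ZMod p, φ₁ (D.x ^ b.val) = ∑ k, (off D 1 k : ℂ) * ZMod.stdAddChar (k * b) := fun b => by
    rw [hφ₁, apply_xpow]
    refine Finset.sum_congr rfl fun k _ => ?_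
    rw [Members.nP_all h3 M B 1 k]
    unfold off
    split_ifs <;> simp
  have hprod : ∀ b : ZMod p, φ₁ (D.x ^ b.val) * φ₁ (D.x ^ b.val)
      = ∑ k, (pairs D k : ℂ) * ZMod.stdAddChar (k * b) := fun b => by
    rw [hval, Finset.sum_mul]
    simp only [pairs, Int.cast_sum, Int.cast_mul, Finset.sum_mul, Finset.mul_sum]
    conv_rhs => rw [Finset.sum_comm]
    refine Finset.sum_congr rfl fun s _ => ?_
    refine Fintype.sum_equiv (Equiv.addLeft s) _ _ fun r => ?_
    rw [Equiv.coe_addLeft, add_sub_cancel_left, add_mul, AddChar.map_add_eq_mul]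
    ring
  have hdbl : ∀ b : ZMod p, φ₁ (D.x ^ b.val * D.x ^ b.val)
      = ∑ k, (off D 1 (k / 2) : ℂ) * ZMod.stdAddChar (k * b) := fun b => by
    have e1 : D.x ^ b.val * D.x ^ b.val = D.x ^ (b + b).val := by
      rw [← pow_add, pow_eq_pow_iff_modEq, D.ord, ← ZMod.natCast_eq_natCast_iff]
      push_cast [ZMod.natCast_zmod_val]
      rfl
    rw [e1, hval]
    refine Fintype.sum_equiv (Equiv.mulLeft₀ (2 : ZMod p) h2p) _ _ fun k => ?_
    rw [show (Equiv.mulLeft₀ (2 : ZMod p) h2p) k = 2 * k from rfl, mul_div_cancel_left₀ _ h2p]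
    congr 2
    ring
  have hpat : ∀ (ψ : G → ℂ), Cfsg.IsCharacter G ψ → Over μ ψ → ∀ sgn : ℤ,
      (∀ g, ψ g = (φ₁ g * φ₁ g + (sgn : ℂ) * φ₁ (g * g)) / 2) →
      ∃ (a : IrrCharacter G → ℕ) (n : ZMod p → ℤ), (∀ g, ψ g = ∑ φ, (a φ : ℂ) * (φ : G → ℂ) g) ∧
        (∀ b : ZMod p, ψ (D.x ^ b.val) = ∑ k, (n k : ℂ) * ZMod.stdAddChar (k * b)) ∧
        2 * n 0 = pairs D 0 + sgn ∧
        2 * ((∑ k, n k) - (p : ℤ) * n 0) = ((p : ℤ) - e) ^ 2 + sgn * ((p : ℤ) - e) - p * (pairs D 0 + sgn) ∧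
        ((p : ℤ) - e) ^ 2 + sgn * ((p : ℤ) - e) - p * (pairs D 0 + sgn)
          = 2 * B₂.δ * (e * B₂.numY a) - 2 * ((e : ℤ) * t) * B₂.sA a := by
    intro ψ hψ hov sgn hform
    obtain ⟨a, ha, hsupp⟩ := Pieces.exists_exp M.K0_eq hψ hov
    obtain ⟨n, -, -, hn⟩ := Blk.exists_shift (D := D) ha
      (n := fun k => ∑ φ, (a φ : ℤ) * (nP D φ k : ℤ)) (fun b _ => by
        rw [ha]
        simp only [Int.cast_sum, Int.cast_mul, Int.cast_natCast, Finset.sum_mul, apply_xpow, Finset.mul_sum]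
        rw [Finset.sum_comm]
        exact Finset.sum_congr rfl fun k _ => Finset.sum_congr rfl fun φ _ => by ring)
    have h1 : (fun k => 2 * (n k : ℂ)) = fun k => (pairs D k : ℂ) + (sgn : ℂ) * (off D 1 (k / 2) : ℂ) := by
      refine coeff_unique fun b => ?_
      simp only [add_mul, mul_assoc, Finset.sum_add_distrib, ← Finset.mul_sum]
      rw [← hn, ← hprod, ← hdbl, hform]
      ring
    have h2 : ∀ k, 2 * n k = pairs D k + sgn * off D 1 (k / 2) := fun k => by
      have := congrFun h1 k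
      exact_mod_cast this
    have h0 : 2 * n 0 = pairs D 0 + sgn := by rw [h2, zero_div, off_zero, mul_one]
    have hs : 2 * ∑ k, n k = ((p : ℤ) - e) ^ 2 + sgn * ((p : ℤ) - e) := by
      rw [Finset.mul_sum, Finset.sum_congr rfl fun k _ => h2 k, Finset.sum_add_distrib, sum_pairs, ← Finset.mul_sum,
        Fintype.sum_equiv (Equiv.mulRight₀ ((2 : ZMod p)⁻¹) (inv_ne_zero h2p))
          (fun k => off D 1 (k / 2)) (fun k => off D 1 k) (fun k => by
            show _ = off D 1 (k * (2 : ZMod p)⁻¹)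
            rw [div_eq_mul_inv]), sum_off]
    have hsum2 : 2 * ((∑ k, n k) - (p : ℤ) * n 0)
        = ((p : ℤ) - e) ^ 2 + sgn * ((p : ℤ) - e) - p * (pairs D 0 + sgn) := by
      rw [← h0, ← hs]; ring
    refine ⟨a, n, ha, hn, h0, hsum2, ?_⟩
    have hk := B₂.key_sum ha hsupp hn
    rw [← hsum2, hk, hpt]
    ring
  -- off the centralizer
  set χ : nrm P →* ℂˣ := α * α * w⁻¹ with hχ
  have hχ1 : ∀ g : nrm P, D.act g = 1 → χ g = 1 := by
    intro g hg
    obtain ⟨i, a, rfl⟩ := E.Δ.decomp g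
    rw [map_mul, map_pow, act_x, one_pow, one_mul, ← E.eps] at hg
    have hK0 := Norm.mem_K0_of_eps E hg
    have ha1 : χ (a : nrm P) = 1 := by
      refine Units.ext ?_
      have e1 := hαext ⟨_, hK0⟩
      have e2 := hwext ⟨_, hK0⟩
      rw [hμv, ← e1] at e2
      simp only [hχ, MonoidHom.mul_apply, MonoidHom.inv_apply, Units.val_mul, Units.val_inv_eq_inv_val, Units.val_one]
      refine (mul_inv_eq_one₀ (Units.ne_zero _)).2 ?_
      exact e2.symm
    rw [map_mul, map_pow, ha1, mul_one, hχ]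
    simp [hαx, hwx]
  have hoff : ∀ g : nrm P, D.act g ≠ 1 → φ₁ (g : G) = (α g : ℂ) := fun g hg => hα 1 g hg
  have hsqv : ∀ g : nrm P, D.act g ≠ 1 → D.act g = -1 → φ₁ ((g : G) * g) = (α g : ℂ) * (α g : ℂ) * (d : ℂ) := by
    intro g hg hg'
    have hact : D.act (g * g) = 1 := by rw [map_mul, hg']; simp
    have hreg : ¬ p ∣ orderOf ((g * g : nrm P) : G) := fun h => regular E hg (h.trans (by
      rw [Subgroup.coe_mul, ← pow_two]
      exact orderOf_pow_dvd 2))
    have hK0 := mem_K0_act hact hreg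
    have e1 := B.ov_ζ 1 1 ⟨_, hK0⟩
    rw [one_mul, irr_one_eq, hdeg] at e1
    rw [hφ₁, ← Subgroup.coe_mul, e1, ← hαext ⟨_, hK0⟩, ← Units.val_mul, ← map_mul]
  have hsqv' : ∀ g : nrm P, D.act g ≠ 1 → D.act g ≠ -1 → φ₁ ((g : G) * g) = (α g : ℂ) * (α g : ℂ) := by
    intro g hg hg'
    have hact : D.act (g * g) ≠ 1 := by
      intro h
      rw [map_mul] at h
      have h' : ((D.act g : ZMod p)) * (D.act g : ZMod p) = 1 := by
        rw [← Units.val_mul, h, Units.val_one]
      rcases mul_self_eq_one_iff.1 h' with e1 | e1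
      · exact hg (Units.ext e1)
      · exact hg' (Units.ext (by rw [e1]; simp))
    rw [← Subgroup.coe_mul, hoff _ hact, map_mul, Units.val_mul]
  have hcard : (Nat.card (nrm P) : ℂ) = (e : ℂ) * ((p : ℂ) * Nat.card D.K0) := by
    rw [card_nrm_eq' D]
    push_cast
    ring
  have hpK : (p : ℂ) * Nat.card D.K0 ≠ 0 :=
    mul_ne_zero (Nat.cast_ne_zero.2 hp.out.ne_zero) (Nat.cast_ne_zero.2 Nat.card_pos.ne')
  have hχv : ∀ g : nrm P, (χ g : ℂ) = (α g : ℂ) * (α g : ℂ) * conj (w g : ℂ) := fun g => by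
    simp only [hχ, MonoidHom.mul_apply, MonoidHom.inv_apply, Units.val_mul, Units.val_inv_eq_inv_val]
    congr 1
    exact (eq_inv_of_mul_eq_one_right (conj_mul_self w g)).symm
  -- odd order of the automizer
  have hodd : Odd e := by
    by_contra heven
    rw [Nat.not_odd_iff_even] at heven
    have he4 : 4 ≤ e := by
      obtain ⟨m, hm⟩ := heven
      omega
    have ht2 := hb2 he4
    have hmem : (-1 : (ZMod p)ˣ) ∈ D.act.range := by
      obtain ⟨u, hu⟩ := exists_prime_orderOf_dvd_card' (G := D.act.range) 2 (even_iff_two_dvd.1 heven)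
      have hu2 : ((u : (ZMod p)ˣ) : ZMod p) * ((u : (ZMod p)ˣ) : ZMod p) = 1 := by
        have := pow_orderOf_eq_one u
        rw [hu, pow_two] at this
        rw [← Units.val_mul, ← Subgroup.coe_mul, this]
        rfl
      rcases mul_self_eq_one_iff.1 hu2 with e1 | e1
      · exfalso
        rw [show u = 1 from Subtype.ext (Units.ext e1), orderOf_one] at hu
        omega
      · have : (u : (ZMod p)ˣ) = -1 := Units.ext (by rw [e1]; simp)
        exact this ▸ u.2
    obtain ⟨g₀, hg₀⟩ := hmem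
    have hp0 := pairs_zero_of_mem (D := D) ⟨g₀, hg₀⟩
    have hne : ∀ g : nrm P, D.act g = -1 → D.act g ≠ 1 := fun g hg h => by
      rw [hg] at h
      have h' := congrArg Units.val h
      simp only [Units.val_neg, Units.val_one] at h'
      exact h2p (by linear_combination -h')
    have hσ : (χ g₀ : ℂ) = 1 ∨ (χ g₀ : ℂ) = -1 := by
      refine mul_self_eq_one_iff.1 ?_
      rw [← Units.val_mul, ← map_mul, hχ1 (g₀ * g₀) (by rw [map_mul, hg₀]; simp), Units.val_one]
    have hsplit := fun f : nrm P → ℂ =>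
      Finset.sum_filter_add_sum_filter_not (Finset.univ.filter fun g : nrm P => D.act g ≠ 1)
        (fun g : nrm P => D.act g = -1) f
    have hfil : (Finset.univ.filter fun g : nrm P => D.act g ≠ 1).filter (fun g => D.act g = -1)
        = Finset.univ.filter fun g : nrm P => D.act g = -1 := by
      ext g
      simp only [Finset.mem_filter, Finset.mem_univ, true_and]
      exact ⟨fun h => h.2, fun h => ⟨hne g h, h⟩⟩
    -- both squares in one computation
    have hsquare : ∀ (ψ : G → ℂ), Cfsg.IsCharacter G ψ → Over μ ψ → ∀ sgn : ℤ, (sgn = 1 ∨ sgn = -1) →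
        (∀ g, ψ g = (φ₁ g * φ₁ g + (sgn : ℂ) * φ₁ (g * g)) / 2) → (χ g₀ : ℂ) = -(sgn : ℂ) → False := by
      intro ψ hψ hov sgn hsgn hform hσ'
      obtain ⟨a, n, ha, hn, hn0, -, hk⟩ := hpat ψ hψ hov sgn hform
      have hzero : wInner ψ w = ((0 : ℤ) : ℂ) := by
        refine mul_left_cancel₀ (Char.card_ne_zero (G := nrm P)) ?_
        rw [wInner_split hμ hov (n := fun k => (n k : ℂ)) hn hwx hwext, Int.cast_zero, mul_zero, ← hsplit, hfil,
          Finset.sum_congr rfl (g := fun g => (χ g : ℂ) * ((1 + (sgn : ℂ) * d) / 2)) fun g hg => ?_,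
          ← Finset.sum_mul, sum_fiber χ hχ1 hg₀,
          Finset.sum_congr rfl (g := fun g => (χ g : ℂ) * ((1 + (sgn : ℂ)) / 2)) fun g hg => ?_, ← Finset.sum_mul]
        · have hrest : ∑ g ∈ (Finset.univ.filter fun g : nrm P => D.act g ≠ 1).filter (fun g => ¬ D.act g = -1),
              (χ g : ℂ) = (p : ℂ) * Nat.card D.K0 * ((if χ = 1 then (e : ℂ) else 0) - 1 - (χ g₀ : ℂ)) := by
            have := sum_hom_off χ hχ1
            rw [← hsplit, hfil, sum_fiber χ hχ1 hg₀] at this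
            linear_combination this
          rw [hrest]
          have hn0' : 2 * (n 0 : ℂ) = (p : ℂ) - (e : ℂ) + (sgn : ℂ) := by
            have : (((2 * n 0 : ℤ)) : ℂ) = (((p : ℤ) - e + sgn : ℤ) : ℂ) := by rw [hn0, hp0]
            push_cast at this
            exact this
          have hdC : (d : ℂ) = (p : ℂ) - e := by
            have : ((d : ℤ) : ℂ) = (((p : ℤ) - e : ℤ) : ℂ) := by rw [hde']
            push_cast at this
            exact this
          rcases hsgn with rfl | rfl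
          · have hne1 : χ ≠ 1 := fun h => by rw [h] at hσ'; norm_num at hσ'
            rw [if_neg hne1, hσ', hdC]
            push_cast at hn0' ⊢
            linear_combination ((p : ℂ) * Nat.card D.K0 / 2) * hn0'
          · rw [hσ', hdC]
            push_cast at hn0' ⊢
            linear_combination ((p : ℂ) * Nat.card D.K0 / 2) * hn0'
        · obtain ⟨hg1, hg2⟩ := Finset.mem_filter.1 hg
          have hg1' := (Finset.mem_filter.1 hg1).2
          rw [hform, hoff g hg1', hsqv' g hg1' hg2, hχv]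
          ring
        · have hg2 := (Finset.mem_filter.1 hg).2
          rw [hform, hoff g (hne g hg2), hsqv g (hne g hg2) hg2, hχv]
          ring
      have hY := hcap ψ a ha 0 hzero
      have hY0 : (B₂.numY a : ℤ) = 0 := le_antisymm hY (Nat.cast_nonneg _)
      rw [hY0, hp0] at hk
      set A := B₂.sA a
      obtain ⟨m, hm⟩ := heven
      have he' : (e : ℤ) = 2 * m := by omega
      have key : ((e : ℤ) - 2 * A) * t = (e : ℤ) + (-sgn - 1) := by
        refine mul_left_cancel₀ (show (e : ℤ) ≠ 0 by omega) ?_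
        rcases hsgn with rfl | rfl <;> linear_combination -hk - (e : ℤ) * hpt
      have hcases : (m : ℤ) - A ≤ 0 ∨ 1 ≤ (m : ℤ) - A := by omega
      rcases hcases with h | h
      · have : ((e : ℤ) - 2 * A) * t ≤ 0 := mul_nonpos_of_nonpos_of_nonneg (by omega) (by omega)
        rcases hsgn with rfl | rfl <;> omega
      · have : (2 : ℤ) * t ≤ ((e : ℤ) - 2 * A) * t := mul_le_mul_of_nonneg_right (by omega) (by omega)
        rcases hsgn with rfl | rfl <;> omega
    rcases hσ with h | h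
    · exact hsquare Alt hchA hovA (-1) (Or.inr rfl) (fun g => by simp only [hAlt]; push_cast; ring)
        (by rw [h]; norm_num)
    · exact hsquare Sym hchS hovS 1 (Or.inl rfl) (fun g => by simp only [hSym]; push_cast; ring)
        (by rw [h]; norm_num)
  have ht1 := hb1 hodd he3
  obtain ⟨a, n, ha, hn, hn0, -, hk⟩ := hpat Alt hchA hovA (-1) (fun g => by simp only [hAlt]; push_cast; ring)
  have hnot : (-1 : (ZMod p)ˣ) ∉ D.act.range := fun h => by
    have h2 : orderOf (⟨-1, h⟩ : D.act.range) ∣ 2 := orderOf_dvd_of_pow_eq_one (Subtype.ext (by simp))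
    rcases (Nat.dvd_prime Nat.prime_two).1 h2 with h' | h'
    · have := congrArg (fun z : D.act.range => ((z : (ZMod p)ˣ) : ZMod p)) (orderOf_eq_one_iff.1 h')
      simp only [Units.val_neg, OneMemClass.coe_one, Units.val_one] at this
      exact h2p (by linear_combination -this)
    · have hdvd := orderOf_dvd_natCard (⟨-1, h⟩ : D.act.range)
      rw [h'] at hdvd
      exact Nat.not_even_iff_odd.2 hodd (even_iff_two_dvd.2 hdvd)
  rw [pairs_zero_of_notMem hnot] at hn0 hk
  have hr : 2 * (B₂.numY a : ℤ) ≤ (t : ℤ) - 2 := by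
    obtain ⟨r, hr⟩ := exists_nat hchA w
    have hle := hcap Alt a ha r (by rw [hr]; simp)
    have h1 := wInner_split hμ hovA (n := fun k => (n k : ℂ)) hn hwx hwext
    rw [hr, hcard, Finset.sum_eq_zero fun g hg => ?_, zero_add] at h1
    · have h2 : (e : ℂ) * r = (n 0 : ℂ) := mul_left_cancel₀ hpK (by linear_combination h1)
      have h3' : (e : ℤ) * r = n 0 := by exact_mod_cast h2
      have h4 : (e : ℤ) * (2 * r) = (e : ℤ) * ((t : ℤ) - 2) := by linear_combination 2 * h3' + hn0 + hpt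
      have := mul_left_cancel₀ (show (e : ℤ) ≠ 0 by omega) h4
      omega
    · have hg1 := (Finset.mem_filter.1 hg).2
      have hg2 : D.act g ≠ -1 := fun h => hnot ⟨g, h⟩
      simp only [hAlt]
      rw [hoff g hg1, hsqv' g hg1 hg2, sub_self, zero_div, zero_mul]
  set A := B₂.sA a with hAdef
  have key : (e : ℤ) + 1 = 2 * B₂.δ * B₂.numY a - 2 * t * A := by
    refine mul_left_cancel₀ (show (e : ℤ) ≠ 0 by omega) ?_
    linear_combination hk
  have hY0 : (0 : ℤ) ≤ (B₂.numY a : ℤ) := Nat.cast_nonneg _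
  rcases B₂.hδ with hδ | hδ
  swap
  · exfalso
    rw [hδ] at key
    have hA1 : A ≤ -1 := by
      by_contra hlt
      have : 0 ≤ (t : ℤ) * A := mul_nonneg (by positivity) (by omega)
      linarith
    have : (t : ℤ) * A ≤ t * (-1) := mul_le_mul_of_nonneg_left hA1 (by positivity)
    linarith
  refine ⟨?_, fun hZ => ?_⟩
  · rw [hδ] at key
    have hA0 : 0 ≤ A := by
      by_contra hlt
      have : (t : ℤ) * A ≤ t * (-1) := mul_le_mul_of_nonneg_left (by omega) (by positivity)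
      linarith
    have : 0 ≤ (t : ℤ) * A := mul_nonneg (by positivity) hA0
    have : (e : ℤ) + 3 ≤ t := by linarith
    omega
  -- an odd centre
  set z := Nat.card (Subgroup.center G)
  have hzG : z ∣ Fintype.card G := by
    rw [← Nat.card_eq_fintype_card]
    exact Subgroup.card_subgroup_dvd_card _
  have hG0 : Fintype.card G ≠ 0 := Fintype.card_ne_zero
  haveI : NeZero (Fintype.card G) := ⟨hG0⟩
  obtain ⟨j, hj⟩ := ZMod.unitsMap_surjective hzG (ZMod.unitOfCoprime 2 hZ.coprime_two_left)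
  have hj2 : ((j : ZMod (Fintype.card G)).val) ≡ 2 [MOD z] := by
    rw [← ZMod.natCast_eq_natCast_iff]
    have := congrArg (fun u : (ZMod z)ˣ => (u : ZMod z)) hj
    simp only [ZMod.unitsMap_val, ZMod.coe_unitOfCoprime] at this
    rw [ZMod.natCast_val]
    exact_mod_cast this
  set jn := (j : ZMod (Fintype.card G)).val
  have hjcop : jn.Coprime (Fintype.card G) := ZMod.val_coe_unit_coprime j
  obtain ⟨σ, hσ⟩ := DegreeTools.FeitFour.exists_sigma hG0 hjcop
  have hirr : Cfsg.IsIrrCharacter G fun g => σ (φ₁ g) := by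
    refine Char.IsCharacter.isIrrCharacter_of_norm_one (isCharacter_galois (Char.isCharacter_irr _) σ) ?_
    have h1 := Char.classInner_irr_self (B.ζ 1).2
    have h2 := congrArg σ h1
    rw [map_one] at h2
    rw [← h2, hφ₁]
    simp only [Cfsg.classInner, ← Char.IsCharacter.apply_inv (isCharacter_galois (Char.isCharacter_irr _) σ),
      ← Char.IsIrrCharacter.apply_inv (B.ζ 1).2, map_mul, map_inv₀, map_natCast, map_sum]
  set φ : IrrCharacter G := ⟨_, hirr⟩ with hφ
  have hφv : ∀ g, (φ : G → ℂ) g = σ (φ₁ g) := fun g => rfl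
  have hθ2 : ∀ v : D.K0, σ ((θ : D.K0 → ℂ) v) = (μ : D.K0 → ℂ) v := by
    intro v
    obtain ⟨l, hl⟩ := Char.exists_hom_of_apply_one_eq_one (Char.isCharacter_irr θ) (DegHalf.linear_apply_one M.theta_one)
    rw [hμv, hl]
    have hvz : v ^ z = 1 := Subtype.ext (by
      have hv : (v : G) ∈ Subgroup.center G := M.K0_eq ▸ v.2
      rw [Subgroup.coe_pow, OneMemClass.coe_one, ← orderOf_dvd_iff_pow_eq_one, ← Subgroup.orderOf_mk (v : G) hv]
      exact orderOf_dvd_natCard _)
    have hroot : ((l v : ℂˣ) : ℂ) ^ Fintype.card G = 1 := by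
      obtain ⟨q, hq⟩ := hzG
      rw [← Units.val_pow_eq_pow_val, ← map_pow, hq, pow_mul, hvz, one_pow, map_one, Units.val_one]
    show σ ((l v : ℂˣ) : ℂ) = _
    rw [hσ _ hroot, ← Units.val_pow_eq_pow_val, ← map_pow, ← Units.val_mul, ← map_mul,
      pow_eq_pow_iff_modEq.2 (hj2.of_dvd (orderOf_dvd_of_pow_eq_one hvz)), pow_two]
  have hovφ : Over μ (φ : G → ℂ) := fun g v => by
    rw [hφv, hφv, hφ₁, B.ov_ζ 1, map_mul, hθ2]
  obtain ⟨jp, hjp⟩ := exists_exponent_of (p := p) σ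
  have hnP : ∀ k, nP D φ k = if k ∈ cos D jp then 0 else 1 := by
    have h : (fun k => (nP D φ k : ℂ)) = fun k => (off D 1 (((jp⁻¹ : (ZMod p)ˣ) : ZMod p) * k) : ℂ) := by
      refine coeff_unique fun b => ?_
      rw [← apply_xpow, hφv, hval, map_sum]
      refine Fintype.sum_equiv (Units.mulLeft jp) _ _ fun k => ?_
      rw [Units.mulLeft_apply, map_mul, map_intCast, hjp, Units.inv_mul_cancel_left, mul_assoc]
    intro k
    have hk := congrFun h k
    have hiff : ((jp⁻¹ : (ZMod p)ˣ) : ZMod p) * k ∈ cos D (1 : (ZMod p)ˣ) ↔ k ∈ cos D jp := by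
      rw [mem_cos, mem_cos]
      constructor <;> rintro ⟨u, hu, he⟩ <;> refine ⟨u, hu, ?_⟩
      · rw [one_mul] at he
        rw [Units.val_mul, he, Units.mul_inv_cancel_left]
      · rw [← he, one_mul, Units.val_mul, Units.inv_mul_cancel_left]
    unfold off at hk
    simp only [hiff] at hk
    split_ifs at hk ⊢ <;> exact_mod_cast hk
  have hdφ : charDegree (φ : G → ℂ) = d := by
    have h1 := irr_one_eq φ
    rw [hφv, hφ₁, irr_one_eq, map_natCast, hdeg] at h1
    exact_mod_cast h1.symm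
  have hM2 : Minus D φ μ jp := ⟨hμ, M.K0_eq, by rw [hdφ]; exact M.deg,
    fun k => by rw [← nP_eq hμ hovφ, hnP], fun θ' hne k => mult_other hμ hovφ hne k, hovφ⟩
  obtain ⟨hδ', -⟩ := Members.mem h3 hM2 B₂
  rw [hδ] at hδ'
  norm_num at hδ'

end CfsgLib.Char.FeitDegree.StageTwo
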