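import Cfsg.Agent.Lib.Char.FeitDegree.Reduction
import Cfsg.Agent.Lib.Char.FeitDegree.Square
import Cfsg.Agent.Lib.Char.FeitDegree.Adjoint
import Cfsg.Agent.Lib.Char.FeitDegree.Conic
import Cfsg.Agent.Lib.Char.FeitDegree.StageTwo
import Cfsg.Agent.Lib.Char.DegHalf.Main
import Cfsg.Agent.Lib.Blocks.SelfCentPrime
import Mathlib.LinearAlgebra.Projectivization.PSL.PSL2

/-!
# The degree of a faithful character when a Sylow subgroup of prime order is not normal

A short representation over the residue field forces all squares into the automizer and identifies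
the central quotient with `PSL(2, p)`; a few eigenvalues or the degree `(p + 1) / 2` provide one.
-/

set_option autoImplicit false

open scoped Classical

namespace CfsgLib.Char.FeitDegree.Main

open Cfsg CfsgLib CfsgLib.Blocks CfsgLib.Blocks.DefectOne CfsgLib.Blocks.ResidueAlgebra CfsgLib.CharDeep.ExactP
open Matrix Setup

universe u

variable {G : Type u} [Group G] [Fintype G] {p : ℕ} [hp : Fact p.Prime] {P : Sylow p G}

variable (G p) in
/-- The quotient by the centre is `PSL(2, p)`. -/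
def IsPSL : Prop :=
  ∃ (F : Type) (_ : Field F) (_ : Fintype F), Fintype.card F = p ∧
    Nonempty (G ⧸ Subgroup.center G ≃* Matrix.ProjectiveSpecialLinearGroup (Fin 2) F)

theorem mem_range_of_conj {D : Frame P} {h : G} {a : (ZMod p)ˣ} (hh : h * D.x * h⁻¹ = D.x ^ (a : ZMod p).val) :
    a ∈ D.act.range := by
  have hh' : h * D.x ^ (1 : ZMod p).val * h⁻¹ = D.x ^ (a : ZMod p).val := by rw [ZMod.val_one, pow_one, hh]
  have hn := D.mem_nrm_of_conj one_ne_zero hh'
  refine ⟨⟨h, hn⟩, Units.ext ?_⟩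
  have h1 := D.conj_x ⟨h, hn⟩
  rw [show h * D.x * h⁻¹ = _ from h1] at hh
  exact D.xpow_inj hh

theorem le_two_card {D : Frame P}
    (hsq : ∀ a : (ZMod p)ˣ, IsSquare a → ∃ h : G, h * D.x * h⁻¹ = D.x ^ (a : ZMod p).val) :
    p - 1 ≤ 2 * Nat.card D.act.range := by
  set f := powMonoidHom (α := (ZMod p)ˣ) 2
  have hle : f.range ≤ D.act.range := by
    rintro _ ⟨b, rfl⟩
    obtain ⟨h, hh⟩ := hsq (f b) ⟨b, sq b⟩
    exact mem_range_of_conj hh
  have hker : Nat.card f.ker ≤ 2 := by
    have hsub : ∀ b ∈ f.ker, b = 1 ∨ b = -1 := fun b hb => by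
      have h1 : ((b : ZMod p)) ^ 2 = 1 := by
        have := congrArg Units.val (MonoidHom.mem_ker.1 hb)
        simpa [f] using this
      rcases sq_eq_one_iff.1 h1 with h | h
      · exact Or.inl (Units.ext h)
      · exact Or.inr (Units.ext (by rw [h, Units.val_neg, Units.val_one]))
    calc Nat.card f.ker ≤ Nat.card ({1, -1} : Set (ZMod p)ˣ) := Nat.card_le_card_of_injective
          (fun b : f.ker => (⟨(b : (ZMod p)ˣ), hsub b b.2⟩ : ({1, -1} : Set (ZMod p)ˣ)))
          (fun b c h => Subtype.ext (congrArg Subtype.val h :))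
      _ ≤ 2 := by
          rw [Nat.card_coe_set_eq]
          exact (Set.ncard_insert_le _ _).trans (by rw [Set.ncard_singleton])
  have hmul : Nat.card f.ker * Nat.card f.range = p - 1 := by
    rw [← Subgroup.index_ker, Subgroup.card_mul_index, Nat.card_eq_fintype_card, ZMod.card_units]
  calc p - 1 = Nat.card f.ker * Nat.card f.range := hmul.symm
    _ ≤ 2 * Nat.card D.act.range := Nat.mul_le_mul hker (Subgroup.card_le_of_le hle)

variable {D : Frame P} {ζ : IrrCharacter G} (hp7 : 7 < p)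
  (hnn : ¬ (P : Subgroup G).Normal) (hfaith : ∀ g : G, (ζ : G → ℂ) g = (ζ : G → ℂ) 1 → g = 1)
  (hd : charDegree (ζ : G → ℂ) + 2 ≤ p) {M₀ : Ideal AlgInt} {hM : IsPModular p M₀}

include hp7 hnn hfaith hd in
/-- The consequences of a short representation over the residue field. -/
theorem of_short {n L : ℕ} {W : G →* Matrix (Fin n) (Fin n) (Residue hM)} (hL : (W D.x - 1) ^ (L + 1) = 0)
    (hT : W D.x - 1 ≠ 0) (h2L : 2 * L + 2 ≤ p) :
    p - 1 ≤ 2 * Nat.card D.act.range ∧
      (2 * Nat.card D.act.range = p - 1 → D.K0 = Subgroup.center G → IsPSL G p) := by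
  haveI := BrouePuig.charP_residue hM
  haveI := Indec.isAlgClosed hM
  obtain ⟨E⟩ := Norm.exists_split D
  obtain ⟨W3, B, hB, hBs, hinv, hx2⟩ := Adjoint.exists_form (Norm.local_nrm (k := Residue hM) D) E.Δ W
    (L := L) (by rw [E.coe_x]; exact hL) (by rw [E.coe_x]; exact hT) h2L (by omega)
  rw [E.coe_x] at hx2
  obtain ⟨F, _, _, _, f, hfx, -⟩ := Conic.exists_pgl (p := p) (by omega) Reduction.residue_pow W3 B hB hBs hinv
    D.x (PrimeOrder.pow_prime_eq_one D.ord) hx2
  have hχ := Char.isCharacter_irr ζ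
  obtain ⟨hsq, hcases⟩ := Conic.psl_or_pgl hp7 P D.card_P f D.x_mem hfx
    (Kernel.exists_conj_notMem hχ hfaith hd hnn f hfx)
  refine ⟨le_two_card hsq, fun he hK => ?_⟩
  rcases hcases with hall | ⟨F₀, _, _, hF₀, ⟨φ⟩⟩
  · exfalso
    have htop : D.act.range = ⊤ := (Subgroup.eq_top_iff' _).2 fun a => by
      obtain ⟨h, hh⟩ := hall a
      exact mem_range_of_conj hh
    rw [htop, Subgroup.card_top, Nat.card_eq_fintype_card, ZMod.card_units] at he
    omega
  haveI : IsSimpleGroup (Matrix.ProjectiveSpecialLinearGroup (Fin 2) F₀) :=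
    Matrix.ProjectiveSpecialLinearGroup.rank_two_simple (by rw [Nat.card_eq_fintype_card, hF₀]; omega)
  set ψ : G →* Matrix.ProjectiveSpecialLinearGroup (Fin 2) F₀ := φ.toMonoidHom.comp (QuotientGroup.mk' f.ker)
  have hψs : Function.Surjective ψ := φ.surjective.comp (QuotientGroup.mk'_surjective _)
  have hψk : ∀ g, ψ g = 1 ↔ g ∈ f.ker := fun g => by
    simp [ψ, QuotientGroup.eq_one_iff]
  have hker : f.ker = Subgroup.center G := by
    refine le_antisymm (hK ▸ Kernel.le_K0 hχ hfaith hd (show D.x ∉ f.ker from hfx)) fun z hz => (hψk z).1 ?_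
    have hzc : ψ z ∈ Subgroup.center (Matrix.ProjectiveSpecialLinearGroup (Fin 2) F₀) :=
      Subgroup.mem_center_iff.2 fun y => by
        obtain ⟨g, rfl⟩ := hψs y
        rw [← map_mul, ← map_mul, Subgroup.mem_center_iff.1 hz g]
    rcases (inferInstance : (Subgroup.center
      (Matrix.ProjectiveSpecialLinearGroup (Fin 2) F₀)).Normal).eq_bot_or_eq_top with h | h
    · rwa [h, Subgroup.mem_bot] at hzc
    · exfalso
      obtain ⟨g, hg⟩ := Kernel.exists_conj_notMem hχ hfaith hd hnn f hfx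
      have hc : ψ (g * D.x * g⁻¹) = ψ D.x := by
        have := Subgroup.mem_center_iff.1 (h.symm ▸ Subgroup.mem_top (ψ D.x) :
          ψ D.x ∈ Subgroup.center (Matrix.ProjectiveSpecialLinearGroup (Fin 2) F₀)) (ψ g)
        rw [map_mul, map_mul, map_inv, this, mul_inv_cancel_right]
      have h1 : g * D.x * g⁻¹ * D.x⁻¹ ∈ f.ker := (hψk _).1 (by rw [map_mul, hc, map_inv, mul_inv_cancel])
      rw [MonoidHom.mem_ker, map_mul, map_inv, mul_inv_eq_one] at h1
      exact hg (h1 ▸ Subgroup.mem_zpowers _)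
  exact ⟨F₀, _, _, hF₀, ⟨(QuotientGroup.quotientMulEquivOfEq hker.symm).trans φ⟩⟩

include hp7 hnn hfaith hd in
/-- Few eigenvalues are impossible. -/
theorem few_false (F : Few D ζ) : False := by
  obtain ⟨M₀, hM⟩ := exists_isPModular hp.out
  obtain ⟨n, S, hS, -⟩ := Indec.exists_indec hM ζ
  obtain ⟨c, hc⟩ := F.supp
  have hpow := Reduction.tee_pow_of_supp (D := D) (ζ := ζ) hS (cos D c) hc
  rw [card_cos] at hpow
  have he : 0 < Nat.card D.act.range := Nat.card_pos
  have h3 := F.small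
  have h := (of_short hp7 hnn hfaith hd (W := Lattice.redRep (Indec.sys hM) S) (L := Nat.card D.act.range - 1)
    (by rw [Nat.sub_add_cancel he]; exact hpow) (Reduction.tee_ne_zero hnn hfaith hS) (by omega)).1
  omega

include hp7 hnn hfaith hd in
/-- Degree `(p + 1) / 2` gives `PSL(2, p)`. -/
theorem psl_of_two {θ : IrrCharacter D.K0} {c : (ZMod p)ˣ} (M : Minus D ζ θ c)
    (he : 2 * Nat.card D.act.range = p - 1) : IsPSL G p := by
  obtain ⟨M₀, hM⟩ := exists_isPModular hp.out
  haveI := BrouePuig.charP_residue hM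
  haveI := Indec.isAlgClosed hM
  obtain ⟨n, S, hS, hindec⟩ := Indec.exists_indec hM ζ
  have hn : n = charDegree (ζ : G → ℂ) := by
    apply Nat.cast_injective (R := ℂ)
    rw [← irr_one_eq, hS, map_one, Matrix.trace_one, Fintype.card_fin]
    simp
  obtain ⟨E⟩ := Norm.exists_split D
  have Loc := Norm.local_nrm (k := Residue hM) D
  have hde := M.deg
  obtain ⟨β, v, hv⟩ := Indec.exists_single Loc E.Δ (Norm.comm E M.K0_eq) (n := n) (by omega)
    (by rw [hn]; exact charDegree_pos ζ) (Lattice.redRep (Indec.sys hM) S) hindec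
  obtain ⟨m, L, W, hWL, hWT, h2L⟩ := Square.exists_short Loc E.Δ hv
    (by omega) (by
      by_contra h
      have h2 := hp.out
      interval_cases p <;> norm_num at h2)
  rw [E.coe_x] at hWL hWT
  exact (of_short hp7 hnn hfaith hd hWL hWT h2L).2 he M.K0_eq

/-- The number of classes of elements of order `p`. -/
theorem card_classes (D : Frame P) {t : ℕ}
    (ht : Nat.card {c : ConjClasses G // ∃ g : G, ConjClasses.mk g = c ∧ orderOf g = p} = t) :
    Nat.card D.act.range * t = p - 1 := by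
  rw [← SelfCent.card_classes_mul D, mul_comm, ← ht]
  congr 1
  exact Nat.card_congr (Equiv.subtypeEquivRight fun C => exists_congr fun g => by
    rw [ConjClasses.mem_carrier_iff_mk_eq])

include hp7 hnn hfaith hd in
/-- The three possibilities below degree `p - 1`. -/
theorem shapes {t : ℕ} (hP : Nat.card P = p)
    (ht : Nat.card {c : ConjClasses G // ∃ g : G, ConjClasses.mk g = c ∧ orderOf g = p} = t) :
    (IsPSL G p ∧ (2 * charDegree (ζ : G → ℂ) = p + 1 ∨ 2 * charDegree (ζ : G → ℂ) = p - 1) ∧ t = 2) ∨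
    ∃ e, charDegree (ζ : G → ℂ) + e = p ∧ e * t = p - 1 ∧ 3 ≤ t ∧
      (e = 2 ∨ 3 ≤ e ∧ e + 3 ≤ t ∧ ¬ Odd (Nat.card (Subgroup.center G))) := by
  obtain ⟨D⟩ := exists_frame P hP
  rcases Setup.cases (D := D) (by omega) hnn ζ hfaith hd with hhalf | hF | ⟨θ, c, M⟩
  · left
    obtain ⟨D', -, hr, -, -⟩ := DegHalf.exists_main (by omega) P hP hnn (Char.isCharacter_irr ζ) hfaith hhalf
    have h := card_classes D' ht
    rw [hr] at h
    refine ⟨⟨ZMod p, inferInstance, inferInstance, ZMod.card p,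
      DegHalf.quotient_psl (by omega) hnn (Char.isCharacter_irr ζ) hP hfaith hhalf⟩, Or.inr (by omega), ?_⟩
    refine Nat.eq_of_mul_eq_mul_left (charDegree_pos ζ) ?_
    omega
  · exact (few_false hp7 hnn hfaith hd hF).elim
  have he := card_classes D ht
  have hde := M.deg
  set e := Nat.card D.act.range with hedef
  set d := charDegree (ζ : G → ℂ)
  have he0 : 0 < e := Nat.card_pos
  have ht1 : t ≠ 1 := by
    rintro rfl
    have hd1 : d = 1 := by omega
    refine hnn ⟨fun v hv g => ?_⟩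
    rwa [DegHalf.comm_of_deg_one (Char.isCharacter_irr ζ) hfaith
      (by rw [irr_one_eq, show charDegree (ζ : G → ℂ) = 1 from hd1, Nat.cast_one]) g v, mul_inv_cancel_right]
  have ht0 : t ≠ 0 := by
    rintro rfl
    omega
  by_cases ht2 : t = 2
  · left
    subst ht2
    exact ⟨psl_of_two hp7 hnn hfaith hd M (by omega), Or.inl (by omega), rfl⟩
  · right
    have ht3 : 3 ≤ t := by omega
    refine ⟨e, hde, he, ht3, ?_⟩
    by_cases he3 : 3 ≤ e
    · obtain ⟨h1, h2⟩ := StageTwo.bound hfaith hd hnn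
        (show 3 * Nat.card D.act.range ≤ p - 1 by rw [← hedef, ← he, mul_comm]; exact Nat.mul_le_mul_left _ ht3)
        M he he3
      exact Or.inr ⟨he3, h1, h2⟩
    · omega

end CfsgLib.Char.FeitDegree.Main
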