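import Cfsg.Agent.Lib.Char.FeitDegree.Lattice

/-!
# Inducing a matrix representation from a subgroup

The restriction of the induced representation is stably the representation we started with when the
subgroup controls the trivial intersections of a Sylow subgroup of prime order.
-/

set_option autoImplicit false

open scoped Classical

namespace CfsgLib.Char.FeitDegree.Induce

open Matrix Stable

variable {G : Type*} [Group G] {N : Subgroup G} [Fintype (G ⧸ N)]
  {R : Type*} [CommRing R] {ι : Type*} [Fintype ι] [DecidableEq ι]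

/-- The element of `N` between two coset representatives. -/
noncomputable def gap (g : G) (q r : G ⧸ N) : N :=
  if h : q.out⁻¹ * g * r.out ∈ N then ⟨_, h⟩ else 1

omit [Fintype (G ⧸ N)] in
theorem smul_eq_iff (g : G) (q r : G ⧸ N) : g • r = q ↔ q.out⁻¹ * g * r.out ∈ N := by
  conv_lhs => rw [← QuotientGroup.out_eq' r, ← QuotientGroup.out_eq' q]
  rw [MulAction.Quotient.smul_mk, eq_comm, QuotientGroup.eq, smul_eq_mul, mul_assoc]

omit [Fintype (G ⧸ N)] in
theorem coe_gap {g : G} {q r : G ⧸ N} (h : g • r = q) : (gap g q r : G) = q.out⁻¹ * g * r.out := by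
  rw [gap, dif_pos ((smul_eq_iff g q r).1 h)]

omit [Fintype (G ⧸ N)] in
theorem gap_mul {g h : G} {q r s : G ⧸ N} (h1 : g • r = q) (h2 : h • s = r) :
    gap g q r * gap h r s = gap (g * h) q s := by
  refine Subtype.ext ?_
  rw [Subgroup.coe_mul, coe_gap h1, coe_gap h2, coe_gap (by rw [mul_smul, h2, h1])]
  group

/-- The entries of the induced representation. -/
noncomputable def mat (Y : N →* Matrix ι ι R) (g : G) : Matrix ((G ⧸ N) × ι) ((G ⧸ N) × ι) R :=
  fun w z => if g • z.1 = w.1 then Y (gap g w.1 z.1) w.2 z.2 else 0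

/-- The induced representation. -/
noncomputable def ind (Y : N →* Matrix ι ι R) : G →* Matrix ((G ⧸ N) × ι) ((G ⧸ N) × ι) R where
  toFun := mat Y
  map_one' := by
    ext ⟨q, i⟩ ⟨r, j⟩
    by_cases h : q = r
    · subst h
      have h1 : gap (1 : G) q q = 1 := Subtype.ext (by rw [coe_gap (one_smul _ _)]; simp)
      rw [mat, if_pos (one_smul _ _), h1, map_one]
      simp [Matrix.one_apply]
    · rw [mat, if_neg (by rw [one_smul]; exact Ne.symm h)]
      simp [Matrix.one_apply, h]
  map_mul' g h := by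
    ext ⟨q, i⟩ ⟨s, j⟩
    rw [Matrix.mul_apply, Fintype.sum_prod_type, Finset.sum_eq_single (h • s)
      (fun r _ hr => Finset.sum_eq_zero fun l _ => by simp only [mat, if_neg (Ne.symm hr), mul_zero])
      (fun hn => absurd (Finset.mem_univ _) hn)]
    by_cases hq : g • h • s = q
    · simp only [mat, if_pos hq, if_true, if_pos ((mul_smul g h s).trans hq)]
      rw [← Matrix.mul_apply, ← map_mul, gap_mul hq rfl]
    · simp only [mat, if_neg hq, zero_mul, Finset.sum_const_zero]
      rw [if_neg fun hh => hq ((mul_smul g h s).symm.trans hh)]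

theorem ind_apply (Y : N →* Matrix ι ι R) (g : G) : ind Y g = mat Y g := rfl

/-- The projection on a set of blocks. -/
noncomputable def proj (S : G ⧸ N → Prop) : Matrix ((G ⧸ N) × ι) ((G ⧸ N) × ι) R :=
  Matrix.diagonal fun w => if S w.1 then 1 else 0

theorem ind_proj (Y : N →* Matrix ι ι R) (g : G) (S : G ⧸ N → Prop) :
    ind Y g * proj S = proj (fun q => S (g⁻¹ • q)) * ind Y g := by
  ext w z
  rw [proj, proj, Matrix.mul_diagonal, Matrix.diagonal_mul, ind_apply, mat]
  by_cases h : g • z.1 = w.1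
  · rw [if_pos h, ← h, inv_smul_smul]
    split_ifs <;> simp
  · rw [if_neg h, mul_zero, zero_mul]

theorem trace_ind (Y : N →* Matrix ι ι R) (g : G) :
    (ind Y g).trace = ∑ q : G ⧸ N, if g • q = q then (Y (gap g q q)).trace else 0 := by
  rw [Matrix.trace, Fintype.sum_prod_type]
  refine Finset.sum_congr rfl fun q _ => ?_
  simp only [Matrix.diag, ind_apply, mat]
  split_ifs <;> simp [Matrix.trace, Matrix.diag]

/-! ### Trivial intersections -/

variable {P : Subgroup G}

omit [Fintype (G ⧸ N)] in
theorem eq_base [Fintype P] (L : Local R P N) {u : G} (hu : u ∈ P) (hu1 : u ≠ 1) {q : G ⧸ N} (h : u • q = q) :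
    q = ((1 : G) : G ⧸ N) := by
  rcases L.ti u hu q.out ((smul_eq_iff u q q).1 h) with h1 | h1
  · exact absurd h1 hu1
  · rw [← QuotientGroup.out_eq' q, QuotientGroup.eq]
    simpa using inv_mem h1

omit [Fintype (G ⧸ N)] in
theorem smul_base {n : G} (hn : n ∈ N) : n • ((1 : G) : G ⧸ N) = ((1 : G) : G ⧸ N) := by
  rw [MulAction.Quotient.smul_mk, QuotientGroup.eq]
  simpa using inv_mem hn

omit [Fintype (G ⧸ N)] in
theorem out_base_mem : ((1 : G) : G ⧸ N).out ∈ N := by
  obtain ⟨h, hh⟩ := QuotientGroup.mk_out_eq_mul N (1 : G)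
  rw [hh, one_mul]
  exact h.2

/-- The representative of the trivial coset. -/
noncomputable def cN (N : Subgroup G) : N := ⟨((1 : G) : G ⧸ N).out, out_base_mem⟩

omit [Fintype (G ⧸ N)] in
theorem gap_base (n : N) : gap (n : G) ((1 : G) : G ⧸ N) ((1 : G) : G ⧸ N) = (cN N)⁻¹ * n * cN N :=
  Subtype.ext (by rw [coe_gap (smul_base n.2)]; rfl)

/-- The trace of the induced representation at a nontrivial element of `P`. -/
theorem trace_ind_mem [Fintype P] (L : Local R P N) (Y : N →* Matrix ι ι R) {u : N} (hu : (u : G) ∈ P)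
    (hu1 : (u : G) ≠ 1) : (ind Y (u : G)).trace = (Y u).trace := by
  rw [trace_ind, Finset.sum_eq_single ((1 : G) : G ⧸ N)
    (fun q _ hq => if_neg fun h => hq (eq_base L hu hu1 h)) (fun h => absurd (Finset.mem_univ _) h),
    if_pos (smul_base u.2), gap_base, map_mul, map_mul, Matrix.trace_mul_cycle, Stable.mul_inv_eq_one,
    Matrix.one_mul]

/-- The inclusion of the trivial block. -/
noncomputable def incl (Y : N →* Matrix ι ι R) : Matrix ((G ⧸ N) × ι) ι R := fun w j =>
  if w.1 = ((1 : G) : G ⧸ N) then Y (cN N)⁻¹ w.2 j else 0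

/-- The projection to the trivial block. -/
noncomputable def down (Y : N →* Matrix ι ι R) : Matrix ι ((G ⧸ N) × ι) R := fun j w =>
  if w.1 = ((1 : G) : G ⧸ N) then Y (cN N) j w.2 else 0

theorem down_mul_incl (Y : N →* Matrix ι ι R) : down Y * incl Y = 1 := by
  ext i j
  rw [Matrix.mul_apply, Fintype.sum_prod_type, Finset.sum_eq_single ((1 : G) : G ⧸ N)
    (fun q _ hq => Finset.sum_eq_zero fun l _ => by simp only [down, if_neg hq, zero_mul])
    (fun h => absurd (Finset.mem_univ _) h)]
  simp only [down, incl, if_true]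
  rw [← Matrix.mul_apply, ← map_mul, mul_inv_cancel, map_one]

theorem incl_mul_down (Y : N →* Matrix ι ι R) :
    incl Y * down Y = proj fun q => q = ((1 : G) : G ⧸ N) := by
  ext ⟨q, i⟩ ⟨r, j⟩
  rw [Matrix.mul_apply, proj, Matrix.diagonal_apply]
  by_cases hq : q = ((1 : G) : G ⧸ N)
  · by_cases hr : r = ((1 : G) : G ⧸ N)
    · simp only [incl, down, hq, hr, if_true, Prod.mk.injEq, true_and]
      rw [← Matrix.mul_apply, ← map_mul, inv_mul_cancel, map_one, Matrix.one_apply]
    · simp only [incl, down, hq, if_neg hr, mul_zero, Finset.sum_const_zero, Prod.mk.injEq,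
        show ¬ ((1 : G) : G ⧸ N) = r from Ne.symm hr, false_and, if_false]
  · simp [incl, hq]

theorem isEq_incl (Y : N →* Matrix ι ι R) : IsEq Y ((ind Y).comp N.subtype) (incl Y) := fun n => by
  ext ⟨q, i⟩ j
  rw [Matrix.mul_apply, Fintype.sum_prod_type, Finset.sum_eq_single ((1 : G) : G ⧸ N)
    (fun r _ hr => Finset.sum_eq_zero fun l _ => by simp only [incl, if_neg hr, mul_zero])
    (fun h => absurd (Finset.mem_univ _) h)]
  simp only [MonoidHom.comp_apply, Subgroup.coe_subtype, ind_apply, mat, incl, if_true, smul_base n.2]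
  by_cases hq : q = ((1 : G) : G ⧸ N)
  · subst hq
    simp only [if_true, gap_base]
    rw [← Matrix.mul_apply, ← map_mul, mul_inv_cancel_right, Matrix.mul_apply]
    simp only [incl, if_true]
    rw [← Matrix.mul_apply, ← map_mul]
  · simp only [if_neg (Ne.symm hq), zero_mul, Finset.sum_const_zero]
    rw [Matrix.mul_apply]
    simp [incl, hq]

theorem isEq_down (Y : N →* Matrix ι ι R) : IsEq ((ind Y).comp N.subtype) Y (down Y) := fun n => by
  ext i ⟨r, j⟩
  rw [Matrix.mul_apply, Matrix.mul_apply]
  simp only [MonoidHom.comp_apply, Subgroup.coe_subtype]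
  rw [Fintype.sum_prod_type, Finset.sum_eq_single ((1 : G) : G ⧸ N)
    (fun q _ hq => Finset.sum_eq_zero fun l _ => by simp only [down, if_neg hq, zero_mul])
    (fun h => absurd (Finset.mem_univ _) h)]
  simp only [down, ind_apply, mat, if_true]
  by_cases hr : r = ((1 : G) : G ⧸ N)
  · subst hr
    simp only [if_true, gap_base, smul_base n.2]
    rw [← Matrix.mul_apply, ← Matrix.mul_apply, ← map_mul, ← map_mul]
    congr 2
    group
  · have hne : (n : G) • r ≠ ((1 : G) : G ⧸ N) := fun h =>
      hr (MulAction.injective (n : G) (h.trans (smul_base n.2).symm))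
    simp [hr, hne]

variable [Fintype G] [Fintype N] [Fintype P]

/-- The complement of the trivial block is a trace from the trivial subgroup. -/
theorem inI_off (L : Local R P N) (Y : N →* Matrix ι ι R) :
    InI ((ind Y).comp N.subtype) ((ind Y).comp N.subtype)
      (1 - proj (R := R) (ι := ι) fun q => q = ((1 : G) : G ⧸ N)) := by
  obtain ⟨c, hc⟩ := L.relIndex.exists_left_inv
  have hoff : (1 : Matrix ((G ⧸ N) × ι) ((G ⧸ N) × ι) R) - proj (fun q => q = ((1 : G) : G ⧸ N))
      = proj fun q => q ≠ ((1 : G) : G ⧸ N) := by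
    rw [proj, proj, ← Matrix.diagonal_one, Matrix.diagonal_sub]
    congr 1
    funext w
    by_cases h : w.1 = ((1 : G) : G ⧸ N) <;> simp [h]
  rw [hoff]
  let O : G ⧸ N → Quotient (MulAction.orbitRel P (G ⧸ N)) := Quotient.mk (MulAction.orbitRel P (G ⧸ N))
  let Rep : G ⧸ N → Prop := fun q => (O q).out = q ∧ q ≠ ((1 : G) : G ⧸ N)
  refine InI.of_sylow L.le hc (f₀ := proj Rep) (fun n => ?_) ?_
  · show ind Y (n : G) * _ = _ * ind Y (n : G)
    rw [ind_proj]
    congr 2
    funext q
    refine propext (not_congr ?_)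
    rw [inv_smul_eq_iff, smul_base n.2]
  · have hcj : ∀ u : P, cj ((ind Y).comp P.subtype) ((ind Y).comp P.subtype) u (proj Rep)
        = proj fun q => Rep ((u : G)⁻¹ • q) := fun u => by
      show ind Y (u : G) * proj Rep * ind Y ((u⁻¹ : P) : G) = _
      rw [ind_proj, Matrix.mul_assoc, ← map_mul, Subgroup.coe_inv, mul_inv_cancel, map_one, Matrix.mul_one]
    rw [trOne, Finset.sum_congr rfl fun u _ => hcj u]
    ext w z
    rw [Matrix.sum_apply]
    simp only [proj, Matrix.diagonal_apply]
    by_cases hwz : w = z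
    · subst hwz
      simp only [if_true]
      by_cases hb : w.1 = ((1 : G) : G ⧸ N)
      · rw [if_neg (not_not.2 hb), Finset.sum_eq_zero]
        intro u _
        rw [if_neg]
        rintro ⟨-, h2⟩
        exact h2 (by rw [hb, inv_smul_eq_iff, smul_base (L.le u.2)])
      · rw [if_pos hb]
        obtain ⟨u₀, hu₀⟩ : ∃ u : P, (u : G) • (O w.1).out = w.1 := by
          have h := Quotient.exact ((Quotient.out_eq (O w.1)).symm)
          obtain ⟨u, hu⟩ := h
          exact ⟨u, hu⟩
        have hinv : (u₀ : G)⁻¹ • w.1 = (O w.1).out := inv_smul_eq_iff.2 hu₀.symm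
        rw [Finset.sum_eq_single u₀ ?_ (fun h => absurd (Finset.mem_univ _) h), if_pos]
        · rw [hinv]
          refine ⟨?_, fun h => hb ?_⟩
          · exact congrArg Quotient.out (Quotient.out_eq (O w.1))
          · rw [← hu₀, h, smul_base (L.le u₀.2)]
        · intro u _ hu
          rw [if_neg]
          rintro ⟨h1, -⟩
          refine hu (Subtype.ext ?_)
          have hO : O ((u : G)⁻¹ • w.1) = O w.1 := Quotient.sound (s := MulAction.orbitRel P (G ⧸ N)) ⟨u⁻¹, rfl⟩
          rw [hO, ← hinv] at h1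
          by_contra hne
          have hfix : ((u : G) * (u₀ : G)⁻¹) • w.1 = w.1 := by
            rw [mul_smul, h1, smul_inv_smul]
          exact hb (eq_base L (mul_mem u.2 (inv_mem u₀.2)) (fun h => hne (mul_inv_eq_one.1 h)) hfix)
    · simp only [if_neg hwz, Finset.sum_const_zero]

/-- The restriction of the induced representation is stably the original one. -/
theorem stEq_ind (L : Local R P N) (Y : N →* Matrix ι ι R) : StEq ((ind Y).comp N.subtype) Y := by
  refine ⟨down Y, incl Y, isEq_down Y, isEq_incl Y, ?_, ?_⟩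
  · rw [incl_mul_down]
    exact inI_off L Y
  · rw [down_mul_incl, sub_self]
    exact InI.zero

/-- Reduction commutes with induction. -/
theorem red_ind {p : ℕ} {k : Type*} [Field k] (Ψ : Lattice.Sys p R k) (Y : N →* Matrix ι ι R) :
    Lattice.redRep Ψ (ind Y) = ind (Lattice.redRep Ψ Y) := by
  ext g w z
  simp only [Lattice.redRep_apply, Lattice.red, Matrix.map_apply, ind_apply, mat]
  split_ifs <;> simp

omit [Fintype G] in
theorem scalarAt_ind (Y : N →* Matrix ι ι R) {z : G} (hz : z ∈ Subgroup.center G) (hzN : z ∈ N)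
    {c : R} (h : Y ⟨z, hzN⟩ = c • 1) : ind Y z = c • 1 := by
  have hfix : ∀ q : G ⧸ N, z • q = q := fun q => by
    rw [← QuotientGroup.out_eq' q, MulAction.Quotient.smul_mk, QuotientGroup.eq, smul_eq_mul,
      ← Subgroup.mem_center_iff.1 hz q.out, _root_.mul_inv_rev]
    simpa [mul_assoc] using inv_mem hzN
  ext ⟨q, i⟩ ⟨r, j⟩
  simp only [ind_apply, mat, hfix, Matrix.smul_apply, Matrix.one_apply, Prod.mk.injEq]
  by_cases hqr : r = q
  · subst hqr
    have hg : gap z r r = (⟨z, hzN⟩ : N) := Subtype.ext (by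
      rw [coe_gap (hfix r), mul_assoc, ← Subgroup.mem_center_iff.1 hz r.out, inv_mul_cancel_left])
    rw [if_pos rfl, hg, h]
    simp [Matrix.one_apply]
  · rw [if_neg hqr]
    simp [Ne.symm hqr]

end CfsgLib.Char.FeitDegree.Induce
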