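import Cfsg.Agent.Lib.Char.FeitDegree.Stable
import Cfsg.Agent.Lib.BrouePuig.IdemLift
import Cfsg.Agent.Lib.Blocks.ResidueAlgebra

/-!
# Lattices as matrix representations over a local ring with split residue algebra

Projective summands of the reduction lift to summands of the lattice, and their characters vanish
at the elements of order `p`; lattices with isomorphic reductions agree on `p`-regular elements.
-/

set_option autoImplicit false

namespace CfsgLib.Char.FeitDegree.Lattice

open Matrix Polynomial Stable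
open CfsgLib.BrouePuig (exists_idem_lift exists_spectral commute_aeval)

/-- A local ring with a split residue field of characteristic `p` and a primitive `p`-th root of unity. -/
structure Sys (p : ℕ) (R k : Type*) [CommRing R] [Field k] where
  π : R →+* k
  surj : Function.Surjective π
  unit : ∀ r, π r ≠ 0 → IsUnit r
  split : ∀ f : R[X], f.Monic → ∃ s : Multiset R, f = (s.map fun r => Polynomial.X - C r).prod
  ω : R
  ω_pow : ω ^ p = 1
  ω_ne : ω ≠ 1
  charP : CharP k p

variable {p : ℕ} {R k : Type*} [CommRing R] [Field k] (Ψ : Sys p R k)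

/-- The reduction of a matrix. -/
def red {ι κ : Type*} (A : Matrix ι κ R) : Matrix ι κ k := A.map Ψ.π

theorem red_mul {ι κ μ : Type*} [Fintype κ] (A : Matrix ι κ R) (B : Matrix κ μ R) :
    red Ψ (A * B) = red Ψ A * red Ψ B := Matrix.map_mul

theorem red_one {ι : Type*} [DecidableEq ι] : red Ψ (1 : Matrix ι ι R) = 1 :=
  Matrix.map_one _ (map_zero _) (map_one _)

theorem red_add {ι κ : Type*} (A B : Matrix ι κ R) : red Ψ (A + B) = red Ψ A + red Ψ B := by
  ext i j; simp [red]

theorem red_sub {ι κ : Type*} (A B : Matrix ι κ R) : red Ψ (A - B) = red Ψ A - red Ψ B := by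
  ext i j; simp [red]

theorem red_smul {ι κ : Type*} (c : R) (A : Matrix ι κ R) : red Ψ (c • A) = Ψ.π c • red Ψ A := by
  ext i j; simp [red]

theorem red_sum {ι κ α : Type*} (s : Finset α) (f : α → Matrix ι κ R) :
    red Ψ (∑ a ∈ s, f a) = ∑ a ∈ s, red Ψ (f a) := by
  ext i j; simp [red, Matrix.sum_apply]

theorem red_surj {ι κ : Type*} (A : Matrix ι κ k) : ∃ B : Matrix ι κ R, red Ψ B = A :=
  ⟨fun i j => (Ψ.surj (A i j)).choose, by ext i j; exact (Ψ.surj (A i j)).choose_spec⟩

theorem trace_red {ι : Type*} [Fintype ι] (A : Matrix ι ι R) : Ψ.π A.trace = (red Ψ A).trace := by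
  simp [red, Matrix.trace, map_sum]

section Alg

variable {ι : Type*} [Fintype ι] [DecidableEq ι]

theorem isUnit_of_red {A : Matrix ι ι R} (h : IsUnit (red Ψ A)) : IsUnit A := by
  rw [Matrix.isUnit_iff_isUnit_det] at h ⊢
  refine Ψ.unit _ fun h0 => h.ne_zero ?_
  rw [show red Ψ A = Ψ.π.mapMatrix A from rfl, ← RingHom.map_det, h0]

theorem isUnit_of_red_one {A : Matrix ι ι R} (h : red Ψ A = 1) : IsUnit A :=
  isUnit_of_red Ψ (h ▸ isUnit_one)

include Ψ in
/-- Idempotents with the same reduction have the same trace. -/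
theorem trace_eq_of_red_eq {F F' : Matrix ι ι R} (hF : IsIdempotentElem F) (hF' : IsIdempotentElem F')
    (h : red Ψ F = red Ψ F') : F.trace = F'.trace := by
  set u := F * F' + (1 - F) * (1 - F')
  have hidem : red Ψ F' * red Ψ F' = red Ψ F' := by rw [← red_mul, hF'.eq]
  obtain ⟨v, hv⟩ : IsUnit u := isUnit_of_red_one Ψ (by
    rw [red_add, red_mul, red_mul, red_sub, red_sub, red_one, h, hidem, Matrix.sub_mul, Matrix.one_mul,
      Matrix.mul_sub, Matrix.mul_one, hidem, sub_self, sub_zero, add_sub_cancel])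
  have e : F * u = u * F' := by
    simp only [u, Matrix.mul_add, Matrix.add_mul, Matrix.mul_assoc, Matrix.sub_mul, Matrix.mul_sub,
      Matrix.one_mul, Matrix.mul_one, hF'.eq]
    simp only [← Matrix.mul_assoc, hF.eq]
    abel
  rw [← hv] at e
  have e2 : F = (v : Matrix ι ι R) * F' * (↑v⁻¹ : Matrix ι ι R) := by
    rw [← e, Matrix.mul_assoc, Units.mul_inv, Matrix.mul_one]
  rw [e2, Matrix.trace_units_conj]

end Alg

section Split

variable [IsLocalRing R]

/-- A split idempotent matrix. -/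
theorem exists_split {ι : Type*} [Fintype ι] [DecidableEq ι] {e : Matrix ι ι R} (he : IsIdempotentElem e) :
    ∃ (m : ℕ) (i : Matrix ι (Fin m) R) (r : Matrix (Fin m) ι R), r * i = 1 ∧ i * r = e := by
  set f := Matrix.toLin' e
  have hff : f.comp f = f := by rw [← Matrix.toLin'_mul, he.eq]
  set L := LinearMap.range f
  let pr : (ι → R) →ₗ[R] L := f.rangeRestrict
  have hpr : pr.comp L.subtype = LinearMap.id := by
    refine LinearMap.ext fun x => Subtype.ext ?_
    obtain ⟨_, ⟨y, rfl⟩⟩ := x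
    exact LinearMap.congr_fun hff y
  haveI : Module.Projective R L := Module.Projective.of_split L.subtype pr hpr
  haveI : Module.Finite R L := Module.Finite.range f
  haveI : Module.Free R L := Module.free_of_flat_of_isLocalRing
  let b := Module.finBasis R L
  refine ⟨_, LinearMap.toMatrix b (Pi.basisFun R ι) L.subtype, LinearMap.toMatrix (Pi.basisFun R ι) b pr, ?_, ?_⟩
  · rw [← LinearMap.toMatrix_comp b (Pi.basisFun R ι) b, hpr, LinearMap.toMatrix_id]
  · rw [← LinearMap.toMatrix_comp (Pi.basisFun R ι) b (Pi.basisFun R ι), show L.subtype.comp pr = f from LinearMap.ext fun _ => rfl]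
    rw [LinearMap.toMatrix_eq_toMatrix', LinearMap.toMatrix'_toLin']

end Split

variable {G : Type*} [Group G]

/-- The reduction of a representation. -/
def redRep {ι : Type*} [Fintype ι] [DecidableEq ι] (S : G →* Matrix ι ι R) : G →* Matrix ι ι k :=
  (Ψ.π.mapMatrix : Matrix ι ι R →+* Matrix ι ι k).toMonoidHom.comp S

theorem redRep_apply {ι : Type*} [Fintype ι] [DecidableEq ι] (S : G →* Matrix ι ι R) (g : G) :
    redRep Ψ S g = red Ψ (S g) := rfl

section Maps

variable {ι κ : Type*} [Fintype ι] [DecidableEq ι] [Fintype κ] [DecidableEq κ]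
  {S : G →* Matrix ι ι R} {T : G →* Matrix κ κ R}

theorem red_cj (g : G) (f : Matrix κ ι R) :
    red Ψ (cj S T g f) = cj (redRep Ψ S) (redRep Ψ T) g (red Ψ f) := by
  rw [cj, cj, red_mul, red_mul]; rfl

theorem red_trOne [Fintype G] (f : Matrix κ ι R) :
    red Ψ (trOne S T f) = trOne (redRep Ψ S) (redRep Ψ T) (red Ψ f) := by
  rw [trOne, trOne, red_sum]; exact Finset.sum_congr rfl fun g _ => red_cj Ψ g f

theorem IsEq.red {f : Matrix κ ι R} (h : IsEq S T f) : IsEq (redRep Ψ S) (redRep Ψ T) (red Ψ f) :=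
  fun g => by rw [redRep_apply, redRep_apply, ← red_mul, ← red_mul, h g]

end Maps

/-- The representation on a split summand. -/
def corner {ι κ : Type*} [Fintype ι] [DecidableEq ι] [Fintype κ] [DecidableEq κ] (S : G →* Matrix ι ι R)
    (i : Matrix ι κ R) (r : Matrix κ ι R) (hri : r * i = 1) (h : IsEq S S (i * r)) : G →* Matrix κ κ R where
  toFun g := r * S g * i
  map_one' := by simp [hri]
  map_mul' g g' := by
    calc r * S (g * g') * i = r * (i * r) * (S g * S g') * i := by
          rw [← Matrix.mul_assoc r i r, hri, Matrix.one_mul, map_mul]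
      _ = r * ((i * r) * S g) * S g' * i := by simp only [Matrix.mul_assoc]
      _ = r * (S g * (i * r)) * S g' * i := by rw [← h g]
      _ = r * S g * i * (r * S g' * i) := by simp only [Matrix.mul_assoc]

theorem trace_corner {ι κ : Type*} [Fintype ι] [DecidableEq ι] [Fintype κ] [DecidableEq κ]
    {S : G →* Matrix ι ι R} {i : Matrix ι κ R} {r : Matrix κ ι R} (hri : r * i = 1) (h : IsEq S S (i * r))
    (g : G) : (corner S i r hri h g).trace = (S g * (i * r)).trace := by
  show (r * S g * i).trace = _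
  rw [Matrix.mul_assoc, Matrix.trace_mul_comm, Matrix.mul_assoc]

theorem isEq_corner {ι κ : Type*} [Fintype ι] [DecidableEq ι] [Fintype κ] [DecidableEq κ]
    {S : G →* Matrix ι ι R} {i : Matrix ι κ R} {r : Matrix κ ι R} (hri : r * i = 1) (h : IsEq S S (i * r)) :
    IsEq (corner S i r hri h) S i ∧ IsEq S (corner S i r hri h) r := by
  refine ⟨fun g => ?_, fun g => ?_⟩
  · calc S g * i = S g * (i * r) * i := by rw [Matrix.mul_assoc (S g), Matrix.mul_assoc i, hri, Matrix.mul_one]
      _ = i * r * S g * i := by rw [h g]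
      _ = i * (r * S g * i) := by simp only [Matrix.mul_assoc]
  · calc r * S g * i * r = r * (S g * (i * r)) := by simp only [Matrix.mul_assoc]
      _ = r * (i * r * S g) := by rw [h g]
      _ = r * S g := by rw [← Matrix.mul_assoc, ← Matrix.mul_assoc r, hri, Matrix.one_mul]

variable [Fintype G]

section Vanish

variable [CharZero R] [IsDomain R] [hp : Fact p.Prime]

include Ψ in
/-- The trace of an element of order `p` on a trace idempotent is zero. -/
theorem trace_mul_eq_zero {ι : Type*} [Fintype ι] [DecidableEq ι] {S : G →* Matrix ι ι R} {E : Matrix ι ι R}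
    (hE : IsIdempotentElem E) (hEq : IsEq S S E) (hI : InI (redRep Ψ S) (redRep Ψ S) (red Ψ E))
    {x : G} (hx : orderOf x = p) {a : ℕ} (ha : ¬ p ∣ a) : (S (x ^ a) * E).trace = 0 := by
  classical
  set X := S x with hXdef
  have hXp : X ^ p = 1 := by rw [hXdef, ← map_pow, ← hx, pow_orderOf_eq_one, map_one]
  have hXE : Commute X E := hEq x
  -- an exact trace from the subgroup generated by `x`
  obtain ⟨h, hh, hhE, hEh'⟩ : ∃ h : Matrix ι ι R,
      ∑ i ∈ Finset.range p, X ^ i * h * X ^ (p - i) = E ∧ h * E = h ∧ E * h = h := by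
    set H := Subgroup.zpowers x
    letI : Fintype H := Fintype.ofFinite _
    obtain ⟨f, hf⟩ := hI
    obtain ⟨fl, hfl⟩ := red_surj Ψ f
    -- collect the right cosets
    obtain ⟨f', hf'⟩ := exists_trOne_restrict H (S := S) (T := S) fl
    set T0 := trOne (S.comp H.subtype) (S.comp H.subtype) f'
    have hT0 : red Ψ T0 = red Ψ E := by rw [show T0 = _ from hf', red_trOne, hfl, hf]
    set U0 := E * T0 * E + (1 - E)
    have hT0eq : ∀ u : H, Commute (S u) T0 := fun u => trOne_isEq (S := S.comp H.subtype) (T := S.comp H.subtype) f' u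
    have hEE : red Ψ E * red Ψ E = red Ψ E := by rw [← red_mul, hE.eq]
    obtain ⟨v, hv⟩ : IsUnit U0 := isUnit_of_red_one Ψ (by
      rw [red_add, red_sub, red_mul, red_mul, hT0, red_one, hEE, hEE, add_sub_cancel])
    have hU0x : ∀ u : H, Commute (S u) U0 := fun u => by
      have hc : Commute (S u) E := hEq u
      exact ((hc.mul_right (hT0eq u)).mul_right hc).add_right ((Commute.one_right _).sub_right hc)
    have key : E = E * T0 * E * (↑v⁻¹ : Matrix ι ι R) := by
      have h1 : E * U0 = E * T0 * E := by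
        simp only [U0, Matrix.mul_add, Matrix.mul_sub, Matrix.mul_one, ← Matrix.mul_assoc, hE.eq, sub_self, add_zero]
      rw [← h1, ← hv, Matrix.mul_assoc, Units.mul_inv, Matrix.mul_one]
    have hvE : Commute E (↑v⁻¹ : Matrix ι ι R) := (show Commute E (v : Matrix ι ι R) by
      rw [hv]
      refine Commute.add_right ?_ ((Commute.one_right E).sub_right rfl)
      show E * (E * T0 * E) = E * T0 * E * E
      rw [← Matrix.mul_assoc, ← Matrix.mul_assoc, hE.eq, Matrix.mul_assoc (E * T0), hE.eq]).units_inv_right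
    refine ⟨E * f' * E * (↑v⁻¹ : Matrix ι ι R), ?_, ?_, ?_⟩
    rotate_left
    · rw [Matrix.mul_assoc, ← hvE.eq, ← Matrix.mul_assoc, Matrix.mul_assoc (E * f'), hE.eq]
    · simp only [← Matrix.mul_assoc, hE.eq]
    conv_rhs => rw [key]
    simp only [T0, trOne, Matrix.mul_sum, Matrix.sum_mul, cj, MonoidHom.comp_apply, Subgroup.coe_subtype]
    have hxH : ∀ i : ℕ, x ^ i ∈ H := fun i => pow_mem (Subgroup.mem_zpowers x) i
    refine Finset.sum_bij (fun i _ => (⟨x ^ i, hxH i⟩ : H)) (fun _ _ => Finset.mem_univ _) ?_ ?_ ?_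
    · intro i hi j hj e
      have := congrArg Subtype.val e
      simp only [pow_eq_pow_iff_modEq, hx] at this
      exact this.eq_of_lt_of_lt (Finset.mem_range.1 hi) (Finset.mem_range.1 hj)
    · rintro ⟨u, hu⟩ -
      obtain ⟨i, hi⟩ := (isOfFinOrder_of_finite x).mem_powers_iff_mem_zpowers.2 hu
      refine ⟨i % p, Finset.mem_range.2 (Nat.mod_lt _ hp.out.pos), Subtype.ext ?_⟩
      simpa [← hx, pow_mod_orderOf] using hi
    · intro i hi
      have hinv : X ^ (p - i) = S ((x ^ i)⁻¹) := by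
        rw [hXdef, ← map_pow]
        congr 1
        refine eq_inv_of_mul_eq_one_left ?_
        rw [← pow_add, Nat.sub_add_cancel (Finset.mem_range.1 hi).le, ← hx, pow_orderOf_eq_one]
      have c1 : Commute (S ((x ^ i)⁻¹)) (↑v⁻¹ : Matrix ι ι R) :=
        (show Commute (S ((x ^ i)⁻¹)) (v : Matrix ι ι R) from
          hv.symm ▸ hU0x ⟨(x ^ i)⁻¹, inv_mem (hxH i)⟩).units_inv_right
      have c2 : Commute (S ((x ^ i)⁻¹)) E := hEq _
      have c3 : Commute (S (x ^ i)) E := hEq _
      show X ^ i * (E * f' * E * (↑v⁻¹ : Matrix ι ι R)) * X ^ (p - i)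
        = E * (S (x ^ i) * f' * S ((x ^ i)⁻¹)) * E * (↑v⁻¹ : Matrix ι ι R)
      rw [hinv, hXdef, ← map_pow]
      simp only [Matrix.mul_assoc]
      rw [← c1.eq, ← Matrix.mul_assoc E (S ((x ^ i)⁻¹)), ← c2.eq]
      simp only [← Matrix.mul_assoc]
      rw [c3.eq]
  -- the idempotents of the eigenspaces
  set ω := Ψ.ω with hωdef
  have hωp : ω ^ p = 1 := Ψ.ω_pow
  have hprim : IsPrimitiveRoot ω p :=
    IsPrimitiveRoot.iff_orderOf.2 (orderOf_eq_prime hωp Ψ.ω_ne)
  let Nk : ℕ → Matrix ι ι R := fun c => ∑ i ∈ Finset.range p, (ω ^ (c * i)) • X ^ i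
  have hXN : ∀ c i, X ^ i * Nk c = Nk c * X ^ i := fun c i => by
    simp only [Nk, Matrix.mul_sum, Matrix.sum_mul, Matrix.mul_smul, Matrix.smul_mul, ← pow_add, add_comm i]
  have hshift : ∀ c, ω ^ c • (X * Nk c) = Nk c := fun c => by
    simp only [Nk, Matrix.mul_sum, Finset.smul_sum, Matrix.mul_smul, smul_smul, ← pow_succ', ← pow_add]
    have h1 := Finset.sum_range_succ' (fun i => (ω ^ (c * i)) • X ^ i) p
    have h2 := Finset.sum_range_succ (fun i => (ω ^ (c * i)) • X ^ i) p
    have e : (ω ^ (c * p)) • X ^ p = (ω ^ (c * 0)) • X ^ 0 := by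
      rw [hXp, mul_comm c p, pow_mul, hωp, one_pow, mul_zero, pow_zero, pow_zero]
    simp only [show ∀ i, c + c * i = c * (i + 1) from fun i => by ring]
    exact add_right_cancel (b := (ω ^ (c * 0)) • X ^ 0) (by rw [← h1, h2, e])
  have hpow : ∀ c i, ω ^ (c * i) • (X ^ i * Nk c) = Nk c := fun c i => by
    induction i with
    | zero => simp
    | succ i ih =>
      rw [pow_succ, Matrix.mul_assoc, show c * (i + 1) = c * i + c by ring, pow_add, mul_smul,
        ← Matrix.mul_smul, hshift, ih]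
  have hEN : ∀ c, Nk c * h * Nk c = Nk c * E := fun c => by
    rw [show Nk c * E = E * Nk c by
      simp only [Nk, Matrix.mul_sum, Matrix.sum_mul, Matrix.mul_smul, Matrix.smul_mul, (hXE.pow_left _).eq]]
    conv_rhs => rw [← hh]
    show (∑ i ∈ Finset.range p, (ω ^ (c * i)) • X ^ i) * h * Nk c = _
    rw [Matrix.sum_mul, Matrix.sum_mul, Matrix.sum_mul]
    refine Finset.sum_congr rfl fun i hi => ?_
    have e1 : X ^ (p - i) * Nk c = ω ^ (c * i) • Nk c := by
      conv_rhs => rw [← hpow c (p - i), smul_smul, ← pow_add, ← Nat.mul_add,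
        Nat.add_sub_cancel' (Finset.mem_range.1 hi).le, mul_comm c p, pow_mul, hωp, one_pow, one_smul]
    rw [Matrix.smul_mul, Matrix.smul_mul, Matrix.mul_assoc _ (X ^ (p - i)), e1, Matrix.mul_smul]
  have hidem : ∀ c, IsIdempotentElem (Nk c * h) := fun c => by
    show Nk c * h * (Nk c * h) = _
    rw [← Matrix.mul_assoc, hEN, Matrix.mul_assoc, hEh']
  -- the eigenspaces have equal ranks
  haveI : CharP k p := Ψ.charP
  have hω1 : Ψ.π ω = 1 := by
    have h1 : (Ψ.π ω - 1) ^ p = 0 := by rw [sub_pow_char, one_pow, ← map_pow, hωp, map_one, sub_self]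
    exact sub_eq_zero.1 ((pow_eq_zero_iff hp.out.ne_zero).1 h1)
  have hredF : ∀ c, red Ψ (Nk c * h) = red Ψ (Nk 0 * h) := fun c => by
    simp only [red_mul, Nk, red_sum, red_smul, map_pow, hω1, one_pow]
  have htr : ∀ c, (Nk c * h).trace = (Nk 0 * h).trace := fun c =>
    trace_eq_of_red_eq Ψ (hidem c) (hidem 0) (hredF c)
  set b := a % p with hbdef
  have hb : b < p := Nat.mod_lt _ hp.out.pos
  have hb0 : b ≠ 0 := fun e => ha (Nat.dvd_of_mod_eq_zero e)
  have hXa : S (x ^ a) = X ^ b := by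
    rw [hXdef, ← map_pow, hbdef, ← hx, pow_mod_orderOf]
  have hgeo : ∀ m : ℕ, ∑ c ∈ Finset.range p, ω ^ (c * m) = if p ∣ m then (p : R) else 0 := fun m => by
    simp only [mul_comm _ m, pow_mul]
    split_ifs with hm
    · rw [(hprim.pow_eq_one_iff_dvd m).2 hm]; simp
    · have h1 : ω ^ m - 1 ≠ 0 := fun e => hm ((hprim.pow_eq_one_iff_dvd m).1 (sub_eq_zero.1 e))
      refine (mul_eq_zero.1 ?_).resolve_right h1
      rw [geom_sum_mul, ← pow_mul, mul_comm m p, pow_mul, hωp, one_pow, sub_self]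
  have hzero : ∑ c ∈ Finset.range p, ω ^ (c * (p - b)) * (Nk c * h).trace = (p : R) * (X ^ b * h).trace := by
    simp only [Nk, Matrix.sum_mul, Matrix.trace_sum, Matrix.smul_mul, Matrix.trace_smul, smul_eq_mul,
      Finset.mul_sum, ← mul_assoc, ← pow_add, ← Nat.mul_add]
    rw [Finset.sum_comm]
    simp only [← Finset.sum_mul, hgeo]
    rw [Finset.sum_eq_single b]
    · rw [if_pos ⟨1, by omega⟩]
    · intro i hi hne
      rw [if_neg, zero_mul]
      rintro ⟨q, hq⟩
      have := Finset.mem_range.1 hi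
      rcases Nat.lt_or_ge q 2 with h2 | h2
      · rcases (by omega : q = 0 ∨ q = 1) with rfl | rfl <;> omega
      · have : p * 2 ≤ p * q := Nat.mul_le_mul_left _ h2
        omega
    · exact fun h => absurd (Finset.mem_range.2 hb) h
  simp only [htr, ← Finset.sum_mul, hgeo] at hzero
  rw [if_neg (fun h => absurd (Nat.le_of_dvd (by omega) h) (by omega)), zero_mul] at hzero
  have hp0 : (p : R) ≠ 0 := Nat.cast_ne_zero.2 hp.out.ne_zero
  have hzero' : (X ^ b * h).trace = 0 := (mul_eq_zero.1 hzero.symm).resolve_left hp0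
  rw [hXa, ← hh, Matrix.mul_sum, Matrix.trace_sum]
  refine Finset.sum_eq_zero fun i hi => ?_
  rw [Matrix.trace_mul_comm, Matrix.mul_assoc, Matrix.trace_mul_comm]
  have e : X ^ (p - i) * X ^ b * X ^ i = X ^ b := by
    rw [← pow_add, ← pow_add, show p - i + b + i = p + b by
      have := Finset.mem_range.1 hi; omega, pow_add, hXp, Matrix.one_mul]
  simp only [← Matrix.mul_assoc]
  rw [e, hzero']

end Vanish

section Strip

variable [CharZero R] [IsDomain R] [hp : Fact p.Prime] [IsLocalRing R]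

/-- A central scalar. -/
def ScalarAt {ι : Type*} [DecidableEq ι] [Fintype ι] (S : G →* Matrix ι ι R) (z : G) (c : R) : Prop :=
  S z = c • 1

omit [Fintype G] [CharZero R] [IsDomain R] [IsLocalRing R] hp in
theorem scalarAt_corner {ι κ : Type*} [Fintype ι] [DecidableEq ι] [Fintype κ] [DecidableEq κ]
    {S : G →* Matrix ι ι R} {i : Matrix ι κ R} {r : Matrix κ ι R} (hri : r * i = 1) (h : IsEq S S (i * r))
    {z : G} {c : R} (hz : ScalarAt S z c) : ScalarAt (corner S i r hri h) z c := by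
  show r * S z * i = c • 1
  rw [hz, Matrix.mul_smul, Matrix.mul_one, Matrix.smul_mul, hri]

/-- Reindexing. -/
def reindexRep {ι κ : Type*} [Fintype ι] [DecidableEq ι] [Fintype κ] [DecidableEq κ] (e : ι ≃ κ)
    (S : G →* Matrix ι ι R) : G →* Matrix κ κ R :=
  (Matrix.reindexAlgEquiv R R e).toAlgHom.toMonoidHom.comp S

omit [Fintype G] [CharZero R] [IsDomain R] [IsLocalRing R] hp in
theorem trace_reindexRep {ι κ : Type*} [Fintype ι] [DecidableEq ι] [Fintype κ] [DecidableEq κ] (e : ι ≃ κ)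
    (S : G →* Matrix ι ι R) (g : G) : (reindexRep e S g).trace = (S g).trace := by
  show ∑ i, S g (e.symm i) (e.symm i) = ∑ i, S g i i
  exact Fintype.sum_equiv e.symm _ _ fun _ => rfl

omit [CharZero R] [IsDomain R] [IsLocalRing R] hp in
theorem trace_dsum {ι κ : Type*} [Fintype ι] [DecidableEq ι] [Fintype κ] [DecidableEq κ]
    (S : G →* Matrix ι ι R) (T : G →* Matrix κ κ R) (g : G) :
    (dsum S T g).trace = (S g).trace + (T g).trace := by
  simp [dsum_apply, Matrix.trace, Fintype.sum_sum_type]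

include Ψ in
/-- Every lattice is a lattice without projective summand plus one that vanishes at the elements
of order `p`. -/
theorem exists_strip {n : ℕ} (S : G →* Matrix (Fin n) (Fin n) R) :
    ∃ (m m' : ℕ) (X : G →* Matrix (Fin m) (Fin m) R) (Q : G →* Matrix (Fin m') (Fin m') R),
      IsFreeRep (redRep Ψ X) ∧ StEq (redRep Ψ S) (redRep Ψ X) ∧
      (∀ g, (S g).trace = (X g).trace + (Q g).trace) ∧
      (∀ x : G, orderOf x = p → ∀ a : ℕ, ¬ p ∣ a → (Q (x ^ a)).trace = 0) ∧
      ∀ z c, ScalarAt S z c → ScalarAt X z c ∧ ScalarAt Q z c := by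
  classical
  induction n using Nat.strong_induction_on with
  | _ n ih =>
  by_cases hfree : IsFreeRep (redRep Ψ S)
  · refine ⟨n, 0, S, 1, hfree, StEq.refl, fun g => by simp [Matrix.trace], fun _ _ _ _ => by simp [Matrix.trace],
      fun z c hz => ⟨hz, ?_⟩⟩
    ext i j; exact i.elim0
  obtain ⟨i₀, hi₀, hnu⟩ : ∃ i, InI (redRep Ψ S) (redRep Ψ S) i ∧ ¬ IsUnit (1 + i) := by
    simpa [IsFreeRep] using hfree
  obtain ⟨N, h, hN, hidem, hnil⟩ := exists_spectral (k := k) i₀
  set ε := i₀ ^ N * aeval i₀ h with hε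
  have hεne : ε ≠ 0 := fun e => by
    rw [e, sub_zero, Matrix.mul_one] at hnil
    exact hnu (IsNilpotent.isUnit_one_add ⟨N, hnil⟩)
  have hεI : InI (redRep Ψ S) (redRep Ψ S) ε := by
    obtain ⟨M', rfl⟩ : ∃ M', N = M' + 1 := ⟨N - 1, by omega⟩
    have hc : IsEq (redRep Ψ S) (redRep Ψ S) (i₀ ^ M' * aeval i₀ h) := fun g => by
      have := hi₀.isEq g
      exact ((show Commute _ i₀ from this).pow_right _).mul_right
        (commute_aeval (show Commute _ i₀ from this) h)
    rw [hε, pow_succ', Matrix.mul_assoc]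
    exact InI.mul_right hc hi₀
  obtain ⟨f, hf⟩ := hεI
  obtain ⟨fl, hfl⟩ := red_surj Ψ f
  set a := trOne S S fl
  have hra : red Ψ a = ε := by rw [red_trOne, hfl, hf]
  obtain ⟨q, hEid, hEred⟩ := exists_idem_lift Ψ.π (Ψ.π.mapMatrix : Matrix (Fin n) (Fin n) R →+* _)
    (fun r A => red_smul Ψ r A) Ψ.unit Ψ.split (a := a) (by
      show red Ψ a * red Ψ a = red Ψ a
      rw [hra]; exact hidem)
  set E := aeval a q
  replace hEred : red Ψ E = ε := hra ▸ hEred
  have hEeq : IsEq S S E := fun g => commute_aeval (show Commute (S g) a from trOne_isEq fl g) q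
  have h1E : IsEq S S (1 - E) := IsEq.one.sub hEeq
  obtain ⟨m, i, r, hri, hir⟩ := exists_split (R := R) hEid.one_sub
  obtain ⟨m₂, i₂, r₂, hri₂, hir₂⟩ := exists_split (R := R) hEid
  rw [← hir] at h1E
  have hE2 : IsEq S S (i₂ * r₂) := hir₂.symm ▸ hEeq
  set X := corner S i r hri h1E
  set Q := corner S i₂ r₂ hri₂ hE2
  have hsum : ∀ g, (S g).trace = (X g).trace + (Q g).trace := fun g => by
    rw [trace_corner, trace_corner, hir, hir₂, Matrix.mul_sub, Matrix.mul_one, Matrix.trace_sub, sub_add_cancel]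
  have hvan : ∀ x : G, orderOf x = p → ∀ a : ℕ, ¬ p ∣ a → (Q (x ^ a)).trace = 0 := fun x hx b hb => by
    rw [trace_corner, hir₂]
    exact trace_mul_eq_zero Ψ hEid hEeq (hEred ▸ ⟨f, hf⟩) hx hb
  have hst : StEq (redRep Ψ S) (redRep Ψ X) := by
    refine ⟨red Ψ r, red Ψ i, IsEq.red Ψ (isEq_corner hri h1E).2, IsEq.red Ψ (isEq_corner hri h1E).1, ?_, ?_⟩
    · rw [← red_mul, hir, red_sub, red_one, hEred, sub_sub_cancel]
      exact ⟨f, hf⟩
    · rw [← red_mul, hri, red_one, sub_self]
      exact InI.zero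
  have hmn : m < n := by
    have h2 := hsum 1
    simp only [map_one, Matrix.trace_one, Fintype.card_fin] at h2
    have hm2 : m₂ ≠ 0 := fun e => hεne (by
      subst e
      rw [← hEred, ← hir₂, show i₂ = 0 from by ext x y; exact y.elim0, Matrix.zero_mul]
      ext x y; simp [red])
    have h3 : n = m + m₂ := by exact_mod_cast h2
    omega
  obtain ⟨m₁, m₁', X', Q', hX'f, hX'st, hX'sum, hX'van, hX'sc⟩ := ih m hmn X
  refine ⟨m₁, m₁' + m₂, X', reindexRep finSumFinEquiv (dsum Q' Q), hX'f, hst.trans hX'st, fun g => ?_,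
    fun x hx b hb => ?_, fun z c hz => ?_⟩
  · rw [hsum, hX'sum]
    rw [trace_reindexRep, trace_dsum, add_assoc]
  · rw [trace_reindexRep, trace_dsum, hX'van x hx b hb, hvan x hx b hb, add_zero]
  · have hX := scalarAt_corner hri h1E hz
    obtain ⟨e1, e2⟩ := hX'sc z c hX
    refine ⟨e1, ?_⟩
    have e3 := scalarAt_corner hri₂ hE2 hz
    show (Matrix.reindexAlgEquiv R R finSumFinEquiv) (dsum Q' Q z) = c • 1
    rw [dsum_apply, e2, e3, show fromBlocks (c • 1 : Matrix (Fin m₁') (Fin m₁') R) 0 0 (c • 1 : Matrix (Fin m₂) (Fin m₂) R)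
      = c • (1 : Matrix (Fin m₁' ⊕ Fin m₂) (Fin m₁' ⊕ Fin m₂) R) by rw [← fromBlocks_one, fromBlocks_smul]; simp,
      map_smul, map_one]

omit [Fintype G] [CharZero R] [IsDomain R] [IsLocalRing R] hp in
theorem red_avg {H : Subgroup G} [Fintype H] {c : Rˣ} (hc : (c : R) = (Fintype.card H : R))
    {ι κ : Type*} [Fintype ι] [DecidableEq ι] [Fintype κ] [DecidableEq κ]
    (S : G →* Matrix ι ι R) (T : G →* Matrix κ κ R) (al : Matrix κ ι R)
    (h : IsEq (redRep Ψ S) (redRep Ψ T) (red Ψ al)) :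
    red Ψ ((↑c⁻¹ : R) • trOne (S.comp H.subtype) (T.comp H.subtype) al) = red Ψ al := by
  rw [red_smul, red_trOne, trOne, Finset.sum_congr rfl (g := fun _ => red Ψ al) fun u _ => ?_,
    Finset.sum_const, Finset.card_univ, ← Nat.cast_smul_eq_nsmul k, ← map_natCast Ψ.π (Fintype.card H),
    smul_smul, ← map_mul, ← hc, Units.inv_mul, map_one, one_smul]
  exact (isEq_iff_cj _).1 h (u : G)

include Ψ in
omit [CharZero R] [IsDomain R] [IsLocalRing R] hp in
/-- Lattices with isomorphic reductions have the same trace at elements of order prime to `p`. -/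
theorem trace_eq_of_iso {ι κ : Type*} [Fintype ι] [DecidableEq ι] [Fintype κ] [DecidableEq κ]
    (S : G →* Matrix ι ι R) (T : G →* Matrix κ κ R) {a : Matrix κ ι k} {b : Matrix ι κ k}
    (ha : IsEq (redRep Ψ S) (redRep Ψ T) a) (hba : b * a = 1) (hab : a * b = 1) {g : G}
    (hg : IsUnit ((orderOf g : ℕ) : R)) : (S g).trace = (T g).trace := by
  classical
  have hb : IsEq (redRep Ψ T) (redRep Ψ S) b := fun h => by
    calc redRep Ψ S h * b = b * a * (redRep Ψ S h * b) := by rw [hba, Matrix.one_mul]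
      _ = b * (a * redRep Ψ S h) * b := by simp only [Matrix.mul_assoc]
      _ = b * (redRep Ψ T h * a) * b := by rw [← ha h]
      _ = b * redRep Ψ T h * (a * b) := by simp only [Matrix.mul_assoc]
      _ = b * redRep Ψ T h := by rw [hab, Matrix.mul_one]
  set H := Subgroup.zpowers g
  letI : Fintype H := Fintype.ofFinite _
  obtain ⟨c, hc⟩ := hg
  have hcard : Fintype.card H = orderOf g := by rw [← Nat.card_eq_fintype_card, Nat.card_zpowers]
  obtain ⟨al, hal⟩ := red_surj Ψ a
  obtain ⟨bl, hbl⟩ := red_surj Ψ b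
  set A := (↑c⁻¹ : R) • trOne (S.comp H.subtype) (T.comp H.subtype) al
  set B := (↑c⁻¹ : R) • trOne (T.comp H.subtype) (S.comp H.subtype) bl
  have hAr : red Ψ A = a := (red_avg Ψ (by rw [hcard, hc]) S T al (hal.symm ▸ ha)).trans hal
  have hBr : red Ψ B = b := (red_avg Ψ (by rw [hcard, hc]) T S bl (hbl.symm ▸ hb)).trans hbl
  have hA : T g * A = A * S g := (trOne_isEq (S := S.comp H.subtype) (T := T.comp H.subtype) al).smul
    (↑c⁻¹ : R) ⟨g, Subgroup.mem_zpowers g⟩
  obtain ⟨u, hu⟩ : IsUnit (B * A) := isUnit_of_red_one Ψ (by rw [red_mul, hAr, hBr, hba])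
  obtain ⟨v, hv⟩ : IsUnit (A * B) := isUnit_of_red_one Ψ (by rw [red_mul, hAr, hBr, hab])
  have hl : ((↑u⁻¹ : Matrix ι ι R) * B) * A = 1 := by rw [Matrix.mul_assoc, ← hu]; exact u.inv_mul
  have hr : A * (B * (↑v⁻¹ : Matrix κ κ R)) = 1 := by rw [← Matrix.mul_assoc, ← hv]; exact v.mul_inv
  set l := (↑u⁻¹ : Matrix ι ι R) * B
  have hlr : A * l = 1 := by
    calc A * l = A * l * (A * (B * (↑v⁻¹ : Matrix κ κ R))) := by rw [hr, Matrix.mul_one]
      _ = A * (l * A) * (B * (↑v⁻¹ : Matrix κ κ R)) := by simp only [Matrix.mul_assoc]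
      _ = 1 := by rw [hl, Matrix.mul_one, hr]
  calc (S g).trace = (l * A * S g).trace := by rw [hl, Matrix.one_mul]
    _ = (l * (T g * A)).trace := by rw [hA, Matrix.mul_assoc]
    _ = (T g * A * l).trace := Matrix.trace_mul_comm _ _
    _ = (T g).trace := by rw [Matrix.mul_assoc, hlr, Matrix.mul_one]

end Strip

end CfsgLib.Char.FeitDegree.Lattice
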