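import Cfsg.Agent.Lib.Char.FeitDegree.Chains

/-!
# Translations of polynomials and the tensor square of a chain

The space of polynomials of degree less than `e` with `x` acting by translation is a chain of
length `e`; the tensor product of two of them is decomposed in two variables.
-/

set_option autoImplicit false

namespace CfsgLib.Char.FeitDegree.Translation

open Matrix Polynomial Stable Chains
open scoped Classical Kronecker

section OfSemi

variable {p : ℕ} [hp : Fact p.Prime] {N : Type*} [Group N] [Finite N] (Δ : Semi p N)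

omit hp [Finite N] in
theorem x_pow : Δ.x ^ p = 1 := orderOf_dvd_iff_pow_eq_one.1 (dvd_of_eq Δ.ord)

omit [Finite N] in
theorem eq_one_of_pow_eq {i : ℕ} {a : Δ.A} (h : Δ.x ^ i = (a : N)) : a = 1 := by
  have h1 : orderOf a ∣ p := orderOf_dvd_of_pow_eq_one (Subtype.ext (by
    rw [Subgroup.coe_pow, ← h, ← pow_mul, mul_comm, pow_mul, x_pow Δ, one_pow]; rfl))
  refine orderOf_eq_one_iff.1 (((Nat.dvd_prime hp.out).1 h1).resolve_right fun e => Δ.reg ?_)
  exact (dvd_of_eq e.symm).trans (orderOf_dvd_natCard a)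

theorem unique {i j : ℕ} {a b : Δ.A} (h : Δ.x ^ i * (a : N) = Δ.x ^ j * (b : N)) :
    a = b ∧ i ≡ j [MOD p] := by
  have hp0 : 0 < orderOf Δ.x := orderOf_pos _
  have h1 : Δ.x ^ (i + (orderOf Δ.x - 1) * j) = ((b * a⁻¹ : Δ.A) : N) := by
    rw [Subgroup.coe_mul, Subgroup.coe_inv, eq_mul_inv_iff_mul_eq, add_comm, pow_add, mul_assoc, h, ← mul_assoc,
      ← pow_add, show (orderOf Δ.x - 1) * j + j = orderOf Δ.x * j by
        conv_lhs => rw [← Nat.succ_mul]
        congr 1; omega, pow_mul, pow_orderOf_eq_one, one_pow, one_mul]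
  have h2 := mul_inv_eq_one.1 (eq_one_of_pow_eq Δ h1)
  refine ⟨h2.symm, ?_⟩
  rw [h2] at h
  have h3 := pow_eq_pow_iff_modEq.1 (mul_right_cancel h)
  have hord := Δ.ord
  simp only [hord] at h3
  exact h3

variable {R : Type*} [CommRing R] {ι : Type*} [Fintype ι] [DecidableEq ι]

/-- A representation of the semidirect product from its two parts. -/
noncomputable def ofSemi (X : Matrix ι ι R) (D : Δ.A →* Matrix ι ι R) (hX : X ^ p = 1)
    (hc : ∀ a, D a * X = X ^ ((Δ.ε a : (ZMod p)ˣ) : ZMod p).val * D a) : N →* Matrix ι ι R :=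
  have hmod : ∀ {i j : ℕ}, i ≡ j [MOD p] → X ^ i = X ^ j := fun {i j} h => by
    rw [← Nat.mod_add_div i p, ← Nat.mod_add_div j p, h, pow_add, pow_add, pow_mul, pow_mul, hX, one_pow, one_pow]
  have hcomm : ∀ a j, D a * X ^ j = X ^ (((Δ.ε a : (ZMod p)ˣ) : ZMod p).val * j) * D a := fun a j => by
    induction j with
    | zero => simp
    | succ j ih => rw [pow_succ, ← Matrix.mul_assoc, ih, Matrix.mul_assoc, hc, ← Matrix.mul_assoc, ← pow_add, ← Nat.mul_succ]
  have hval : ∀ (n : N) (i : ℕ) (a : Δ.A), n = Δ.x ^ i * a →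
      X ^ (Δ.decomp n).choose * D (Δ.decomp n).choose_spec.choose = X ^ i * D a := fun n i a h => by
    obtain ⟨e1, e2⟩ := unique Δ ((Δ.decomp n).choose_spec.choose_spec.symm.trans h)
    rw [e1, hmod e2]
  { toFun := fun n => X ^ (Δ.decomp n).choose * D (Δ.decomp n).choose_spec.choose
    map_one' := by rw [hval 1 0 1 (by simp)]; simp
    map_mul' := fun n n' => by
      obtain ⟨i, a, rfl⟩ := Δ.decomp n
      obtain ⟨j, b, rfl⟩ := Δ.decomp n'
      have e : Δ.x ^ i * (a : N) * (Δ.x ^ j * (b : N))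
          = Δ.x ^ (i + ((Δ.ε a : (ZMod p)ˣ) : ZMod p).val * j) * ((a * b : Δ.A) : N) := by
        rw [pow_add, pow_mul, ← Δ.conj, _root_.conj_pow, Subgroup.coe_mul]
        group
      rw [hval _ _ _ rfl, hval _ _ _ rfl, hval _ _ _ e, map_mul, pow_add, Matrix.mul_assoc (X ^ i),
        Matrix.mul_assoc (X ^ i), ← Matrix.mul_assoc _ (D a) (D b), ← hcomm]
      simp only [Matrix.mul_assoc] }

theorem ofSemi_mul {X : Matrix ι ι R} {D : Δ.A →* Matrix ι ι R} (hX : X ^ p = 1)
    (hc : ∀ a, D a * X = X ^ ((Δ.ε a : (ZMod p)ˣ) : ZMod p).val * D a) (i : ℕ) (a : Δ.A) :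
    ofSemi Δ X D hX hc (Δ.x ^ i * (a : N)) = X ^ i * D a := by
  obtain ⟨e1, e2⟩ := unique Δ (Δ.decomp (Δ.x ^ i * (a : N))).choose_spec.choose_spec.symm
  show X ^ _ * D _ = _
  rw [e1]
  congr 1
  generalize (Δ.decomp (Δ.x ^ i * (a : N))).choose = i' at e2 ⊢
  rw [← Nat.mod_add_div i p, ← Nat.mod_add_div i' p, e2, pow_add, pow_add, pow_mul, pow_mul, hX,
    one_pow, one_pow]

theorem ofSemi_x {X : Matrix ι ι R} {D : Δ.A →* Matrix ι ι R} (hX : X ^ p = 1)
    (hc : ∀ a, D a * X = X ^ ((Δ.ε a : (ZMod p)ˣ) : ZMod p).val * D a) : ofSemi Δ X D hX hc Δ.x = X := by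
  simpa using ofSemi_mul Δ hX hc 1 1

theorem ofSemi_A {X : Matrix ι ι R} {D : Δ.A →* Matrix ι ι R} (hX : X ^ p = 1)
    (hc : ∀ a, D a * X = X ^ ((Δ.ε a : (ZMod p)ˣ) : ZMod p).val * D a) (a : Δ.A) :
    ofSemi Δ X D hX hc (a : N) = D a := by
  simpa using ofSemi_mul Δ hX hc 0 a

end OfSemi

section Kron

variable {R : Type*} [CommRing R] {G : Type*} [Group G]
  {ι κ : Type*} [Fintype ι] [DecidableEq ι] [Fintype κ] [DecidableEq κ]

/-- The tensor product. -/
def kronRep (S : G →* Matrix ι ι R) (T : G →* Matrix κ κ R) : G →* Matrix (ι × κ) (ι × κ) R where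
  toFun g := S g ⊗ₖ T g
  map_one' := by simp
  map_mul' g h := by rw [map_mul, map_mul, Matrix.mul_kronecker_mul]

theorem kronRep_apply (S : G →* Matrix ι ι R) (T : G →* Matrix κ κ R) (g : G) :
    kronRep S T g = S g ⊗ₖ T g := rfl

end Kron

section Diff

variable {R : Type*} [CommRing R]

/-- The difference operator. -/
noncomputable def diff : R[X] →ₗ[R] R[X] := taylor 1 - LinearMap.id

theorem diff_apply (f : R[X]) : diff f = taylor 1 f - f := rfl

theorem coeff_diff {n : ℕ} {f : R[X]} (hf : f.natDegree ≤ n + 1) :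
    (diff f).natDegree ≤ n ∧ (diff f).coeff n = (n + 1) * f.coeff (n + 1) := by
  have key : ∀ i, n ≤ i → (diff f).coeff i = if i = n then (n + 1) * f.coeff (n + 1) else 0 := by
    intro i hi
    conv_lhs => rw [diff_apply, f.as_sum_range' (n + 2) (by omega)]
    simp only [map_sum, coeff_sub, finsetSum_coeff, taylor_monomial, coeff_C_mul, coeff_monomial, map_one,
      coeff_X_add_one_pow]
    rw [← Finset.sum_sub_distrib, Finset.sum_range_succ, Finset.sum_eq_zero fun j hj => ?_, zero_add]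
    · split_ifs with h1 h2 h2
      · omega
      · subst h1; simp
      · subst h2; rw [Nat.choose_succ_self_right]; push_cast; ring
      · rw [Nat.choose_eq_zero_of_lt (by omega)]; simp
    · have := Finset.mem_range.1 hj
      split_ifs with h1
      · subst h1; simp
      · rw [Nat.choose_eq_zero_of_lt (by omega)]; simp
  refine ⟨natDegree_le_iff_coeff_eq_zero.2 fun i hi => ?_, by simpa using key n le_rfl⟩
  rw [key i hi.le, if_neg (by omega)]

theorem diff_iterate : ∀ {n : ℕ} {f : R[X]}, f.natDegree ≤ n →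
    diff^[n] f = C ((n.factorial : R) * f.coeff n) ∧ diff^[n + 1] f = 0 := by
  intro n
  induction n with
  | zero =>
    intro f hf
    obtain ⟨a, rfl⟩ : ∃ a, f = C a := ⟨_, eq_C_of_natDegree_le_zero hf⟩
    simp [diff_apply]
  | succ n ih =>
    intro f hf
    obtain ⟨h1, h2⟩ := coeff_diff hf
    obtain ⟨h3, h4⟩ := ih h1
    refine ⟨?_, by rw [Function.iterate_succ_apply]; exact h4⟩
    rw [Function.iterate_succ_apply, h3, h2, Nat.factorial_succ]
    push_cast
    congr 1
    ring

theorem diff_C_mul (w : R) (f : R[X]) : diff (C w * f) = C w * diff f := by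
  rw [← smul_eq_C_mul, map_smul, smul_eq_C_mul]

theorem diff_iterate_C_mul (w : R) (f : R[X]) (j : ℕ) : diff^[j] (C w * f) = C w * diff^[j] f := by
  induction j with
  | zero => rfl
  | succ j ih => rw [Function.iterate_succ_apply', ih, diff_C_mul, Function.iterate_succ_apply']

end Diff

section Model

variable {p : ℕ} [hp : Fact p.Prime] {N : Type*} [Group N] [Finite N] (Δ : Semi p N)
  (k : Type*) [Field k] [CharP k p] (e : ℕ)

/-- The action of `A` on `⟨x⟩` as a scalar. -/
noncomputable def εk : Δ.A →* k :=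
  (ZMod.castHom (dvd_refl p) k).toMonoidHom.comp ((Units.coeHom (ZMod p)).comp Δ.ε)

theorem εk_eq (a : Δ.A) : εk Δ k a = (((Δ.ε a : (ZMod p)ˣ) : ZMod p).val : k) := by
  show ZMod.castHom (dvd_refl p) k _ = _
  rw [ZMod.castHom_apply, ← ZMod.natCast_val]
  rfl

theorem εk_mul_inv (a : Δ.A) : εk Δ k a * εk Δ k a⁻¹ = 1 := by rw [← map_mul, mul_inv_cancel, map_one]

/-- The inverse scalar. -/
noncomputable def εi : Δ.A →* k where
  toFun a := εk Δ k a⁻¹
  map_one' := by simp
  map_mul' a b := by rw [_root_.mul_inv_rev, map_mul, mul_comm]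

theorem εi_apply (a : Δ.A) : εi Δ k a = εk Δ k a⁻¹ := rfl

/-- Translation of polynomials. -/
def shift (h : k) : Matrix (Fin e) (Fin e) k := fun i j => ((j : ℕ).choose i : k) * h ^ ((j : ℕ) - i)

/-- Scaling of polynomials. -/
noncomputable def scale (c : Δ.A →* k) : Δ.A →* Matrix (Fin e) (Fin e) k where
  toFun a := Matrix.diagonal fun i => c a * εk Δ k a⁻¹ ^ (i : ℕ)
  map_one' := by simp
  map_mul' a b := by
    rw [Matrix.diagonal_mul_diagonal]
    congr 1
    funext i
    have : εk Δ k (a * b)⁻¹ = εk Δ k a⁻¹ * εk Δ k b⁻¹ := by rw [_root_.mul_inv_rev, map_mul, mul_comm]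
    rw [this, map_mul, mul_pow]
    ring

variable {k e}

/-- A vector as a polynomial. -/
noncomputable def poly : (Fin e → k) →ₗ[k] k[X] where
  toFun u := ∑ i : Fin e, C (u i) * X ^ (i : ℕ)
  map_add' u v := by simp [add_mul, Finset.sum_add_distrib]
  map_smul' c u := by simp [Finset.smul_sum, smul_eq_C_mul, mul_assoc]

theorem poly_apply (u : Fin e → k) : poly u = ∑ i : Fin e, C (u i) * X ^ (i : ℕ) := rfl

theorem poly_injective : Function.Injective (poly (k := k) (e := e)) := fun u v h => funext fun i => by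
  have := congrArg (fun f : k[X] => f.coeff i) h
  simpa [poly_apply, coeff_X_pow, Fin.val_inj] using this

omit [CharP k p] in
theorem poly_single (i : Fin e) : poly (Pi.single i (1 : k)) = X ^ (i : ℕ) := by
  rw [poly_apply, Finset.sum_eq_single i] <;> simp +contextual

omit [CharP k p] in
theorem poly_shift_col (h : k) (j : Fin e) : poly ((shift k e h) *ᵥ Pi.single j 1) = (X + C h) ^ (j : ℕ) := by
  rw [poly_apply, add_pow]
  simp only [mulVec_single, MulOpposite.op_one, one_smul, Matrix.col_apply, shift]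
  rw [Fin.sum_univ_eq_sum_range (fun i => C (((j : ℕ).choose i : k) * h ^ ((j : ℕ) - i)) * X ^ i)]
  refine (Finset.sum_subset_zero_on_sdiff (Finset.range_mono (Nat.succ_le_of_lt j.isLt)) (fun i hi => ?_)
    fun i hi => ?_).symm
  · simp only [Finset.mem_sdiff, Finset.mem_range, not_lt] at hi
    rw [Nat.choose_eq_zero_of_lt (by omega)]
    simp
  · simp only [map_mul, map_pow, map_natCast]
    ring

omit [CharP k p] in
theorem poly_shift (h : k) (u : Fin e → k) : poly (shift k e h *ᵥ u) = taylor h (poly u) := by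
  have : poly.comp (shift k e h).mulVecLin = (taylor h).comp (poly (k := k) (e := e)) :=
    (Pi.basisFun k (Fin e)).ext fun i => by
      simp only [LinearMap.comp_apply, Pi.basisFun_apply, Matrix.mulVecLin_apply, poly_shift_col, poly_single,
        taylor_apply, X_pow_comp]
  exact LinearMap.congr_fun this u

theorem poly_scale (c : Δ.A →* k) (a : Δ.A) (u : Fin e → k) :
    poly (scale Δ k e c a *ᵥ u) = C (c a) * (poly u).comp (C (εk Δ k a⁻¹) * X) := by
  simp only [scale, MonoidHom.coe_mk, OneHom.coe_mk, poly_apply, mulVec_diagonal, sum_comp, mul_comp, C_comp,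
    X_pow_comp, mul_pow, Finset.mul_sum, map_mul, map_pow]
  exact Finset.sum_congr rfl fun i _ => by ring

omit [CharP k p] in
theorem shift_pow (h : k) (n : ℕ) : shift k e h ^ n = shift k e (n • h) := by
  refine Matrix.toLin'.injective (LinearMap.ext fun u => poly_injective ?_)
  simp only [Matrix.toLin'_apply, poly_shift]
  induction n generalizing u with
  | zero => simp
  | succ n ih => rw [pow_succ, ← mulVec_mulVec, ih, poly_shift, taylor_taylor, succ_nsmul]

theorem scale_mul_shift (c : Δ.A →* k) (a : Δ.A) :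
    scale Δ k e c a * shift k e 1 = shift k e 1 ^ ((Δ.ε a : (ZMod p)ˣ) : ZMod p).val * scale Δ k e c a := by
  refine Matrix.toLin'.injective (LinearMap.ext fun u => poly_injective ?_)
  have h1 : C (εk Δ k a⁻¹) * C ((((Δ.ε a : (ZMod p)ˣ) : ZMod p).val : k)) = (1 : k[X]) := by
    rw [← C_mul, ← εk_eq, mul_comm, εk_mul_inv, C_1]
  simp only [Matrix.toLin'_apply, ← mulVec_mulVec, poly_scale, poly_shift, shift_pow, nsmul_one, taylor_apply,
    mul_comp, C_comp, comp_assoc, add_comp, X_comp, map_one, one_comp]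
  rw [mul_add, h1]

variable (k e) in
/-- The model chain. -/
noncomputable def model (c : Δ.A →* k) : N →* Matrix (Fin e) (Fin e) k :=
  ofSemi Δ (shift k e 1) (scale Δ k e c)
    (by rw [shift_pow, nsmul_one, CharP.cast_eq_zero]
        refine Matrix.toLin'.injective (LinearMap.ext fun u => poly_injective ?_)
        simp [poly_shift])
    (scale_mul_shift Δ c)

theorem poly_tee_pow (c : Δ.A →* k) (j : ℕ) (u : Fin e → k) :
    poly (tee Δ (model Δ k e c) ^ j *ᵥ u) = diff^[j] (poly u) := by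
  induction j with
  | zero => simp
  | succ j ih =>
    have ht : tee Δ (model Δ k e c) = shift k e 1 - 1 := by rw [tee, model, ofSemi_x]
    rw [ht] at ih ⊢
    rw [pow_succ', ← mulVec_mulVec, sub_mulVec, one_mulVec, map_sub, poly_shift, ih,
      Function.iterate_succ_apply', diff_apply]

theorem natCast_ne_zero {n : ℕ} (h : n < p) : (n.factorial : k) ≠ 0 := fun h0 => by
  have := (hp.out.dvd_factorial).1 ((CharP.cast_eq_zero_iff k p _).1 h0)
  omega

theorem model_chain (c : Δ.A →* k) (he : 0 < e) (hep : e ≤ p) :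
    IsChains Δ (model Δ k e c) (fun _ : Unit => e) (fun _ => c * εi Δ k ^ (e - 1))
      (fun _ => Pi.single ⟨e - 1, by omega⟩ 1) := by
  have hkill : tee Δ (model Δ k e c) ^ e *ᵥ (Pi.single ⟨e - 1, by omega⟩ 1 : Fin e → k) = 0 := by
    refine poly_injective ?_
    rw [poly_tee_pow, poly_single, map_zero]
    have := (diff_iterate (R := k) (n := e - 1) (f := X ^ (e - 1)) (by simp)).2
    rwa [Nat.sub_add_cancel he] at this
  refine ⟨fun _ a => poly_injective ?_, fun _ => hkill, ?_, by simp⟩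
  · rw [model, ofSemi_A, poly_scale, map_smul, poly_single, X_pow_comp, mul_pow, smul_eq_C_mul]
    simp only [MonoidHom.mul_apply, MonoidHom.comp_apply, map_mul, map_pow, εi_apply,
      MonoidHom.pow_apply]
    ring
  · have hsoc : tee Δ (model Δ k e c) ^ (e - 1) *ᵥ (Pi.single ⟨e - 1, by omega⟩ 1 : Fin e → k) ≠ 0 := fun h => by
      have h1 := congrArg poly h
      rw [poly_tee_pow, poly_single, map_zero, (diff_iterate (R := k) (n := e - 1) (f := X ^ (e - 1)) (by simp)).1,
        coeff_X_pow, if_pos rfl, mul_one, C_eq_zero] at h1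
      exact natCast_ne_zero (p := p) (by omega) h1
    exact indep_of_socle (K := Unit) (L := fun _ => e) (T := tee Δ (model Δ k e c))
      (v := fun _ => (Pi.single ⟨e - 1, by omega⟩ 1 : Fin e → k)) (fun _ => hkill)
      (linearIndependent_unique_iff.2 hsoc)

end Model

section Tensor

variable {p : ℕ} [hp : Fact p.Prime] {N : Type*} [Group N] [Finite N] {Δ : Semi p N}
  {k : Type*} [Field k] [CharP k p] {e : ℕ}

/-- The first variable. -/
noncomputable def varT : k[X][X] := X

/-- The second variable. -/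
noncomputable def varU : k[X][X] := X - C X

/-- A vector as a polynomial in two variables. -/
noncomputable def biv : (Fin e × Fin e → k) →ₗ[k] k[X][X] where
  toFun u := ∑ w : Fin e × Fin e, u w • (varT ^ (w.1 : ℕ) * varU ^ (w.2 : ℕ))
  map_add' u v := by simp [add_smul, Finset.sum_add_distrib]
  map_smul' c u := by simp [Finset.smul_sum, mul_smul]

omit [CharP k p] in
theorem biv_apply (u : Fin e × Fin e → k) :
    biv u = ∑ w : Fin e × Fin e, u w • (varT ^ (w.1 : ℕ) * varU ^ (w.2 : ℕ)) := rfl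

omit [CharP k p] in
theorem biv_single (w : Fin e × Fin e) :
    biv (Pi.single w (1 : k)) = varT ^ (w.1 : ℕ) * varU ^ (w.2 : ℕ) := by
  rw [biv_apply, Finset.sum_eq_single w] <;> simp +contextual

omit [CharP k p] in
theorem biv_kron_col (A B : Matrix (Fin e) (Fin e) k) (w : Fin e × Fin e) :
    biv ((A ⊗ₖ B) *ᵥ Pi.single w 1)
      = aeval varT (poly (A *ᵥ Pi.single w.1 1)) * aeval varU (poly (B *ᵥ Pi.single w.2 1)) := by
  simp only [biv_apply, poly_apply, map_sum, map_mul, map_pow, aeval_C, aeval_X, mulVec_single,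
    MulOpposite.op_one, one_smul, Matrix.col_apply, kroneckerMap_apply, Finset.sum_mul_sum, Fintype.sum_prod_type,
    Algebra.smul_def]
  exact Finset.sum_congr rfl fun a _ => Finset.sum_congr rfl fun b _ => by ring

omit [CharP k p] in
/-- An algebra map extends a product of linear maps. -/
theorem biv_kron (F : k[X][X] →ₗ[k] k[X][X]) (A B : Matrix (Fin e) (Fin e) k)
    (h : ∀ i j : Fin e, aeval varT (poly (A *ᵥ Pi.single i 1)) * aeval varU (poly (B *ᵥ Pi.single j 1))
      = F (varT ^ (i : ℕ) * varU ^ (j : ℕ))) (u : Fin e × Fin e → k) :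
    biv ((A ⊗ₖ B) *ᵥ u) = F (biv u) := by
  have : biv.comp (A ⊗ₖ B).mulVecLin = F.comp (biv (k := k) (e := e)) :=
    (Pi.basisFun k (Fin e × Fin e)).ext fun w => by
      simp only [LinearMap.comp_apply, Pi.basisFun_apply, Matrix.mulVecLin_apply, biv_kron_col, biv_single, h]
  exact LinearMap.congr_fun this u

omit [CharP k p] in
theorem biv_shift (u : Fin e × Fin e → k) :
    biv ((shift k e 1 ⊗ₖ shift k e 1) *ᵥ u) = taylor (1 : k[X]) (biv u) := by
  refine biv_kron ((taylor (1 : k[X])).restrictScalars k) _ _ (fun i j => ?_) u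
  simp only [poly_shift_col, map_pow, map_add, aeval_X, aeval_C, map_one, LinearMap.restrictScalars_apply,
    taylor_mul, taylor_pow, varT, varU, map_sub, taylor_X, taylor_C]
  ring

/-- Scaling of both variables. -/
noncomputable def both (s : k) : k[X][X] →+* k[X][X] :=
  eval₂RingHom (C.comp (compRingHom (C s * X))) (C (C s) * X)

omit [CharP k p] in
theorem both_X (s : k) : both s (X : k[X][X]) = C (C s) * X := by simp [both]

omit [CharP k p] in
theorem both_C (s : k) (q : k[X]) : both s (C q) = C (q.comp (C s * X)) := by simp [both]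

omit [CharP k p] in
theorem both_smul (s c : k) (f : k[X][X]) : both s (c • f) = c • both s f := by
  rw [Algebra.smul_def, map_mul, Algebra.smul_def]
  congr 1
  show both s (C (C c)) = C (C c)
  rw [both_C, C_comp]

omit [CharP k p] in
theorem algebraMap_eq (c : k) : algebraMap k k[X][X] c = C (C c) := rfl

omit [CharP k p] in
theorem both_varU (s : k) : both s varU = C (C s) * (varU : k[X][X]) := by
  rw [varU, map_sub, both_X, both_C, X_comp, C_mul]
  ring

theorem biv_scale (c d : Δ.A →* k) (a : Δ.A) (u : Fin e × Fin e → k) :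
    biv ((scale Δ k e c a ⊗ₖ scale Δ k e d a) *ᵥ u) = C (C (c a * d a)) * both (εk Δ k a⁻¹) (biv u) := by
  let F : k[X][X] →ₗ[k] k[X][X] :=
    { toFun := fun f => C (C (c a * d a)) * both (εk Δ k a⁻¹) f
      map_add' := fun f g => by rw [map_add, mul_add]
      map_smul' := fun z f => by rw [both_smul, RingHom.id_apply, Algebra.mul_smul_comm] }
  refine biv_kron F _ _ (fun i j => ?_) u
  simp only [poly_scale, poly_single, X_pow_comp, mul_pow, map_mul, map_pow, aeval_C, aeval_X, algebraMap_eq,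
    F, LinearMap.coe_mk, AddHom.coe_mk, varT, both_X, both_varU]
  ring

omit [CharP k p] in
theorem biv_tee (S : N →* Matrix (Fin e × Fin e) (Fin e × Fin e) k)
    (h : S Δ.x = shift k e 1 ⊗ₖ shift k e 1) (j : ℕ) (u : Fin e × Fin e → k) :
    biv (tee Δ S ^ j *ᵥ u) = diff^[j] (biv u) := by
  induction j with
  | zero => simp
  | succ j ih =>
    rw [pow_succ', ← mulVec_mulVec, tee, h, sub_mulVec, one_mulVec, map_sub, biv_shift, Function.iterate_succ_apply',
      diff_apply]
    rw [tee, h] at ih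
    rw [ih]

omit [CharP k p] in
theorem biv_injective : Function.Injective (biv (k := k) (e := e)) := by
  intro u v h
  have h' := congrArg (eval₂RingHom (eval₂RingHom (C.comp C) ((X : k[X][X]) - C X)) X) h
  have key : ∀ u : Fin e × Fin e → k, eval₂RingHom (eval₂RingHom (C.comp C) ((X : k[X][X]) - C X)) X (biv u)
      = ∑ w : Fin e × Fin e, C (C (u w) * X ^ (w.2 : ℕ)) * X ^ (w.1 : ℕ) := fun u => by
    simp only [biv_apply, map_sum, Algebra.smul_def, map_mul, map_pow, algebraMap_eq, varT, varU, map_sub,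
      coe_eval₂RingHom, eval₂_X, eval₂_C, RingHom.comp_apply, sub_sub_cancel]
    exact Finset.sum_congr rfl fun w _ => by ring
  rw [key, key] at h'
  funext w
  have h0 := congrArg (fun f : k[X][X] => (f.coeff (w.1 : ℕ)).coeff (w.2 : ℕ)) h'
  simp only [finsetSum_coeff, coeff_C_mul_X_pow] at h0
  rw [Finset.sum_eq_single w (fun b _ hb => ?_) (fun h => absurd (Finset.mem_univ w) h),
    Finset.sum_eq_single w (fun b _ hb => ?_) (fun h => absurd (Finset.mem_univ w) h)] at h0
  · simpa using h0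
  all_goals
    split_ifs with h1
    · rw [coeff_C_mul_X_pow, if_neg fun h2 => hb (Prod.ext (Fin.ext h1.symm) (Fin.ext h2.symm))]
    · simp

/-- The generators. -/
noncomputable def gen (e m : ℕ) : k[X][X] := C (X ^ (e - 1 - m)) * (X * (X - C X)) ^ m

omit [CharP k p] in
theorem gen_mem {m : ℕ} (hm : m < e) : ∃ u : Fin e × Fin e → k, biv u = gen e m := by
  show gen e m ∈ LinearMap.range (biv (k := k) (e := e))
  have hW : C (X : k[X]) = (varT : k[X][X]) - varU := by simp [varT, varU]
  rw [gen, show (X : k[X][X]) * (X - C X) = varT * varU from rfl, map_pow, hW, sub_eq_add_neg, add_pow,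
    Finset.sum_mul]
  refine Submodule.sum_mem _ fun l hl => ?_
  have hl' := Finset.mem_range.1 hl
  refine ⟨(((-1) ^ (e - 1 - m - l) * ((e - 1 - m).choose l : k)) : k) •
    Pi.single (⟨l + m, by omega⟩, ⟨e - 1 - m - l + m, by omega⟩) 1, ?_⟩
  rw [map_smul, biv_single, neg_pow, pow_add, pow_add, Algebra.smul_def]
  simp only [map_mul, map_pow, map_neg, map_one, map_natCast, mul_pow]
  ring

omit [CharP k p] in
theorem natDegree_core (m : ℕ) :
    ((X * (X - C X)) ^ m : k[X][X]).Monic ∧ ((X * (X - C X)) ^ m : k[X][X]).natDegree = 2 * m := by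
  have h : (X * (X - C X) : k[X][X]).Monic := monic_X.mul (monic_X_sub_C _)
  refine ⟨h.pow m, ?_⟩
  rw [h.natDegree_pow, monic_X.natDegree_mul (monic_X_sub_C _), natDegree_X, natDegree_X_sub_C, mul_comm]

omit [CharP k p] in
theorem both_gen (s : k) {m : ℕ} (hm : m < e) :
    both s (gen e m) = C (C (s ^ (e - 1 + m))) * (gen e m : k[X][X]) := by
  have h2 : both s ((X : k[X][X]) - C X) = C (C s) * (X - C X) := both_varU s
  rw [gen, map_mul, map_pow (both s) (X * (X - C X)), map_mul (both s) X, both_X, h2, both_C, X_pow_comp, mul_pow,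
    mul_pow, mul_pow,
    show e - 1 + m = (e - 1 - m) + m + m by omega]
  simp only [map_mul, map_pow, pow_add, mul_pow]
  ring

/-- The chains of the tensor product of the models. -/
theorem model_tensor (c d : Δ.A →* k) (hep : 2 * e ≤ p + 1) :
    ∃ v : Fin e → Fin e × Fin e → k,
      IsChains Δ (kronRep (model Δ k e c) (model Δ k e d)) (fun m : Fin e => 2 * (m : ℕ) + 1)
        (fun m => c * d * εi Δ k ^ (e - 1 + (m : ℕ))) v ∧
      ∀ m, biv (v m) = gen e m := by
  choose v hv using fun m : Fin e => gen_mem (k := k) m.isLt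
  have hinj := biv_injective (k := k) (e := e)
  refine ⟨v, ⟨fun m a => hinj ?_, fun m => hinj ?_, ?_, ?_⟩, hv⟩
  · rw [kronRep_apply, model, model, ofSemi_A, ofSemi_A, biv_scale, hv, map_smul, hv, both_gen _ m.isLt,
      Algebra.smul_def, algebraMap_eq, ← mul_assoc, ← C_mul, ← C_mul]
    simp [εi_apply]
  · have hx : kronRep (model Δ k e c) (model Δ k e d) Δ.x = shift k e 1 ⊗ₖ shift k e 1 := by
      rw [kronRep_apply, model, model, ofSemi_x, ofSemi_x]
    obtain ⟨hmon, hdeg⟩ := natDegree_core (k := k) m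
    rw [biv_tee _ hx, hv, map_zero, gen, diff_iterate_C_mul, (diff_iterate hdeg.le).2, mul_zero]
  · refine indep_of_socle (fun m => hinj ?_) ?_
    · have hx : kronRep (model Δ k e c) (model Δ k e d) Δ.x = shift k e 1 ⊗ₖ shift k e 1 := by
        rw [kronRep_apply, model, model, ofSemi_x, ofSemi_x]
      obtain ⟨hmon, hdeg⟩ := natDegree_core (k := k) m
      rw [biv_tee _ hx, hv, map_zero, gen, diff_iterate_C_mul, (diff_iterate hdeg.le).2, mul_zero]
    · refine LinearIndependent.of_comp (biv (k := k) (e := e)) ?_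
      have hx : kronRep (model Δ k e c) (model Δ k e d) Δ.x = shift k e 1 ⊗ₖ shift k e 1 := by
        rw [kronRep_apply, model, model, ofSemi_x, ofSemi_x]
      refine Fintype.linearIndependent_iff.2 fun g hg m => ?_
      have e1 : ∀ m : Fin e, (biv ∘ fun m : Fin e =>
          tee Δ (kronRep (model Δ k e c) (model Δ k e d)) ^ (2 * (m : ℕ) + 1 - 1) *ᵥ v m) m
          = C (C (((2 * (m : ℕ)).factorial : k)) * X ^ (e - 1 - (m : ℕ))) := fun m => by
        obtain ⟨hmon, hdeg⟩ := natDegree_core (k := k) m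
        rw [Function.comp_apply, Nat.add_sub_cancel, biv_tee _ hx, hv, gen, diff_iterate_C_mul,
          (diff_iterate hdeg.le).1, ← hdeg, hmon.coeff_natDegree, mul_one, hdeg, ← C_mul, map_natCast, mul_comm]
      simp only [e1] at hg
      have h0 := congrArg (fun f : k[X][X] => (f.coeff 0).coeff (e - 1 - (m : ℕ))) hg
      simp only [finsetSum_coeff, coeff_zero, Polynomial.coeff_smul, coeff_C_zero, coeff_C_mul, coeff_X_pow,
        smul_eq_mul] at h0
      rw [Finset.sum_eq_single m (fun b _ hb => by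
          rw [if_neg (fun h => hb (Fin.ext (by have := b.isLt; have := m.isLt; omega))), mul_zero, mul_zero])
        (fun h => absurd (Finset.mem_univ m) h), if_pos rfl, mul_one] at h0
      exact (mul_eq_zero.1 h0).resolve_right (natCast_ne_zero (p := p) (by have := m.isLt; omega))
  · rw [Fintype.card_prod, Fintype.card_fin]
    clear hv hinj v
    rw [Fin.sum_univ_eq_sum_range (fun m => 2 * m + 1)]
    induction e with
    | zero => simp
    | succ n ih => rw [Finset.sum_range_succ, ih (by omega)]; ring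

variable {ι κ : Type*} [Fintype ι] [DecidableEq ι] [Fintype κ] [DecidableEq κ]
  {S₁ : N →* Matrix ι ι k} {S₂ : N →* Matrix κ κ k}

omit hp [CharP k p] [Finite N] in
theorem isEq_kron {ι' κ' : Type*} [Fintype ι'] [DecidableEq ι'] [Fintype κ'] [DecidableEq κ']
    {T₁ : N →* Matrix ι' ι' k} {T₂ : N →* Matrix κ' κ' k} {a : Matrix ι' ι k} {b : Matrix κ' κ k}
    (ha : IsEq S₁ T₁ a) (hb : IsEq S₂ T₂ b) : IsEq (kronRep S₁ S₂) (kronRep T₁ T₂) (a ⊗ₖ b) := fun n => by
  rw [kronRep_apply, kronRep_apply, ← Matrix.mul_kronecker_mul, ← Matrix.mul_kronecker_mul, ha, hb]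

/-- The tensor product of two chains of length `e`. -/
theorem tensor_chains {β₁ β₂ : Δ.A →* k} {v₁ : Unit → ι → k} {v₂ : Unit → κ → k} (he : 0 < e)
    (h₁ : IsChains Δ S₁ (fun _ : Unit => e) (fun _ => β₁) v₁)
    (h₂ : IsChains Δ S₂ (fun _ : Unit => e) (fun _ => β₂) v₂) (hep : 2 * e ≤ p + 1) :
    ∃ v, IsChains Δ (kronRep S₁ S₂) (fun m : Fin e => 2 * (m : ℕ) + 1)
      (fun m => β₁ * β₂ * εk Δ k ^ (e - 1 - (m : ℕ))) v := by
  have hinv : εk Δ k * εi Δ k = 1 := MonoidHom.ext fun a => εk_mul_inv Δ k a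
  have hw : ∀ β : Δ.A →* k, β * εk Δ k ^ (e - 1) * εi Δ k ^ (e - 1) = β := fun β => by
    rw [mul_assoc, ← mul_pow, hinv, one_pow, mul_one]
  have hm := fun β : Δ.A →* k => model_chain Δ (k := k) (β * εk Δ k ^ (e - 1)) he (by omega)
  obtain ⟨a₁, b₁, ha₁, hba₁, hab₁⟩ := (hm β₁).iso h₁ (Equiv.refl _) (fun _ => rfl) (fun _ => (hw β₁).symm)
  obtain ⟨a₂, b₂, ha₂, hba₂, hab₂⟩ := (hm β₂).iso h₂ (Equiv.refl _) (fun _ => rfl) (fun _ => (hw β₂).symm)
  obtain ⟨v, hv, -⟩ := model_tensor (Δ := Δ) (β₁ * εk Δ k ^ (e - 1)) (β₂ * εk Δ k ^ (e - 1)) hep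
  have h := hv.map (isEq_kron ha₁ ha₂) (b := b₁ ⊗ₖ b₂) (by rw [← Matrix.mul_kronecker_mul, hba₁, hba₂]; simp)
    (by rw [← Matrix.mul_kronecker_mul, hab₁, hab₂]; simp)
  refine ⟨fun c => (a₁ ⊗ₖ a₂) *ᵥ v c, ?_⟩
  convert h using 1
  funext m
  have hm' := m.isLt
  rw [show e - 1 + (m : ℕ) = (e - 1) + m from rfl, pow_add]
  have h2 : εk Δ k ^ (e - 1) = εk Δ k ^ (e - 1 - (m : ℕ)) * εk Δ k ^ (m : ℕ) := by rw [← pow_add]; congr 1; omega
  calc β₁ * β₂ * εk Δ k ^ (e - 1 - (m : ℕ))
      = β₁ * β₂ * εk Δ k ^ (e - 1 - (m : ℕ)) * (εk Δ k * εi Δ k) ^ (m : ℕ) * (εk Δ k * εi Δ k) ^ (e - 1) := by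
        rw [hinv, one_pow, one_pow, mul_one, mul_one]
    _ = β₁ * εk Δ k ^ (e - 1) * (β₂ * (εk Δ k ^ (e - 1 - (m : ℕ)) * εk Δ k ^ (m : ℕ))) *
          (εi Δ k ^ (e - 1) * εi Δ k ^ (m : ℕ)) := by
        simp only [mul_pow, mul_assoc, mul_comm, mul_left_comm]
    _ = _ := by rw [← h2]

end Tensor

end CfsgLib.Char.FeitDegree.Translation
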