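import Cfsg.Agent.Lib.Char.FeitDegree.Gauss
import Cfsg.Agent.Lib.Char.FeitDegree.Translation

/-!
# Lattices with prescribed eigenvalues and reduced chains

One coset of eigenvalues gives a lattice whose reduction is a chain of length `e`; two distinct
cosets give one whose reduction has chains of lengths `e + n` and `e - n`.
-/

set_option autoImplicit false

namespace CfsgLib.Char.FeitDegree.Lifts

open Matrix Polynomial Chains Translation Lattice
open scoped Classical

variable {p : ℕ} [hp : Fact p.Prime] {R k : Type*} [CommRing R] [IsDomain R] [Field k]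
  {Ψ : Sys p R k} (Γ : Gauss.Data Ψ) {N : Type*} [Group N] [Finite N] (Δ : Semi p N)

/-- The scalar of `A` on the Gauss element. -/
noncomputable def ts : Δ.A →* R := Γ.t.comp Δ.ε

omit [IsDomain R] [Finite N] in
theorem ts_pow (a : Δ.A) : ts Γ Δ a ^ Nat.card Δ.ε.range = 1 := by
  have h : (⟨Δ.ε a, a, rfl⟩ : Δ.ε.range) ^ Nat.card Δ.ε.range = 1 := pow_card_eq_one'
  rw [ts, MonoidHom.comp_apply, ← map_pow, show Δ.ε a ^ Nat.card Δ.ε.range = 1 from congrArg Subtype.val h, map_one]

omit [IsDomain R] in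
theorem red_ts [CharP k p] (a : Δ.A) : Ψ.π (ts Γ Δ a) = εk Δ k a := by
  rw [ts, MonoidHom.comp_apply, Γ.red_t]
  rfl

/-- The eigenvalue attached to a unit. -/
noncomputable def root (s : (ZMod p)ˣ) : R := Gauss.val Ψ Γ.t (s : ZMod p)

theorem root_injective : Function.Injective (root Γ) := fun s s' h => by
  refine Units.ext (Gauss.pw_injective Ψ ?_)
  rw [← Γ.eval_val, ← Γ.eval_val]
  exact congrArg (Polynomial.eval · Γ.Φ) h

omit [IsDomain R] in
theorem root_mul (a s : (ZMod p)ˣ) : root Γ (a * s) = Γ.t a * root Γ s := by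
  rw [root, root, Units.val_mul, Gauss.val_mul]

omit [IsDomain R] in
theorem red_root (hp2 : 2 < p) (s : (ZMod p)ˣ) : Ψ.π (root Γ s) = 0 := by
  haveI := Ψ.charP
  rw [root, Gauss.val, map_sum, Finset.sum_congr rfl fun h _ => by rw [map_mul, Gauss.red_pw, mul_one, Γ.red_t],
    ← map_sum, Fintype.sum_equiv (Equiv.inv (ZMod p)ˣ) (fun h => ((h⁻¹ : (ZMod p)ˣ) : ZMod p))
      (fun h => ((h : (ZMod p)ˣ) : ZMod p)) fun h => rfl]
  have h1 := FiniteField.sum_pow_units (ZMod p) 1
  rw [if_neg (fun h => by rw [ZMod.card] at h; have := Nat.le_of_dvd one_pos h; omega)] at h1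
  simp only [pow_one] at h1
  rw [h1, map_zero]

/-- The `e`-th power of a root of the coset. -/
noncomputable def γ (m : (ZMod p)ˣ) : R := root Γ m ^ Nat.card Δ.ε.range

omit [IsDomain R] [Finite N] in
theorem root_pow (m u : (ZMod p)ˣ) (hu : u ∈ Δ.ε.range) :
    root Γ (m * u) ^ Nat.card Δ.ε.range = γ Γ Δ m := by
  obtain ⟨a, rfl⟩ := hu
  rw [mul_comm m, root_mul, mul_pow, ← MonoidHom.comp_apply Γ.t Δ.ε, ← ts, ts_pow, one_mul, γ]

omit [Finite N] in
theorem γ_injective (hp2 : 2 < p) {m m' : (ZMod p)ˣ} (h : γ Γ Δ m = γ Γ Δ m') : m⁻¹ * m' ∈ Δ.ε.range := by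
  set e := Nat.card Δ.ε.range
  have h0 : m⁻¹ * m' = m⁻¹ * m' := rfl
  have hroot : root Γ m ≠ 0 := by
    intro h0
    have hall : ∀ u : (ZMod p)ˣ, root Γ u = 0 := fun u => by
      rw [show u = (u * m⁻¹) * m by group, root_mul, h0, mul_zero]
    have hsub : Subsingleton (ZMod p)ˣ := ⟨fun a b => root_injective Γ ((hall a).trans (hall b).symm)⟩
    have : Fintype.card (ZMod p)ˣ ≤ 1 := Fintype.card_le_one_iff_subsingleton.2 hsub
    rw [ZMod.card_units] at this
    omega
  have hroot' : Γ.t (m' * m⁻¹) ^ e = 1 := by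
    have : root Γ m' = Γ.t (m' * m⁻¹) * root Γ m := by rw [← root_mul]; group
    rw [γ, γ, this, mul_pow] at h
    exact mul_right_cancel₀ (pow_ne_zero _ hroot) (by rw [one_mul]; exact h.symm)
  have hu : (m' * m⁻¹) ^ e = 1 := by
    haveI := Ψ.charP
    have h1 := congrArg Ψ.π hroot'
    rw [map_pow, Γ.red_t, map_one, ← map_pow, ← Units.val_pow_eq_pow_val] at h1
    refine Units.ext ?_
    refine (ZMod.castHom (dvd_refl p) k).injective ?_
    rw [h1, Units.val_one, map_one]
  rw [mul_comm]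
  -- the range consists of all solutions of `u ^ e = 1`
  have hsub : ((Δ.ε.range : Set (ZMod p)ˣ).toFinset) = Finset.univ.filter fun u => u ^ e = 1 := by
    refine Finset.eq_of_subset_of_card_le (fun u hu => ?_) ?_
    · rw [Set.mem_toFinset] at hu
      refine Finset.mem_filter.2 ⟨Finset.mem_univ _, ?_⟩
      exact congrArg Subtype.val (pow_card_eq_one' (G := Δ.ε.range) (x := ⟨u, hu⟩))
    · refine (IsCyclic.card_pow_eq_one_le Nat.card_pos).trans (le_of_eq ?_)
      rw [Set.toFinset_card, ← Nat.card_eq_fintype_card]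
      rfl
  have : m' * m⁻¹ ∈ Finset.univ.filter fun u : (ZMod p)ˣ => u ^ e = 1 := by simp [hu]
  rw [← hsub, Set.mem_toFinset] at this
  exact this

section General

variable {ι : Type*} [Fintype ι] [DecidableEq ι]

set_option maxHeartbeats 800000 in
/-- A representation from a diagonalizable Gauss element. -/
theorem exists_rep (U : Matrix ι ι R) (D : Δ.A →* Matrix ι ι R) (σ : ι → (ZMod p)ˣ) (V : Matrix ι ι R)
    (hdet : V.det ≠ 0) (hV : V * U = Matrix.diagonal (fun i => root Γ (σ i)) * V)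
    (hD : ∀ a, D a * U = ts Γ Δ a • (U * D a)) :
    ∃ Y : N →* Matrix ι ι R, Y Δ.x = aeval U Γ.Φ ∧ (∀ a : Δ.A, Y (a : N) = D a) ∧
      ∀ b : ℕ, (Y (Δ.x ^ b)).trace = ∑ i, Gauss.pw Ψ ((b : ZMod p) * (σ i : ZMod p)) := by
  have cancel : ∀ M M' : Matrix ι ι R, V * M = V * M' → M = M' := fun M M' h => by
    have h1 := congrArg (V.adjugate * ·) h
    simp only [← Matrix.mul_assoc, Matrix.adjugate_mul, Matrix.smul_mul, Matrix.one_mul] at h1
    ext i j
    have := congrFun (congrFun h1 i) j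
    exact mul_left_cancel₀ hdet this
  have hpoly : ∀ f : R[X], V * aeval U f = Matrix.diagonal (fun i => f.eval (root Γ (σ i))) * V := by
    intro f
    induction f using Polynomial.induction_on with
    | C c =>
      rw [aeval_C, Algebra.algebraMap_eq_smul_one, Matrix.mul_smul, Matrix.mul_one]
      simp only [eval_C, ← Matrix.smul_one_eq_diagonal, Matrix.smul_mul, Matrix.one_mul]
    | add f g hf hg => rw [map_add, Matrix.mul_add, hf, hg, ← Matrix.add_mul, Matrix.diagonal_add]; simp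
    | monomial n c ih =>
      rw [pow_succ, ← mul_assoc, map_mul, ← Matrix.mul_assoc, ih, aeval_X, Matrix.mul_assoc, hV, ← Matrix.mul_assoc,
        Matrix.diagonal_mul_diagonal]
      simp
  have hX : ∀ n : ℕ, V * aeval U Γ.Φ ^ n = Matrix.diagonal (fun i => Gauss.pw Ψ ((n : ZMod p) * (σ i : ZMod p))) * V := by
    intro n
    rw [← map_pow, hpoly]
    congr 2
    funext i
    rw [eval_pow, root, Γ.eval_val, Gauss.pw_pow]
  have hXp : aeval U Γ.Φ ^ p = 1 := cancel _ _ (by
    rw [hX, ZMod.natCast_self]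
    simp only [zero_mul, Gauss.pw_zero, Matrix.diagonal_one, Matrix.one_mul, Matrix.mul_one])
  have hDpoly : ∀ (a : Δ.A) (f : R[X]), D a * aeval U f = aeval U (f.comp (C (ts Γ Δ a) * X)) * D a := by
    intro a f
    induction f using Polynomial.induction_on with
    | C c => simp [Algebra.algebraMap_eq_smul_one]
    | add f g hf hg => rw [map_add, Matrix.mul_add, hf, hg, ← Matrix.add_mul, add_comp, map_add]
    | monomial n c ih =>
      rw [pow_succ, ← mul_assoc, map_mul, ← Matrix.mul_assoc, ih, aeval_X, Matrix.mul_assoc, hD]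
      simp only [mul_comp, X_comp, map_mul, aeval_C, aeval_X, ← Algebra.smul_def, Matrix.mul_smul, Matrix.smul_mul,
        Matrix.mul_assoc]
  have hc : ∀ a, D a * aeval U Γ.Φ = aeval U Γ.Φ ^ ((Δ.ε a : (ZMod p)ˣ) : ZMod p).val * D a := fun a => by
    rw [hDpoly]
    congr 1
    refine cancel _ _ ?_
    rw [hX, hpoly]
    congr 2
    funext i
    rw [eval_comp, eval_mul, eval_C, eval_X, ts, MonoidHom.comp_apply, ← root_mul, root, Γ.eval_val,
      ZMod.natCast_val, ZMod.cast_id, Units.val_mul]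
  refine ⟨ofSemi Δ (aeval U Γ.Φ) D hXp hc, ofSemi_x Δ hXp hc, ofSemi_A Δ hXp hc, fun b => ?_⟩
  rw [map_pow, ofSemi_x]
  have h1 : (V * aeval U Γ.Φ ^ b * V.adjugate).trace
      = (Matrix.diagonal (fun i => Gauss.pw Ψ ((b : ZMod p) * (σ i : ZMod p))) * V * V.adjugate).trace := by rw [hX]
  rw [Matrix.trace_mul_cycle, Matrix.adjugate_mul, Matrix.smul_mul, Matrix.one_mul, Matrix.trace_smul,
    Matrix.mul_assoc, Matrix.mul_adjugate, Matrix.mul_smul, Matrix.mul_one, Matrix.trace_smul,
    Matrix.trace_diagonal, smul_eq_mul, smul_eq_mul] at h1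
  exact mul_left_cancel₀ hdet h1

end General

section Blocks

/-- The companion matrix of `X ^ e - c`. -/
def comp (e : ℕ) {A : Type*} [CommRing A] (c : A) : Matrix (Fin e) (Fin e) A := fun i j =>
  if (i : ℕ) = (j : ℕ) + 1 then 1 else if (j : ℕ) + 1 = e ∧ (i : ℕ) = 0 then c else 0

/-- The link between two companion blocks. -/
def link (e n : ℕ) {A : Type*} [CommRing A] : Matrix (Fin e) (Fin e) A := fun i j =>
  if (j : ℕ) + 1 = e ∧ (i : ℕ) + n = e then 1 else 0

variable {A : Type*} [CommRing A] {e : ℕ}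

theorem vandermonde_comp (r : Fin e → A) (c : A) (hr : ∀ i, r i ^ e = c) :
    Matrix.vandermonde r * comp e c = Matrix.diagonal r * Matrix.vandermonde r := by
  ext i j
  have he : 0 < e := lt_of_le_of_lt (Nat.zero_le _) i.isLt
  rw [Matrix.diagonal_mul, Matrix.mul_apply, Matrix.vandermonde_apply]
  by_cases hj : (j : ℕ) + 1 < e
  · rw [Finset.sum_eq_single (⟨(j : ℕ) + 1, hj⟩ : Fin e) (fun b _ hb => by
        rw [comp, if_neg (fun h => hb (Fin.ext h)), if_neg (fun h => by omega), mul_zero])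
      (fun h => absurd (Finset.mem_univ _) h), comp, if_pos rfl, Matrix.vandermonde_apply, mul_one, ← pow_succ']
  · have hje : (j : ℕ) + 1 = e := by have := j.isLt; omega
    rw [Finset.sum_eq_single (⟨0, he⟩ : Fin e) (fun b _ hb => by
        rw [comp, if_neg (fun h => by have := b.isLt; omega), if_neg (fun h => hb (Fin.ext h.2)), mul_zero])
      (fun h => absurd (Finset.mem_univ _) h), comp, if_neg (fun h => by simp at h), if_pos ⟨hje, rfl⟩,
      Matrix.vandermonde_apply, ← pow_succ', hje, hr, pow_zero, one_mul]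

theorem vandermonde_link (r : Fin e → A) {n : ℕ} (hn : 0 < n) (hne : n ≤ e) (i j : Fin e) :
    (Matrix.vandermonde r * (link e n : Matrix (Fin e) (Fin e) A)) i j = if (j : ℕ) + 1 = e then r i ^ (e - n) else 0 := by
  rw [Matrix.mul_apply]
  split_ifs with hj
  · rw [Finset.sum_eq_single (⟨e - n, by omega⟩ : Fin e) (fun b _ hb => by
        rw [link, if_neg (fun h => hb (Fin.ext (show (b : ℕ) = e - n by omega))), mul_zero])
      (fun h => absurd (Finset.mem_univ _) h), link, if_pos ⟨hj, by simp; omega⟩, Matrix.vandermonde_apply, mul_one]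
  · exact Finset.sum_eq_zero fun b _ => by rw [link, if_neg (fun h => hj h.1), mul_zero]

theorem scale_comp (t B : A) (ht : t ^ e = 1) (c : A) :
    Matrix.diagonal (fun i : Fin e => B * t ^ (i : ℕ)) * comp e c
      = t • (comp e c * Matrix.diagonal fun i : Fin e => B * t ^ (i : ℕ)) := by
  ext i j
  rw [Matrix.diagonal_mul, Matrix.smul_apply, Matrix.mul_diagonal, smul_eq_mul, comp]
  split_ifs with h1 h2
  · rw [h1, pow_succ]; ring
  · rw [h2.2, pow_zero]
    have : t * t ^ (j : ℕ) = 1 := by rw [← pow_succ', h2.1, ht]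
    linear_combination (-(B * c)) * this
  · ring

theorem scale_link (t B : A) (ht : t ^ e = 1) (n : ℕ) :
    Matrix.diagonal (fun i : Fin e => B * t ^ n * t ^ (i : ℕ)) * link e n
      = t • (link e n * Matrix.diagonal fun i : Fin e => B * t ^ (i : ℕ)) := by
  ext i j
  rw [Matrix.diagonal_mul, Matrix.smul_apply, Matrix.mul_diagonal, smul_eq_mul, link]
  split_ifs with h
  · have e1 : t ^ n * t ^ (i : ℕ) = 1 := by rw [← pow_add, add_comm, h.2, ht]
    have e2 : t * t ^ (j : ℕ) = 1 := by rw [← pow_succ', h.1, ht]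
    linear_combination B * e1 - B * e2
  · ring

theorem comp_single {j : ℕ} (hj : j + 1 < e) (c : A) :
    comp e c *ᵥ (Pi.single ⟨j, by omega⟩ 1 : Fin e → A) = Pi.single ⟨j + 1, hj⟩ 1 := by
  ext i
  simp only [mulVec_single_one, Matrix.col_apply, comp, Pi.single_apply, Fin.ext_iff]
  split_ifs with h1 h2 <;> first | rfl | omega

theorem comp_last (he : 0 < e) :
    comp e (0 : A) *ᵥ (Pi.single ⟨e - 1, by omega⟩ 1 : Fin e → A) = 0 := by
  ext i
  have := i.isLt
  simp only [mulVec_single_one, Matrix.col_apply, comp, Pi.zero_apply]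
  split_ifs with h1 h2 <;> first | rfl | omega

theorem link_single {j n : ℕ} (hj : j < e) :
    (link e n : Matrix (Fin e) (Fin e) A) *ᵥ (Pi.single ⟨j, hj⟩ 1 : Fin e → A)
      = fun i : Fin e => if j + 1 = e ∧ (i : ℕ) + n = e then 1 else 0 := by
  ext i
  simp only [mulVec_single_one, Matrix.col_apply, link]

theorem comp_map {B : Type*} [CommRing B] (f : A →+* B) (c : A) :
    (comp e c).map f = comp e (f c) := by
  ext i j
  simp only [Matrix.map_apply, comp]
  split_ifs <;> simp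

theorem link_map {B : Type*} [CommRing B] (f : A →+* B) (n : ℕ) :
    (link e n : Matrix (Fin e) (Fin e) A).map f = link e n := by
  ext i j
  simp only [Matrix.map_apply, link]
  split_ifs <;> simp

end Blocks

section Build

variable [CharP k p]

/-- The diagonal action. -/
noncomputable def diag (e : ℕ) (B : Δ.A →* R) : Δ.A →* Matrix (Fin e) (Fin e) R where
  toFun a := Matrix.diagonal fun i : Fin e => B a * ts Γ Δ a ^ (i : ℕ)
  map_one' := by simp
  map_mul' a b := by
    rw [Matrix.diagonal_mul_diagonal]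
    congr 1
    funext i
    rw [map_mul, map_mul, mul_pow]
    ring

omit [IsDomain R] in
theorem diag_apply (e : ℕ) (B : Δ.A →* R) (a : Δ.A) :
    diag Γ Δ e B a = Matrix.diagonal fun i : Fin e => B a * ts Γ Δ a ^ (i : ℕ) := rfl

omit [IsDomain R] [CharP k p] in
theorem red_γ (hp2 : 2 < p) (m : (ZMod p)ˣ) : Ψ.π (γ Γ Δ m) = 0 := by
  rw [γ, map_pow, red_root Γ hp2, zero_pow Nat.card_pos.ne']

include Γ in
set_option maxHeartbeats 1000000 in
/-- One coset. -/
theorem exists_single (hp2 : 2 < p) {e : ℕ} (he : Nat.card Δ.ε.range = e) (m : (ZMod p)ˣ) (β : Δ.A →* k) :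
    ∃ (Y : N →* Matrix (Fin e) (Fin e) R) (v : Fin e → k),
      IsChains Δ (redRep Ψ Y) (fun _ : Unit => e) (fun _ => β) (fun _ => v) ∧
      (∀ b : ℕ, (Y (Δ.x ^ b)).trace
        = ∑ u : Δ.ε.range, Gauss.pw Ψ ((b : ZMod p) * ((m * u : (ZMod p)ˣ) : ZMod p))) ∧
      ∀ a : Δ.A, Δ.ε a = 1 → β a = 1 → Y (a : N) = 1 := by
  have he0 : 0 < e := he ▸ Nat.card_pos
  obtain ⟨B, hB⟩ := Gauss.exists_lift_char Ψ Δ.reg β
  let en : Fin e ≃ Δ.ε.range := (finCongr he.symm).trans (Finite.equivFin Δ.ε.range).symm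
  let σ : Fin e → (ZMod p)ˣ := fun i => m * (en i : (ZMod p)ˣ)
  have hσ : Function.Injective σ := fun i j h => en.injective (Subtype.ext (mul_left_cancel h))
  obtain ⟨Y, hYx, hYA, hYt⟩ := exists_rep Γ Δ (comp e (γ Γ Δ m)) (diag Γ Δ e B) σ
    (Matrix.vandermonde fun i => root Γ (σ i))
    (Matrix.det_vandermonde_ne_zero_iff.2 ((root_injective Γ).comp hσ))
    (vandermonde_comp _ _ fun i => by rw [← he]; exact root_pow Γ Δ m _ (en i).2)
    (fun a => by rw [diag_apply]; exact scale_comp _ _ (he ▸ ts_pow Γ Δ a) _)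
  set U : Matrix (Fin e) (Fin e) k := comp e 0
  have hredU : red Ψ (comp e (γ Γ Δ m)) = U := by rw [red, comp_map, red_γ Γ Δ hp2]
  have hS : redRep Ψ Y Δ.x = aeval U (Γ.Φ.map Ψ.π) := by
    rw [redRep_apply, hYx, Gauss.red_aeval, hredU]
  set e₀ : Fin e → k := Pi.single ⟨0, he0⟩ 1
  have hiter : ∀ j (hj : j < e), U ^ j *ᵥ e₀ = Pi.single ⟨j, hj⟩ 1 := by
    intro j
    induction j with
    | zero => intro _; rw [pow_zero, one_mulVec]
    | succ j ih => intro hj; rw [pow_succ', ← mulVec_mulVec, ih (by omega), comp_single hj]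
  have hkill : U ^ e *ᵥ e₀ = 0 := by
    have h : U ^ (e - 1 + 1) *ᵥ e₀ = 0 := by rw [pow_succ', ← mulVec_mulVec, hiter (e - 1) (by omega), comp_last he0]
    rwa [Nat.sub_add_cancel he0] at h
  obtain ⟨hk1, -⟩ := Gauss.chain_of_poly (Δ := Δ) hS Γ.coeff_zero Γ.coeff_one e e₀
  obtain ⟨-, hk2⟩ := Gauss.chain_of_poly (Δ := Δ) hS Γ.coeff_zero Γ.coeff_one (e - 1) e₀
  refine ⟨Y, e₀, ⟨fun _ a => ?_, fun _ => hk1 hkill, ?_, by simp⟩, fun b => ?_, fun a ha hb => ?_⟩
  · rw [redRep_apply, hYA, diag_apply, red, Matrix.diagonal_map (map_zero _)]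
    ext i
    rw [mulVec_diagonal, Pi.smul_apply, smul_eq_mul]
    by_cases hi : i = ⟨0, he0⟩
    · subst hi; simp [hB]
    · simp [e₀, hi]
  · refine indep_of_socle (K := Unit) (L := fun _ => e) (v := fun _ => e₀) (T := tee Δ (redRep Ψ Y))
      (fun _ => hk1 hkill) (linearIndependent_unique_iff.2 ?_)
    show tee Δ (redRep Ψ Y) ^ (e - 1) *ᵥ e₀ ≠ 0
    rw [hk2 (by rwa [Nat.sub_add_cancel he0]), hiter (e - 1) (by omega)]
    intro h
    have := congrFun h ⟨e - 1, by omega⟩
    simp at this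
  · rw [hYt]
    exact Fintype.sum_equiv en _ _ fun i => rfl
  · rw [hYA, diag_apply, ← Matrix.diagonal_one]
    congr 1
    funext i
    rw [ts, MonoidHom.comp_apply, ha, map_one, one_pow, mul_one]
    refine Gauss.eq_of_red_eq Ψ Δ.reg (by rw [← map_pow, pow_card_eq_one', map_one]) (one_pow _) ?_
    rw [hB, hb, map_one]

include Γ in
set_option maxHeartbeats 2000000 in
/-- Two cosets. -/
theorem exists_pair (hp2 : 2 < p) {e n : ℕ} (he : Nat.card Δ.ε.range = e) (hn : 0 < n) (hne : n < e)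
    (m m' : (ZMod p)ˣ) (hm : m⁻¹ * m' ∉ Δ.ε.range) (β : Δ.A →* k) :
    ∃ (Y : N →* Matrix (Fin e ⊕ Fin e) (Fin e ⊕ Fin e) R) (v : Bool → Fin e ⊕ Fin e → k),
      IsChains Δ (redRep Ψ Y) (fun c : Bool => cond c (e + n) (e - n))
        (fun c => cond c β (β * εk Δ k ^ n)) v ∧
      (∀ b : ℕ, (Y (Δ.x ^ b)).trace
        = ∑ u : Δ.ε.range, Gauss.pw Ψ ((b : ZMod p) * ((m' * u : (ZMod p)ˣ) : ZMod p))
          + ∑ u : Δ.ε.range, Gauss.pw Ψ ((b : ZMod p) * ((m * u : (ZMod p)ˣ) : ZMod p))) ∧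
      ∀ a : Δ.A, Δ.ε a = 1 → β a = 1 → Y (a : N) = 1 := by
  have he0 : 0 < e := he ▸ Nat.card_pos
  obtain ⟨B, hB⟩ := Gauss.exists_lift_char Ψ Δ.reg β
  let en : Fin e ≃ Δ.ε.range := (finCongr he.symm).trans (Finite.equivFin Δ.ε.range).symm
  let σa : Fin e → (ZMod p)ˣ := fun i => m * (en i : (ZMod p)ˣ)
  let σb : Fin e → (ZMod p)ˣ := fun i => m' * (en i : (ZMod p)ˣ)
  let ra : Fin e → R := fun i => root Γ (σa i)
  let rb : Fin e → R := fun i => root Γ (σb i)
  have hinj : ∀ μ : (ZMod p)ˣ, Function.Injective fun i : Fin e => root Γ (μ * (en i : (ZMod p)ˣ)) :=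
    fun μ => (root_injective Γ).comp fun i j h => en.injective (Subtype.ext (mul_left_cancel h))
  set ga := γ Γ Δ m
  set gb := γ Γ Δ m'
  have hgab : ga - gb ≠ 0 := fun h => hm (γ_injective Γ Δ hp2 (sub_eq_zero.1 h))
  have hra : ∀ i, ra i ^ e = ga := fun i => by rw [← he]; exact root_pow Γ Δ m _ (en i).2
  have hrb : ∀ i, rb i ^ e = gb := fun i => by rw [← he]; exact root_pow Γ Δ m' _ (en i).2
  let D : Δ.A →* Matrix (Fin e ⊕ Fin e) (Fin e ⊕ Fin e) R :=
    { toFun := fun a => Matrix.fromBlocks (diag Γ Δ e B a) 0 0 (diag Γ Δ e (B * ts Γ Δ ^ n) a)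
      map_one' := by simp [Matrix.fromBlocks_one]
      map_mul' := fun a b => by simp [Matrix.fromBlocks_multiply] }
  obtain ⟨Y, hYx, hYA, hYt⟩ := exists_rep Γ Δ (Matrix.fromBlocks (comp e gb) 0 (link e n) (comp e ga)) D
    (Sum.elim σb σa)
    (Matrix.fromBlocks (Matrix.vandermonde rb) 0 (Matrix.diagonal (fun i => ra i ^ (e - n)) * Matrix.vandermonde ra)
      ((ga - gb) • Matrix.vandermonde ra))
    (by
      rw [Matrix.det_fromBlocks_zero₁₂, Matrix.det_smul]
      exact mul_ne_zero (Matrix.det_vandermonde_ne_zero_iff.2 (hinj m'))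
        (mul_ne_zero (pow_ne_zero _ hgab) (Matrix.det_vandermonde_ne_zero_iff.2 (hinj m))))
    (by
      have hdiag : Matrix.diagonal (fun i => root Γ (Sum.elim σb σa i))
          = Matrix.fromBlocks (Matrix.diagonal rb) 0 0 (Matrix.diagonal ra) := by
        rw [Matrix.fromBlocks_diagonal]
        congr 1
        funext i
        rcases i with i | i <;> rfl
      rw [hdiag, Matrix.fromBlocks_multiply, Matrix.fromBlocks_multiply]
      simp only [Matrix.mul_zero, Matrix.zero_mul, add_zero, zero_add, smul_zero, Matrix.smul_mul,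
        vandermonde_comp ra ga hra, vandermonde_comp rb gb hrb, Matrix.mul_smul]
      congr 1
      ext i j
      simp only [Matrix.add_apply, Matrix.smul_apply, smul_eq_mul, vandermonde_link ra hn hne.le, Matrix.mul_assoc,
        Matrix.diagonal_mul, Matrix.vandermonde_apply]
      rw [Matrix.mul_apply]
      by_cases hj : (j : ℕ) + 1 < e
      · rw [Finset.sum_eq_single (⟨(j : ℕ) + 1, hj⟩ : Fin e) (fun b _ hb => by
            rw [comp, if_neg (fun h => hb (Fin.ext h)), if_neg (fun h => by omega), mul_zero])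
          (fun h => absurd (Finset.mem_univ _) h), comp, if_pos rfl, if_neg (by omega), Matrix.vandermonde_apply]
        ring
      · have hje : (j : ℕ) + 1 = e := by have := j.isLt; omega
        rw [Finset.sum_eq_single (⟨0, he0⟩ : Fin e) (fun b _ hb => by
            rw [comp, if_neg (fun h => by have := b.isLt; omega), if_neg (fun h => hb (Fin.ext h.2)), mul_zero])
          (fun h => absurd (Finset.mem_univ _) h), comp, if_neg (fun h => by simp at h), if_pos ⟨hje, rfl⟩,
          if_pos hje, Matrix.vandermonde_apply, pow_zero, one_mul]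
        have hp' : ra i * ra i ^ (j : ℕ) = ga := by rw [← pow_succ', hje, hra]
        linear_combination (-(ra i ^ (e - n))) * hp')
    (fun a => by
      show Matrix.fromBlocks _ _ _ _ * _ = _ • (_ * Matrix.fromBlocks _ _ _ _)
      rw [Matrix.fromBlocks_multiply, Matrix.fromBlocks_multiply, Matrix.fromBlocks_smul]
      simp only [Matrix.mul_zero, Matrix.zero_mul, add_zero, zero_add, smul_zero, diag_apply, MonoidHom.mul_apply,
        MonoidHom.pow_apply]
      have ht := he ▸ ts_pow Γ Δ a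
      rw [scale_comp _ _ ht, scale_comp _ _ ht, scale_link _ _ ht])
  set U : Matrix (Fin e ⊕ Fin e) (Fin e ⊕ Fin e) k := Matrix.fromBlocks (comp e 0) 0 (link e n) (comp e 0)
  have hredU : red Ψ (Matrix.fromBlocks (comp e gb) 0 (link e n) (comp e ga)) = U := by
    rw [red, Matrix.fromBlocks_map, comp_map, comp_map, link_map, red_γ Γ Δ hp2, red_γ Γ Δ hp2,
      Matrix.map_zero _ (map_zero _)]
  have hS : redRep Ψ Y Δ.x = aeval U (Γ.Φ.map Ψ.π) := by
    rw [redRep_apply, hYx, Gauss.red_aeval, hredU]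
  let l : ℕ → Fin e ⊕ Fin e → k := fun j => if h : j < e then Pi.single (Sum.inl ⟨j, h⟩) 1 else 0
  let r : ℕ → Fin e ⊕ Fin e → k := fun j => if h : j < e then Pi.single (Sum.inr ⟨j, h⟩) 1 else 0
  have hl : ∀ j, j < e → U *ᵥ l j = if j + 1 = e then r (e - n) else l (j + 1) := by
    intro j hj
    ext (i | i)
    all_goals
      simp only [l, r, dif_pos hj, U, mulVec_single_one, Matrix.col_apply, Matrix.fromBlocks_apply₁₁,
        Matrix.fromBlocks_apply₂₁, dif_pos (show e - n < e by omega), comp, link]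
      have := i.isLt
      by_cases hje : j + 1 = e
      · simp only [if_pos hje, Pi.single_apply, reduceCtorEq, if_false, Sum.inl.injEq, Sum.inr.injEq, Fin.ext_iff]
        split_ifs <;> first | rfl | omega
      · rw [if_neg hje, dif_pos (show j + 1 < e by omega)]
        simp only [Pi.single_apply, reduceCtorEq, if_false, Sum.inl.injEq, Sum.inr.injEq, Fin.ext_iff]
        split_ifs <;> first | rfl | omega
  have hr : ∀ j, U *ᵥ r j = r (j + 1) := by
    intro j
    by_cases hj : j < e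
    · ext (i | i)
      all_goals
        simp only [r, dif_pos hj, U, mulVec_single_one, Matrix.col_apply, Matrix.fromBlocks_apply₁₂,
          Matrix.fromBlocks_apply₂₂, comp, Matrix.zero_apply]
        have := i.isLt
        by_cases hje : j + 1 < e
        · rw [dif_pos hje]
          simp only [Pi.single_apply]
          split_ifs <;> simp_all [Fin.ext_iff]
        · rw [dif_neg hje]
          simp only [Pi.zero_apply]
          try (split_ifs <;> first | rfl | omega)
    · simp [r, hj, show ¬ j + 1 < e by omega]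
  have hlpow : ∀ i, i < e → U ^ i *ᵥ l 0 = l i := by
    intro i hi
    induction i with
    | zero => simp
    | succ i ih => rw [pow_succ', ← mulVec_mulVec, ih (by omega), hl i (by omega), if_neg (by omega)]
  have hrpow : ∀ i j, U ^ i *ᵥ r j = r (j + i) := by
    intro i j
    induction i with
    | zero => simp
    | succ i ih => rw [pow_succ', ← mulVec_mulVec, ih, hr, add_assoc]
  have hlbig : ∀ i, U ^ (e + i) *ᵥ l 0 = r (e - n + i) := by
    intro i
    rw [show e + i = i + ((e - 1) + 1) by omega, pow_add, ← mulVec_mulVec, pow_succ', ← mulVec_mulVec,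
      hlpow (e - 1) (by omega), hl (e - 1) (by omega), if_pos (by omega), hrpow]
  have hge : ∀ j, e ≤ j → r j = 0 := fun j hj => dif_neg (by omega)
  set h₂ : Fin e ⊕ Fin e → k := r 0 - l n
  have hln : l n = U ^ n *ᵥ l 0 := (hlpow n hne).symm
  have hhpow : ∀ i, U ^ i *ᵥ h₂ = r i - U ^ (i + n) *ᵥ l 0 := by
    intro i
    rw [mulVec_sub, hrpow, hln, mulVec_mulVec, ← pow_add, zero_add]
  have hkill1 : U ^ (e + n) *ᵥ l 0 = 0 := by rw [hlbig, hge _ (by omega)]
  have hkill2 : U ^ (e - n) *ᵥ h₂ = 0 := by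
    rw [hhpow, show e - n + n = e + 0 by omega, hlbig, add_zero, sub_self]
  let v : Bool → Fin e ⊕ Fin e → k := fun c => cond c (l 0) h₂
  have hsoc1 : tee Δ (redRep Ψ Y) ^ (e + n - 1) *ᵥ l 0 = ((-1 : k) ^ (e + n - 1)) • r (e - 1) := by
    rw [(Gauss.chain_of_poly (Δ := Δ) hS Γ.coeff_zero Γ.coeff_one _ _).2 (by
      rwa [Nat.sub_add_cancel (by omega : 1 ≤ e + n)]), show e + n - 1 = e + (n - 1) by omega, hlbig,
      show e - n + (n - 1) = e - 1 by omega]
  have hsoc2 : tee Δ (redRep Ψ Y) ^ (e - n - 1) *ᵥ h₂ = ((-1 : k) ^ (e - n - 1)) • (r (e - n - 1) - l (e - 1)) := by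
    rw [(Gauss.chain_of_poly (Δ := Δ) hS Γ.coeff_zero Γ.coeff_one _ _).2 (by
      rwa [Nat.sub_add_cancel (by omega : 1 ≤ e - n)]), hhpow, show e - n - 1 + n = e - 1 by omega,
      hlpow (e - 1) (by omega)]
  have hkill : ∀ c : Bool, tee Δ (redRep Ψ Y) ^ (cond c (e + n) (e - n)) *ᵥ v c = 0 := by
    rintro (_ | _)
    · exact (Gauss.chain_of_poly (Δ := Δ) hS Γ.coeff_zero Γ.coeff_one _ _).1 hkill2
    · exact (Gauss.chain_of_poly (Δ := Δ) hS Γ.coeff_zero Γ.coeff_one _ _).1 hkill1
  have hweight : ∀ (a : Δ.A) (i : Fin e ⊕ Fin e), redRep Ψ Y (a : N) *ᵥ (Pi.single i 1 : Fin e ⊕ Fin e → k)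
      = (Sum.elim (fun j : Fin e => β a * εk Δ k a ^ (j : ℕ)) (fun j : Fin e => β a * εk Δ k a ^ n * εk Δ k a ^ (j : ℕ)) i)
          • (Pi.single i 1 : Fin e ⊕ Fin e → k) := by
    intro a i
    rw [redRep_apply, hYA]
    show red Ψ (Matrix.fromBlocks _ _ _ _) *ᵥ _ = _
    ext u
    simp only [red, diag_apply, mulVec_single_one, Matrix.col_apply, Matrix.map_apply, Pi.smul_apply, smul_eq_mul,
      Pi.single_apply]
    rcases i with i | i <;> rcases u with u | u <;>
      simp [Matrix.diagonal_apply, apply_ite Ψ.π, hB, red_ts] <;>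
      split_ifs <;> simp_all
  refine ⟨Y, v, ⟨?_, hkill, ?_, ?_⟩, fun b => ?_, fun a ha hb => ?_⟩
  · rintro (_ | _) a
    · show redRep Ψ Y (a : N) *ᵥ (r 0 - l n) = (β a * (εk Δ k ^ n) a) • (r 0 - l n)
      simp only [r, l, dif_pos he0, dif_pos hne, mulVec_sub, hweight, Sum.elim_inl, Sum.elim_inr, pow_zero, mul_one,
        MonoidHom.pow_apply, smul_sub]
    · show redRep Ψ Y (a : N) *ᵥ l 0 = β a • l 0
      simp only [l, dif_pos he0, hweight, Sum.elim_inl, pow_zero, mul_one]
  · refine indep_of_socle (K := Bool) (L := fun c => cond c (e + n) (e - n)) (v := v)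
      (T := tee Δ (redRep Ψ Y)) hkill (Fintype.linearIndependent_iff.2 fun g hg => ?_)
    rw [Fintype.sum_bool] at hg
    simp only [v, cond_true, cond_false, hsoc1, hsoc2] at hg
    have h1 := congrFun hg (Sum.inl ⟨e - 1, by omega⟩)
    have h2 := congrFun hg (Sum.inr ⟨e - 1, by omega⟩)
    have hne1 : e - n - 1 ≠ e - 1 := by omega
    simp [r, l, dif_pos (show e - 1 < e by omega), dif_pos (show e - n - 1 < e by omega), Fin.ext_iff,
      hne1, hne1.symm] at h1 h2
    rintro (_ | _)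
    · exact h1
    · exact h2
  · simp [Fintype.sum_bool]; omega
  · rw [hYt, Fintype.sum_sum_type]
    congr 1 <;> exact Fintype.sum_equiv en _ _ fun i => rfl
  · rw [hYA]
    show Matrix.fromBlocks _ _ _ _ = 1
    have hB1 : B a = 1 := Gauss.eq_of_red_eq Ψ Δ.reg (by rw [← map_pow, pow_card_eq_one', map_one]) (one_pow _)
      (by rw [hB, hb, map_one])
    have ht1 : ts Γ Δ a = 1 := by rw [ts, MonoidHom.comp_apply, ha, map_one]
    simp [diag_apply, hB1, ht1, Matrix.fromBlocks_one]

end Build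

end CfsgLib.Char.FeitDegree.Lifts
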