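import Cfsg.Agent.Lib.Char.FeitDegree.Block

/-!
# The block of a character of degree `p - e`

All exceptional characters have that shape, and they agree with one linear character of the
normalizer off the centralizer.
-/

set_option autoImplicit false

open scoped Classical ComplexConjugate

namespace CfsgLib.Char.FeitDegree.Members

open Cfsg CfsgLib CfsgLib.Blocks CfsgLib.Blocks.DefectOne CfsgLib.CharDeep.ExactP
open CfsgLib.Char.DegHalf (Over linear_apply_one)
open Setup Weight Block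

universe u

variable {G : Type u} [Group G] [Fintype G] {p : ℕ} [hp : Fact p.Prime] {P : Sylow p G} {D : Frame P}
  {ζ : IrrCharacter G} {θ : IrrCharacter D.K0} {c : (ZMod p)ˣ}

theorem Minus_nP (M : Minus D ζ θ c) (k : ZMod p) : nP D ζ k = if k ∈ cos D c then 0 else 1 := by
  rw [nP_eq M.theta_one M.ov, M.mult_eq]

theorem exists_off (h3 : 3 * Nat.card D.act.range ≤ p - 1) (c : (ZMod p)ˣ) :
    ∃ m : (ZMod p)ˣ, (m : ZMod p) ∉ cos D c := by
  by_contra h
  push Not at h
  have hle : (Finset.univ.erase (0 : ZMod p)).card ≤ (cos D c).card := Finset.card_le_card fun k hk => by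
    simpa using h (Units.mk0 k (Finset.ne_of_mem_erase hk))
  rw [card_cos, Finset.card_erase_of_mem (Finset.mem_univ _), Finset.card_univ, ZMod.card] at hle
  have := hp.out.two_le
  omega

/-- The character is exceptional, and `δ = -1`. -/
theorem mem (h3 : 3 * Nat.card D.act.range ≤ p - 1) (M : Minus D ζ θ c) (B : Blk D θ) :
    B.δ = -1 ∧ ∃ l, B.ζ l = ζ ∧ cos D l = cos D c := by
  have hc : (c : ZMod p) ∈ cos D c := (mem_cos_iff D c c).2 (by rw [inv_mul_cancel]; exact one_mem _)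
  obtain ⟨m, hm⟩ := exists_off h3 c
  have h0 := Minus_nP M 0
  rw [if_neg (zero_notMem_cos D c)] at h0
  have hc' := Minus_nP M (c : ZMod p)
  rw [if_pos hc] at hc'
  have hm' := Minus_nP M (m : ZMod p)
  rw [if_neg hm] at hm'
  by_cases hY : ζ ∈ B.Y
  swap
  · exfalso
    by_cases hX : ζ ∈ B.X
    · have e1 := B.diffX ζ hX (c : ZMod p) (Units.ne_zero c)
      have e2 := B.diffX ζ hX (m : ZMod p) (Units.ne_zero m)
      omega
    · have := B.out ζ M.ov hX hY (c : ZMod p)
      omega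
  obtain ⟨l, rfl⟩ := (B.mem_Y ζ).1 hY
  have e1 := B.diffY l (c : ZMod p)
  split_ifs at e1 with hcl
  · have hδ : B.δ = -1 := by omega
    refine ⟨hδ, l, rfl, Finset.ext fun k => ?_⟩
    have e2 := B.diffY l k
    have e3 := Minus_nP M k
    constructor <;> intro hk
    · by_contra h
      rw [if_pos hk] at e2
      rw [if_neg h] at e3
      omega
    · by_contra h
      rw [if_neg h] at e2
      rw [if_pos hk] at e3
      omega
  · omega

variable (hfaith : ∀ g : G, (ζ : G → ℂ) g = (ζ : G → ℂ) 1 → g = 1) (hd : charDegree (ζ : G → ℂ) + 2 ≤ p)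
  (h3 : 3 * Nat.card D.act.range ≤ p - 1)

include h3 in
theorem nP_all (M : Minus D ζ θ c) (B : Blk D θ) (l : (ZMod p)ˣ) (k : ZMod p) :
    nP D (B.ζ l) k = if k ∈ cos D l then 0 else 1 := by
  obtain ⟨hδ, l₀, rfl, -⟩ := mem h3 M B
  have h0 := Minus_nP M 0
  rw [if_neg (zero_notMem_cos D c)] at h0
  have h1 := B.nP_zero_eq l l₀
  have h2 := B.diffY l k
  rw [hδ] at h2
  split_ifs at h2 ⊢ <;> omega

include hfaith hd h3 in
/-- Every exceptional character has the same shape. -/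
theorem minus (M : Minus D ζ θ c) (B : Blk D θ) (l : (ZMod p)ˣ) :
    Minus D (B.ζ l) θ l ∧ charDegree (B.ζ l : G → ℂ) = charDegree (ζ : G → ℂ) ∧
      ∀ g : G, (B.ζ l : G → ℂ) g = (B.ζ l : G → ℂ) 1 → g = 1 := by
  obtain ⟨hδ, l₀, hl₀, -⟩ := mem h3 M B
  have hdeg : charDegree (B.ζ l : G → ℂ) = charDegree (ζ : G → ℂ) := by
    have h1 := B.deg_ζ l
    have h2 := B.deg_ζ l₀
    rw [B.nP_zero_eq l l₀] at h1
    rw [hl₀] at h2 h1
    exact_mod_cast h1.trans h2.symm
  refine ⟨⟨M.theta_one, M.K0_eq, by rw [hdeg]; exact M.deg, fun k => ?_, fun θ' hne k => ?_, B.ov_ζ l⟩, hdeg,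
    fun g hg => ?_⟩
  · rw [← nP_eq M.theta_one (B.ov_ζ l), nP_all h3 M B l k]
  · exact mult_other M.theta_one (B.ov_ζ l) hne k
  · set K := Char.charKer (Char.isCharacter_irr (B.ζ l))
    haveI : K.Normal := Char.charKer_normal _
    have hgK : g ∈ D.K0 := Kernel.le_K0 (Char.isCharacter_irr ζ) hfaith hd (B.x_notMem_ker h3 l)
      ((Char.mem_charKer _).2 hg)
    have h1 := B.ov_ζ l 1 ⟨g, hgK⟩
    rw [one_mul, hg] at h1
    have hθ : (θ : D.K0 → ℂ) ⟨g, hgK⟩ = 1 := (mul_eq_right₀ (irr_one_ne_zero (B.ζ l))).1 h1.symm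
    refine hfaith g ?_
    have h2 := M.ov 1 ⟨g, hgK⟩
    rw [one_mul, hθ, one_mul] at h2
    exact h2

variable (E : Norm.Split D)

include h3 in
/-- The linear character on the normalizer. -/
theorem exists_alpha (M : Minus D ζ θ c) (B : Blk D θ) :
    ∃ α : nrm P →* ℂˣ, α E.Δ.x = 1 ∧ Ext D θ α ∧
      ∀ (l : (ZMod p)ˣ) (g : nrm P), D.act g ≠ 1 → (B.ζ l : G → ℂ) g = (α g : ℂ) := by
  letI : Fintype (E.Δ.A →* ℂˣ) := Fintype.ofFinite _
  have hA := Norm.comm E M.K0_eq
  obtain ⟨-, l₀, hl₀, -⟩ := mem h3 M B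
  have h0 : nP D ζ 0 = 1 := by rw [Minus_nP M, if_neg (zero_notMem_cos D c)]
  choose m hm using fun w : E.Δ.A →* ℂˣ => exists_nat (Char.isCharacter_irr ζ) (lift E w)
  have hsum : ∑ w, m w = 1 := by
    have h := sum_wInner (E := E) hA ζ
    rw [h0, Nat.cast_one] at h
    simp only [hm] at h
    exact_mod_cast h
  obtain ⟨w₀, hw₀⟩ : ∃ w, m w ≠ 0 := by
    by_contra h
    push Not at h
    simp [h] at hsum
  have hm0 : ∀ w, m w = if w = w₀ then 1 else 0 := by
    intro w
    have hle : m w₀ ≤ 1 := hsum ▸ Finset.single_le_sum (fun i _ => Nat.zero_le _) (Finset.mem_univ w₀)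
    split_ifs with h
    · subst h; omega
    · have hle2 : m w + m w₀ ≤ 1 := by
        rw [← hsum, ← Finset.sum_pair h]
        exact Finset.sum_le_sum_of_subset (Finset.subset_univ _)
      omega
  have hne : wInner (ζ : G → ℂ) (lift E w₀) ≠ 0 := by rw [hm, Nat.cast_ne_zero]; exact hw₀
  have hext := ext_of_ne M.theta_one M.ov hne
  refine ⟨lift E w₀, lift_x E w₀, hext, fun l g hg => ?_⟩
  rw [B.agree _ (B.mem_ζ l) _ (B.mem_ζ l₀) g (regular E hg), hl₀]
  -- Fourier inversion on the complement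
  set F : E.Δ.A → ℂ := fun a =>
    if E.Δ.ε a = 1 then (w₀ a : ℂ) else (ζ : G → ℂ) ((a : nrm P) : G) with hF
  have key : ∀ w : E.Δ.A →* ℂˣ, ∑ a, F a * conj (w a : ℂ) = if w = w₀ then (Nat.card E.Δ.A : ℂ) else 0 := by
    intro w
    have hN : (Nat.card (nrm P) : ℂ) * wInner (ζ : G → ℂ) (lift E w)
        = ∑ q : ZMod p × E.Δ.A, (ζ : G → ℂ) ((E.Δ.x ^ q.1.val * (q.2 : nrm P) : nrm P) : G) * conj (w q.2 : ℂ) := by
      rw [wInner, Cfsg.classInner, ← mul_assoc, mul_inv_cancel₀ Char.card_ne_zero, one_mul,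
        ← Fintype.sum_equiv (Omega.parts E.Δ)
          (fun q => (ζ : G → ℂ) ((E.Δ.x ^ q.1.val * (q.2 : nrm P) : nrm P) : G) * conj (w q.2 : ℂ)) _ fun q => by
        rw [show (Omega.parts E.Δ) q = E.Δ.x ^ q.1.val * (q.2 : nrm P) from rfl, lift, MonoidHom.comp_apply,
          pr_mul]]
    rw [Fintype.sum_prod_type, Finset.sum_comm, Finset.sum_congr rfl (g := fun a : E.Δ.A =>
      (p : ℂ) * (F a * conj (w a : ℂ))) fun a _ => ?_, ← Finset.mul_sum, card_nrm_eq E, hm, hm0] at hN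
    · refine mul_left_cancel₀ (Nat.cast_ne_zero.2 hp.out.ne_zero) (hN.symm.trans ?_)
      split_ifs <;> push_cast <;> ring
    · by_cases ha : E.Δ.ε a = 1
      · have hK := Norm.mem_K0_of_eps E ha
        have hval : (θ : D.K0 → ℂ) ⟨_, hK⟩ = (w₀ a : ℂ) := by
          rw [← hext ⟨_, hK⟩, lift, MonoidHom.comp_apply]
          congr 2
          have := pr_mul E 0 a
          rwa [pow_zero, one_mul] at this
        simp only [hF, if_pos ha, Subgroup.coe_mul, Subgroup.coe_pow, E.coe_x]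
        rw [← Finset.sum_mul, ← mul_assoc]
        congr 1
        rw [Finset.sum_congr rfl (g := fun b : ZMod p => (θ : D.K0 → ℂ) ⟨_, hK⟩ * (ζ : G → ℂ) (D.x ^ b.val))
          fun b _ => M.ov _ ⟨_, hK⟩, ← Finset.mul_sum, sum_xpow, h0, hval, Nat.cast_one, mul_one, mul_comm]
      · simp only [hF, if_neg ha]
        rw [Finset.sum_congr rfl (g := fun _ => (ζ : G → ℂ) ((a : nrm P) : G) * conj (w a : ℂ)) fun b _ => ?_,
          Finset.sum_const, Finset.card_univ, ZMod.card, nsmul_eq_mul]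
        congr 1
        set n := E.Δ.x ^ b.val * (a : nrm P)
        obtain ⟨u, hu⟩ := exists_conj E (n := n) (by
          rw [map_mul, map_pow, act_x, one_pow, one_mul, ← E.eps]; exact ha)
        rw [pr_mul] at hu
        rw [← hu, Subgroup.coe_mul, Subgroup.coe_mul, Subgroup.coe_inv]
        exact Char.IsIrrCharacter.isClassFunction ζ.2 _ _
  have horth : ∀ a, F a = (w₀ a : ℂ) := by
    intro a
    have h := Finset.sum_congr rfl fun w (_ : w ∈ (Finset.univ : Finset (E.Δ.A →* ℂˣ))) =>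
      congrArg (fun z : ℂ => z * (w a : ℂ)) (key w)
    simp only [Finset.sum_mul] at h
    rw [Finset.sum_comm, Finset.sum_congr rfl (g := fun b => if b = a then F b * (Nat.card E.Δ.A : ℂ) else 0)
      fun b _ => ?_, Finset.sum_ite_eq', if_pos (Finset.mem_univ _)] at h
    · simp only [ite_mul, zero_mul, Finset.sum_ite_eq', Finset.mem_univ, if_true] at h
      refine mul_right_cancel₀ (Nat.cast_ne_zero.2 Nat.card_pos.ne') (h.trans (mul_comm _ _))
    · rw [Finset.sum_congr rfl (g := fun w : E.Δ.A →* ℂˣ => F b * (w (b⁻¹ * a) : ℂ)) fun w _ => ?_,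
        ← Finset.mul_sum, sum_hom_apply hA, mul_ite, mul_zero]
      · by_cases hba : b = a <;> simp [hba, inv_mul_eq_one]
      · rw [mul_assoc, map_mul, map_inv, Units.val_mul, Units.val_inv_eq_inv_val]
        congr 2
        refine (eq_inv_of_mul_eq_one_right ?_)
        have h1 := conj_mul_self (lift E w) (b : nrm P)
        have h2 := pr_mul E 0 b
        rw [pow_zero, one_mul] at h2
        rwa [lift, MonoidHom.comp_apply, h2] at h1
  have h1 := horth (pr E g)
  have hpr : E.Δ.ε (pr E g) ≠ 1 := by rwa [eps_pr]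
  simp only [hF, if_neg hpr] at h1
  rw [lift, MonoidHom.comp_apply, ← h1]
  obtain ⟨u, hu⟩ := exists_conj E hg
  conv_lhs => rw [← hu, Subgroup.coe_mul, Subgroup.coe_mul, Subgroup.coe_inv]
  exact Char.IsIrrCharacter.isClassFunction ζ.2 _ _

end CfsgLib.Char.FeitDegree.Members
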