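import Cfsg.Agent.Lib.Char.FeitDegree.Setup
import Cfsg.Agent.Lib.Char.FeitDegree.Translation

/-!
# The normalizer of a Sylow subgroup of prime order as a semidirect product
-/

set_option autoImplicit false

open scoped Classical

namespace CfsgLib.Char.FeitDegree.Norm

open Cfsg CfsgLib CfsgLib.Blocks CfsgLib.Blocks.DefectOne Chains

universe u

variable {G : Type u} [Group G] [Fintype G] {p : ℕ} [hp : Fact p.Prime] {P : Sylow p G}

/-- The normalizer of `P` as a semidirect product. -/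
structure Split (D : Frame P) where
  Δ : Semi p (nrm P)
  coe_x : (Δ.x : G) = D.x
  eps : ∀ a : Δ.A, Δ.ε a = D.act (a : nrm P)

theorem exists_split (D : Frame P) : Nonempty (Split D) := by
  set N := nrm P
  have hPN : (P : Subgroup G) ≤ N := Subgroup.le_normalizer
  haveI : ((P : Subgroup G).subgroupOf N).Normal := Subgroup.normal_in_normalizer
  have hcard : Nat.card ((P : Subgroup G).subgroupOf N) = p :=
    (Nat.card_congr (Subgroup.subgroupOfEquivOfLe hPN).toEquiv).trans D.card_P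
  have hidx : ¬ p ∣ ((P : Subgroup G).subgroupOf N).index := by
    intro h
    refine D.hp2 ?_
    rw [pow_two]
    calc p * p ∣ Nat.card ((P : Subgroup G).subgroupOf N) * ((P : Subgroup G).subgroupOf N).index :=
          mul_dvd_mul (dvd_of_eq hcard.symm) h
      _ = Nat.card N := Subgroup.card_mul_index _
      _ ∣ Nat.card G := Subgroup.card_subgroup_dvd_card N
  obtain ⟨A, hA⟩ := Subgroup.exists_right_complement'_of_coprime
    (N := (P : Subgroup G).subgroupOf N) (by rw [hcard]; exact (Nat.Prime.coprime_iff_not_dvd hp.out).2 hidx)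
  have hxN : D.x ∈ N := hPN D.x_mem
  have hord : orderOf (⟨D.x, hxN⟩ : N) = p := by rw [Subgroup.orderOf_mk]; exact D.ord
  refine ⟨⟨⟨⟨D.x, hxN⟩, A, hord, D.act.comp A.subtype, fun a => Subtype.ext ?_, fun n => ?_, ?_⟩, rfl, fun _ => rfl⟩⟩
  · simpa using D.conj_x (a : N)
  · obtain ⟨⟨⟨u, hu⟩, a⟩, hn⟩ := hA.2 n
    rw [SetLike.mem_coe, Subgroup.mem_subgroupOf, ← D.zp] at hu
    obtain ⟨i, hi⟩ := (isOfFinOrder_of_finite D.x).mem_powers_iff_mem_zpowers.2 hu
    refine ⟨i, a, ?_⟩
    rw [← hn]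
    exact congrArg (· * (a : N)) (Subtype.ext hi.symm)
  · rw [← hA.symm.index_eq_card]
    exact hidx

variable {D : Frame P} (E : Split D)

/-- The kernel of the action lies in `K0`. -/
theorem mem_K0_of_eps {a : E.Δ.A} (ha : E.Δ.ε a = 1) : ((a : nrm P) : G) ∈ D.K0 := by
  rw [E.eps, D.act_eq_one_iff, D.mem_cent_iff] at ha
  refine (D.mem_K0 _).2 ⟨ha, fun h => E.Δ.reg (h.trans ?_)⟩
  rw [Subgroup.orderOf_coe, Subgroup.orderOf_coe]
  exact orderOf_dvd_natCard a

/-- Every element of `K0` lies in the complement. -/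
theorem exists_of_K0 (v : D.K0) : ∃ a : E.Δ.A, ((a : nrm P) : G) = (v : G) ∧ E.Δ.ε a = 1 := by
  obtain ⟨i, a, h⟩ := E.Δ.decomp ⟨v, D.K0_le_nrm v.2⟩
  have hact : E.Δ.ε a = 1 := by
    have h1 : D.act ⟨v, D.K0_le_nrm v.2⟩ = 1 := (D.act_eq_one_iff _).2 ((D.mem_cent_iff _).2 (D.commute_x v.2))
    have h2 : D.act E.Δ.x = 1 := (D.act_eq_one_iff _).2
      ((D.mem_cent_iff _).2 (by rw [E.coe_x]))
    rw [h, map_mul, map_pow, h2, one_pow, one_mul] at h1
    rw [E.eps, h1]
  refine ⟨a, ?_, hact⟩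
  have h' : (v : G) = D.x ^ i * ((a : nrm P) : G) := by
    have := congrArg Subtype.val h
    simpa [E.coe_x] using this
  have hc : Commute ((a : nrm P) : G) D.x := D.commute_x (mem_K0_of_eps E hact)
  have hxi : (v : G) * ((a : nrm P) : G)⁻¹ = D.x ^ i := by rw [h', mul_assoc, mul_inv_cancel, mul_one]
  have hmem : D.x ^ i ∈ D.K0 := hxi ▸ mul_mem v.2 (inv_mem (mem_K0_of_eps E hact))
  have h1 : D.x ^ i = 1 := by
    have hd : orderOf (D.x ^ i) ∣ p := orderOf_dvd_of_pow_eq_one (by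
      rw [← pow_mul, mul_comm, pow_mul, PrimeOrder.pow_prime_eq_one D.ord, one_pow])
    refine orderOf_eq_one_iff.1 (((Nat.dvd_prime hp.out).1 hd).resolve_right fun e => ?_)
    exact D.regular hmem (by rw [e])
  rw [h', h1, one_mul]

/-- The complement is commutative when `K0` is the centre. -/
theorem comm (hK : D.K0 = Subgroup.center G) : ∀ a b : E.Δ.A, a * b = b * a := by
  have hker : E.Δ.ε.ker ≤ Subgroup.center E.Δ.A := fun a ha => Subgroup.mem_center_iff.2 fun b => by
    have h : ((a : nrm P) : G) ∈ Subgroup.center G := hK ▸ mem_K0_of_eps E ha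
    exact Subtype.ext (Subtype.ext (Subgroup.mem_center_iff.1 h _))
  exact (commutative_of_cyclic_center_quotient E.Δ.ε.rangeRestrict (by
    rw [MonoidHom.ker_rangeRestrict]; exact hker))

/-- The range of the action. -/
theorem range_eps : E.Δ.ε.range = D.act.range := by
  refine le_antisymm ?_ ?_
  · rintro _ ⟨a, rfl⟩
    exact ⟨_, (E.eps a).symm⟩
  · rintro _ ⟨n, rfl⟩
    obtain ⟨i, a, rfl⟩ := E.Δ.decomp n
    refine ⟨a, ?_⟩
    rw [map_mul, map_pow, (D.act_eq_one_iff E.Δ.x).2 ((D.mem_cent_iff _).2 (by rw [E.coe_x])), one_pow,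
      one_mul, E.eps]

theorem not_dvd_index_nrm : ¬ p ∣ (nrm P).index := by
  intro h
  exact not_dvd_card_sylow p G ((Sylow.card_eq_index_normalizer P).symm ▸ h)

theorem not_dvd_relIndex_nrm (D : Frame P) : ¬ p ∣ (P : Subgroup G).relIndex (nrm P) := fun h => by
  refine D.hp2 ?_
  rw [pow_two]
  calc p * p ∣ Nat.card P * (P : Subgroup G).relIndex (nrm P) := mul_dvd_mul (dvd_of_eq D.card_P.symm) h
    _ = Nat.card (nrm P) := by
        rw [Subgroup.relIndex, ← Nat.card_congr (Subgroup.subgroupOfEquivOfLe Subgroup.le_normalizer).toEquiv,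
          Subgroup.card_mul_index]
    _ ∣ Nat.card G := Subgroup.card_subgroup_dvd_card _

/-- The hypotheses for stable equivalences. -/
theorem local_nrm {k : Type*} [Field k] [CharP k p] (D : Frame P) :
    Stable.Local k (P : Subgroup G) (nrm P) := by
  refine ⟨Subgroup.le_normalizer, fun u hu g hg => ?_, ?_, ?_⟩
  · by_cases hu1 : u = 1
    · exact Or.inl hu1
    refine Or.inr ?_
    have hu' : g⁻¹ * u * g ≠ 1 := fun h => hu1 (by
      calc u = g * (g⁻¹ * u * g) * g⁻¹ := by group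
        _ = 1 := by rw [h]; group)
    have hord : orderOf (g⁻¹ * u * g) = p := by
      refine orderOf_eq_prime ?_ hu'
      have := PrimeOrder.zpowers_eq P D.card_P hu hu1
      have hxu : D.x ∈ Subgroup.zpowers u := by rw [this]; exact D.x_mem
      obtain ⟨j, hj⟩ : u ∈ Subgroup.zpowers D.x := D.zp.symm ▸ hu
      have hup : u ^ p = 1 := by
        rw [← hj, ← zpow_natCast, ← zpow_mul, mul_comm, zpow_mul, zpow_natCast, PrimeOrder.pow_prime_eq_one D.ord,
          one_zpow]
      calc (g⁻¹ * u * g) ^ p = g⁻¹ * u ^ p * g⁻¹⁻¹ := by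
            rw [show g⁻¹ * u * g = g⁻¹ * u * g⁻¹⁻¹ by rw [inv_inv], _root_.conj_pow]
        _ = 1 := by rw [hup]; group
    have hP' : g⁻¹ * u * g ∈ (P : Subgroup G) := by
      have hQ : IsPGroup p (Subgroup.zpowers (g⁻¹ * u * g)) :=
        IsPGroup.of_card (n := 1) (by rw [Nat.card_zpowers, hord, pow_one])
      exact (P.3 (IsPGroup.to_sup_of_normal_right' hQ P.2 (Subgroup.zpowers_le.2 hg)) le_sup_right).le
        ((le_sup_left : Subgroup.zpowers (g⁻¹ * u * g) ≤ _) (Subgroup.mem_zpowers _))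
    have hgi : g⁻¹ ∈ nrm P := by
      refine Subgroup.mem_normalizer_fintype fun v hv => ?_
      have hv' : v ∈ Subgroup.zpowers u := by rw [PrimeOrder.zpowers_eq P D.card_P hu hu1]; exact hv
      obtain ⟨i, rfl⟩ := Subgroup.mem_zpowers_iff.1 hv'
      rw [← conj_zpow, inv_inv]
      exact zpow_mem hP' i
    simpa using inv_mem hgi
  · exact IsUnit.mk0 _ fun h => not_dvd_index_nrm ((CharP.cast_eq_zero_iff k p _).1 h)
  · exact IsUnit.mk0 _ fun h => not_dvd_relIndex_nrm D ((CharP.cast_eq_zero_iff k p _).1 h)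

end CfsgLib.Char.FeitDegree.Norm
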