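import Cfsg.Agent.Lib.Char.FeitDegree.Index.Exact

/-!
# A prime automizer and degree `p - e`: the derived group covers the central quotient
-/

set_option autoImplicit false

open scoped Classical ComplexConjugate commutatorElement

namespace CfsgLib.Char.FeitDegree.Perfect

open Cfsg CfsgLib CfsgLib.Blocks CfsgLib.Blocks.DefectOne CfsgLib.CharDeep.ExactP
open Setup

universe u

variable {G : Type u} [Group G] [Fintype G] {p : ℕ} [hp : Fact p.Prime]

omit [Fintype G] hp in
theorem normal_of_char {P : Sylow p G} {H : Subgroup G} [H.Normal] [Finite G] [Fact p.Prime]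
    (hPH : (P : Subgroup G) ≤ H) (hn : ((P.subtype hPH : Sylow p H) : Subgroup H).Normal) :
    (P : Subgroup G).Normal := by
  haveI := Sylow.characteristic_of_normal _ hn
  have h := ConjAct.normal_of_characteristic_of_normal (K := ((P.subtype hPH : Sylow p H) : Subgroup H))
  rwa [Sylow.coe_subtype, Subgroup.subgroupOf_map_subtype, inf_eq_left.2 hPH] at h

/-- The derived group is perfect, contains the Sylow subgroup and covers the central quotient. -/
theorem commutator_spec {P : Sylow p G} (hP : Nat.card P = p) (hnn : ¬ (P : Subgroup G).Normal)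
    {χ : IrrCharacter G} (hfaith : ∀ g : G, (χ : G → ℂ) g = (χ : G → ℂ) 1 → g = 1)
    (hd : charDegree (χ : G → ℂ) + 2 ≤ p) {D : Frame P} {θ : IrrCharacter D.K0} {c : (ZMod p)ˣ}
    (M : Minus D χ θ c) (hpr : (Nat.card D.act.range).Prime) :
    ∃ hPH : (P : Subgroup G) ≤ commutator G,
      ¬ ((P.subtype hPH : Sylow p (commutator G)) : Subgroup (commutator G)).Normal ∧
      Nat.card (P.subtype hPH : Sylow p (commutator G)) = p ∧
      (∀ g : G, ∃ h ∈ commutator G, ∃ z ∈ Subgroup.center G, g = h * z) ∧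
      commutator (commutator G) = ⊤ := by
  set H := commutator G with hH
  -- the commutator subgroup contains `P`
  have hxH : D.x ∈ H := by
    by_contra hx
    have hle := Kernel.le_K0 (isCharacter_irr χ) hfaith hd (D := D) hx
    refine hnn ⟨fun u hu g => ?_⟩
    have hz : g * u * g⁻¹ * u⁻¹ ∈ Subgroup.center G := M.K0_eq ▸ hle (by
      rw [hH, ← commutatorElement_def]
      exact Subgroup.commutator_mem_commutator (Subgroup.mem_top g) (Subgroup.mem_top u))
    have hup : u ^ p = 1 := by
      rw [← hP]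
      exact congrArg Subtype.val (pow_card_eq_one' (x := (⟨u, hu⟩ : (P : Subgroup G))))
    set z := g * u * g⁻¹ * u⁻¹
    have hgu : g * u * g⁻¹ = z * u := by simp [z]
    have hzp : z ^ p = 1 := by
      have h1 : (z * u) ^ p = 1 := by rw [← hgu, _root_.conj_pow, hup, mul_one, mul_inv_cancel]
      rwa [(show Commute z u from (Subgroup.mem_center_iff.1 hz u).symm).mul_pow, hup, mul_one] at h1
    have hz1 : z = 1 := by
      by_contra hne
      exact D.regular (M.K0_eq.symm ▸ hz) (dvd_of_eq (orderOf_eq_prime hzp hne).symm)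
    rw [hgu, hz1, one_mul]
    exact hu
  have hPH : (P : Subgroup G) ≤ H := by rw [← D.zp, Subgroup.zpowers_le]; exact hxH
  haveI : H.Normal := by rw [hH]; infer_instance
  set Q : Sylow p H := P.subtype hPH
  have hQnn : ¬ (Q : Subgroup H).Normal := fun h => hnn (normal_of_char hPH h)
  have hQcard : Nat.card Q = p := by
    show Nat.card (Q : Subgroup H) = p
    rw [Sylow.coe_subtype, Nat.card_congr (Subgroup.subgroupOfEquivOfLe hPH).toEquiv]
    exact hP
  letI := Fintype.ofFinite H
  have hfH : ∀ h : H, (χ : G → ℂ) h = (χ : G → ℂ) ((1 : H) : G) → h = 1 :=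
    fun h e => CharDeep.SmallFaithful.faithful_restrict hfaith H h e
  obtain ⟨D'⟩ := exists_frame Q hQcard
  -- `G` is the commutator subgroup times the centre
  obtain ⟨n, hnH, hn⟩ : ∃ n : nrm P, (n : G) ∈ H ∧ D.act n ≠ 1 := by
    by_contra hall
    push Not at hall
    have hle : Subgroup.normalizer ((Q : Subgroup H) : Set H) ≤ Subgroup.centralizer ((Q : Subgroup H) : Set H) := by
      intro h hh
      have hm : (h : G) ∈ nrm P := Subgroup.mem_normalizer_fintype fun u hu => by
        have h1 := (Subgroup.mem_normalizer_iff.1 hh ⟨u, hPH hu⟩).1 (by rwa [Sylow.coe_subtype, Subgroup.mem_subgroupOf])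
        rw [Sylow.coe_subtype, Subgroup.mem_subgroupOf] at h1
        exact h1
      have hc := (D.act_eq_one_iff ⟨h, hm⟩).1 (hall ⟨h, hm⟩ h.2)
      rw [Subgroup.mem_centralizer_iff]
      intro u hu
      rw [SetLike.mem_coe, Sylow.coe_subtype, Subgroup.mem_subgroupOf] at hu
      exact Subtype.ext (Subgroup.mem_centralizer_iff.1 hc (u : G) hu)
    set K := (MonoidHom.transferSylow Q hle).ker with hK
    have hKc := MonoidHom.ker_transferSylow_isComplement' Q hle
    have hxK : D'.x ∉ K := fun h => by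
      have h1 := Subgroup.disjoint_def.1 hKc.disjoint h D'.x_mem
      have h2 := D'.ord
      rw [h1, orderOf_one] at h2
      omega
    have hKC := Kernel.le_cent (IsCharacter.restrict (isCharacter_irr χ) H) hfH
      (by rw [show charDegree (fun h : H => (χ : G → ℂ) h) = charDegree (χ : G → ℂ) from rfl]; exact hd) hxK
    have hQC : (Q : Subgroup H) ≤ cent Q := fun u hu => by
      rw [D'.mem_cent_iff]
      rw [← D'.zp] at hu
      obtain ⟨i, rfl⟩ := Subgroup.mem_zpowers_iff.1 hu
      exact (Commute.refl _).zpow_left i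
    have htop : cent Q = ⊤ := top_le_iff.1 (hKc.sup_eq_top ▸ sup_le hKC hQC)
    exact hQnn ⟨fun u hu g => by
      have hg : g ∈ cent Q := htop ▸ Subgroup.mem_top g
      rwa [← Subgroup.mem_centralizer_iff.1 hg u hu, mul_inv_cancel_right]⟩
  have hGHZ : ∀ g : G, ∃ h ∈ H, ∃ z ∈ Subgroup.center G, g = h * z := by
    have hsup : H ⊔ Subgroup.center G = ⊤ := by
      rw [eq_top_iff]
      intro g _
      -- Frattini
      have hfr : Subgroup.normalizer ((P : Subgroup G) : Set G) ⊔ H = ⊤ := by
        have h3 := Q.normalizer_sup_eq_top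
        rwa [Sylow.coe_subtype, Subgroup.subgroupOf_map_subtype, inf_eq_left.2 hPH] at h3
      have hg : g ∈ Subgroup.normalizer ((P : Subgroup G) : Set G) ⊔ H := by rw [hfr]; trivial
      obtain ⟨a, ha, b, hb, rfl⟩ := Subgroup.mem_sup_of_normal_right.1 hg
      refine mul_mem ?_ (Subgroup.mem_sup_left hb)
      haveI := Fact.mk hpr
      have hgen : Subgroup.zpowers (⟨D.act n, n, rfl⟩ : D.act.range) = ⊤ :=
        zpowers_eq_top_of_prime_card rfl fun e => hn (congrArg Subtype.val e)
      obtain ⟨i, hi⟩ := Subgroup.mem_zpowers_iff.1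
        (hgen.symm ▸ Subgroup.mem_top (⟨D.act ⟨a, ha⟩, _, rfl⟩ : D.act.range) :
          (⟨D.act ⟨a, ha⟩, _, rfl⟩ : D.act.range) ∈ Subgroup.zpowers (⟨D.act n, n, rfl⟩ : D.act.range))
      have hc : ((n : nrm P) ^ i)⁻¹ * ⟨a, ha⟩ ∈ D.act.ker := by
        have h1 := congrArg Subtype.val hi
        rw [SubgroupClass.coe_zpow] at h1
        rw [MonoidHom.mem_ker, map_mul, map_inv, map_zpow, h1, inv_mul_cancel]
      obtain ⟨j, y, hy, hjy⟩ := D.decomp _ ((D.mem_cent_iff _).1 ((D.act_eq_one_iff _).1 hc))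
      have h2 : a = (n : G) ^ i * (D.x ^ j * y) := by
        rw [← hjy]
        simp
      rw [h2]
      exact mul_mem (Subgroup.mem_sup_left (zpow_mem hnH i))
        (mul_mem (Subgroup.mem_sup_left (pow_mem hxH j)) (Subgroup.mem_sup_right (M.K0_eq ▸ hy)))
    intro g
    obtain ⟨h, hh, z, hz, e⟩ := Subgroup.mem_sup_of_normal_right.1 (hsup ▸ Subgroup.mem_top g : g ∈ H ⊔ Subgroup.center G)
    exact ⟨h, hh, z, hz, e.symm⟩
  have hperf : commutator H = ⊤ := by
    rw [eq_top_iff]
    intro h _
    have hmap : commutator G ≤ (commutator H).map H.subtype := by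
      rw [commutator_def, Subgroup.commutator_le]
      intro a _ b _
      obtain ⟨a', ha', za, hza, rfl⟩ := hGHZ a
      obtain ⟨b', hb', zb, hzb, rfl⟩ := hGHZ b
      refine ⟨⁅(⟨a', ha'⟩ : H), ⟨b', hb'⟩⁆, Subgroup.commutator_mem_commutator (Subgroup.mem_top _) (Subgroup.mem_top _), ?_⟩
      have e1 : ∀ t : G, za * t = t * za := fun t => (Subgroup.mem_center_iff.1 hza t).symm
      have e2 : ∀ t : G, zb * t = t * zb := fun t => (Subgroup.mem_center_iff.1 hzb t).symm
      simp only [map_commutatorElement, Subgroup.coe_subtype, commutatorElement_def]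
      calc a' * b' * a'⁻¹ * b'⁻¹ = a' * (za * (b' * (zb * za⁻¹ * (a'⁻¹ * (zb⁻¹ * b'⁻¹))))) := by
            rw [show zb * za⁻¹ * (a'⁻¹ * (zb⁻¹ * b'⁻¹)) = za⁻¹ * (a'⁻¹ * (zb * (zb⁻¹ * b'⁻¹))) by
              rw [e2 za⁻¹]
              simp only [mul_assoc]
              rw [← mul_assoc zb a'⁻¹, e2 a'⁻¹, mul_assoc]]
            rw [mul_inv_cancel_left, ← mul_assoc b' za⁻¹, ← mul_assoc za (b' * za⁻¹), ← mul_assoc za b', e1 b',
              mul_inv_cancel_right]
            simp only [mul_assoc]
        _ = _ := by simp only [mul_inv_rev, mul_assoc]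
    obtain ⟨h', hh', e⟩ := hmap h.2
    rwa [← Subtype.ext e]
  exact ⟨hPH, hQnn, hQcard, hGHZ, hperf⟩

end CfsgLib.Char.FeitDegree.Perfect
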