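import Cfsg.Agent.Lib.Char.FeitDegree.Signs
import Cfsg.Agent.Lib.Char.FeitDegree.Induce
import Cfsg.Agent.Lib.Char.FeitDegree.Indec
import Cfsg.Agent.Lib.Char.FeitDegree.Lifts
import Cfsg.Agent.Lib.Char.FeitDegree.Members

/-!
# A lattice whose reduction splits into pieces over the normalizer

A lattice stably equal, over the normalizer, to the tensor square of a chain of length `e` has the
sign pattern of `(e + 1) / 2` pieces induced from two-orbit lattices.
-/

set_option autoImplicit false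

open scoped Classical

namespace CfsgLib.Char.FeitDegree.Pieces

open Cfsg CfsgLib CfsgLib.Blocks CfsgLib.Blocks.DefectOne CfsgLib.Blocks.ResidueAlgebra CfsgLib.CharDeep.ExactP Matrix
open CfsgLib.Char.DegHalf (Over)
open Setup Weight Block Stable Chains Lattice

/-- Reindexing is an isomorphism. -/
theorem stEq_reindex {R : Type*} [CommRing R] {G : Type*} [Group G] [Fintype G] {ι κ : Type*} [Fintype ι]
    [DecidableEq ι] [Fintype κ] [DecidableEq κ] (e : ι ≃ κ) (S : G →* Matrix ι ι R) :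
    StEq S (reindexRep e S) := by
  refine StEq.of_inv (a := (1 : Matrix ι ι R).submatrix e.symm id) (b := (1 : Matrix ι ι R).submatrix id e.symm)
    (fun g => ?_) ?_ ?_
  · show ((S g).submatrix e.symm e.symm * (1 : Matrix ι ι R).submatrix e.symm id : Matrix κ ι R) = _
    ext i j
    rw [Matrix.mul_apply, Matrix.mul_apply]
    simp only [Matrix.submatrix_apply, Matrix.one_apply, id_eq]
    rw [Finset.sum_eq_single (e j) (fun b _ hb => by
        rw [if_neg fun h => hb (by rw [← h, Equiv.apply_symm_apply]), mul_zero])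
      (fun h => absurd (Finset.mem_univ _) h), Finset.sum_eq_single (e.symm i) (fun b _ hb => by
        rw [if_neg (Ne.symm hb), zero_mul]) (fun h => absurd (Finset.mem_univ _) h)]
    simp
  · ext i j
    rw [Matrix.mul_apply, Finset.sum_eq_single (e i) (fun b _ hb => by
      simp only [Matrix.submatrix_apply, Matrix.one_apply, id_eq]
      rw [if_neg fun h => hb (by rw [h, Equiv.apply_symm_apply]), zero_mul])
      (fun h => absurd (Finset.mem_univ _) h)]
    simp [Matrix.one_apply]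
  · ext i j
    rw [Matrix.mul_apply, Finset.sum_eq_single (e.symm i) (fun b _ hb => by
      simp only [Matrix.submatrix_apply, Matrix.one_apply, id_eq]
      rw [if_neg (Ne.symm hb), zero_mul]) (fun h => absurd (Finset.mem_univ _) h)]
    simp [Matrix.one_apply]

/-- Stable equivalence restricts. -/
theorem stEq_res {R : Type*} [CommRing R] {G : Type*} [Group G] [Fintype G] (H : Subgroup G) [Fintype H]
    {ι κ : Type*} [Fintype ι] [DecidableEq ι] [Fintype κ] [DecidableEq κ] {S : G →* Matrix ι ι R}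
    {T : G →* Matrix κ κ R} (h : StEq S T) : StEq (S.comp H.subtype) (T.comp H.subtype) := by
  obtain ⟨a, b, ha, hb, h1, h2⟩ := h
  exact ⟨a, b, ha.res _, hb.res _, InI.restrict H h1, InI.restrict H h2⟩

universe u

variable {G : Type u} [Group G] [Fintype G] {p : ℕ} [hp : Fact p.Prime] {P : Sylow p G} {D : Frame P}
  {M₀ : Ideal AlgInt} {hM : IsPModular p M₀}

/-- The character of a lattice. -/
noncomputable def chr {ι : Type*} [Fintype ι] [DecidableEq ι] (S : G →* Matrix ι ι (localSubring hM)) (g : G) : ℂ :=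
  (((S g).trace : localSubring hM) : ℂ)

theorem isCharacter_chr {ι : Type*} [Fintype ι] [DecidableEq ι] (S : G →* Matrix ι ι (localSubring hM)) :
    Cfsg.IsCharacter G (chr S) := by
  let f : Matrix ι ι (localSubring hM) →+* Module.End ℂ (ι → ℂ) :=
    (Matrix.toLinAlgEquiv' (R := ℂ)).toRingEquiv.toRingHom.comp (localSubring hM).subtype.mapMatrix
  let ρ : Representation ℂ G (ι → ℂ) := f.toMonoidHom.comp S
  have h : ρ.character = chr S := by
    funext g
    show LinearMap.trace ℂ (ι → ℂ) (Matrix.toLin' ((S g).map (localSubring hM).subtype)) = _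
    rw [Matrix.trace_toLin'_eq, chr, ← AddMonoidHom.map_trace]
    rfl
  exact h ▸ Char.isCharacter_of_rep ρ

/-- The coefficients of a character over `μ`. -/
theorem exists_exp (hK : D.K0 = Subgroup.center G) {μ : IrrCharacter D.K0} {ψ : G → ℂ}
    (hψ : Cfsg.IsCharacter G ψ) (hov : Over μ ψ) :
    ∃ a : IrrCharacter G → ℕ, (∀ g, ψ g = ∑ φ, (a φ : ℂ) * (φ : G → ℂ) g) ∧
      ∀ φ, a φ ≠ 0 → Over μ (φ : G → ℂ) := by
  obtain ⟨m, hm, hexp⟩ := Char.IsCharacter.exists_multiplicity hψ
  exact ⟨m, hexp, fun φ hφ => DegHalf.over_constituent hK hov (by rw [hm, Nat.cast_ne_zero]; exact hφ)⟩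

/-- The trivial character of `K0`. -/
noncomputable def triv (D : Frame P) : IrrCharacter D.K0 := ⟨fun _ => 1, Char.isIrrCharacter_one⟩

theorem fdeg_triv : fdeg D (triv D) = 1 := by
  have h := irr_one_eq (triv D)
  simp only [triv] at h
  exact_mod_cast h.symm

theorem over_chr {ι : Type*} [Fintype ι] [DecidableEq ι] {S : G →* Matrix ι ι (localSubring hM)}
    (h : ∀ v : D.K0, S (v : G) = 1) : Over (triv D) (chr S) := fun g v => by
  rw [chr, chr, map_mul, h, Matrix.mul_one]
  exact (one_mul _).symm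

theorem isUnit_of_regular {g : G} (hg : ¬ p ∣ orderOf g) : IsUnit ((orderOf g : ℕ) : localSubring hM) := by
  refine (Indec.sys hM).unit _ ?_
  rw [map_natCast]
  haveI := BrouePuig.charP_residue hM
  exact fun h => hg ((CharP.cast_eq_zero_iff (Residue hM) p _).1 h)

variable (E : Norm.Split D) (B : Blk D (triv D))

/-- A lattice over `G` matching one over the normalizer, with the pattern of `cs` orbits in `q` pieces. -/
structure Good {ι κ : Type} [Fintype ι] [DecidableEq ι] [Fintype κ] [DecidableEq κ]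
    (Z : G →* Matrix ι ι (localSubring hM)) (Y : nrm P →* Matrix κ κ (localSubring hM)) (cs q : ℕ) : Prop where
  free : IsFreeRep (redRep (Indec.sys hM) Z)
  st : StEq ((redRep (Indec.sys hM) Z).comp (nrm P).subtype) (redRep (Indec.sys hM) Y)
  scal : ∀ v : D.K0, Z (v : G) = 1
  pat : ∃ (a : IrrCharacter G → ℕ) (n : ZMod p → ℤ),
    (∀ g, chr Z g = ∑ φ, (a φ : ℂ) * (φ : G → ℂ) g) ∧ (∀ φ, a φ ≠ 0 → Over (triv D) (φ : G → ℂ)) ∧
    (∀ b : ZMod p, b ≠ 0 → chr Z (D.x ^ b.val) = ∑ k, (n k : ℂ) * ZMod.stdAddChar (k * b)) ∧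
    (∑ k, n k) - (p : ℤ) * n 0 = (cs : ℤ) * Nat.card D.act.range ∧
    (B.δ = 1 → 0 ≤ B.sA a) ∧ (B.δ = -1 → B.sA a ≤ -(q : ℤ))

theorem good_empty : Good (hM := hM) B (ι := Fin 0) (κ := Fin 0) 1 1 0 0 := by
  refine ⟨fun i _ => ?_, StEq.of_inv (a := 1) (b := 1) (fun g => Subsingleton.elim _ _) (Subsingleton.elim _ _)
      (Subsingleton.elim _ _), fun v => rfl, fun _ => 0, fun _ => 0, fun g => ?_, fun φ h => absurd rfl h,
    fun b _ => ?_, by simp, fun _ => by simp [Blk.sA], fun _ => by simp [Blk.sA]⟩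
  · rw [Subsingleton.elim (1 + i) 1]
    exact isUnit_one
  · simp [chr, Matrix.trace]
  · simp [chr, Matrix.trace]

set_option maxHeartbeats 1000000 in
/-- One piece. -/
theorem good_piece (hK : D.K0 = Subgroup.center G) {κ : Type} [Fintype κ] [DecidableEq κ]
    (Y : nrm P →* Matrix κ κ (localSubring hM))
    (hY : ∀ (v : D.K0), Y ⟨v, D.K0_le_nrm v.2⟩ = 1) {n : ZMod p → ℤ}
    (hn : ∀ b : ℕ, (((Y (E.Δ.x ^ b)).trace : localSubring hM) : ℂ) = ∑ k, (n k : ℂ) * ZMod.stdAddChar (k * (b : ZMod p)))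
    {cs : ℕ} (hsum : (∑ k, n k) - (p : ℤ) * n 0 = (cs : ℤ) * Nat.card D.act.range)
    {m₀ m₁ : (ZMod p)ˣ} (h0 : n (m₀ : ZMod p) = n 0) (h1 : n (m₁ : ZMod p) = n 0 + 1) :
    ∃ (m : ℕ) (Z : G →* Matrix (Fin m) (Fin m) (localSubring hM)), Good B Z Y cs 1 := by
  haveI := Indec.isLocalRing hM
  haveI := BrouePuig.charP_residue hM
  set Ψ := Indec.sys hM
  have Lk : Local (Residue hM) (P : Subgroup G) (nrm P) := Norm.local_nrm D
  set e := Fintype.equivFin ((G ⧸ nrm P) × κ)
  set S := reindexRep e (Induce.ind Y) with hS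
  obtain ⟨m, m', X, Q, hfree, hst, hsumtr, hvan, hsc⟩ := exists_strip (p := p) Ψ S
  have hXv : ∀ v : D.K0, X (v : G) = 1 := fun v => by
    have hv : (v : G) ∈ Subgroup.center G := hK ▸ v.2
    have hz : ScalarAt S (v : G) (1 : localSubring hM) := by
      show (Matrix.reindexAlgEquiv (localSubring hM) (localSubring hM) e) (Induce.ind Y (v : G)) = _
      rw [Induce.scalarAt_ind Y hv (D.K0_le_nrm v.2) (c := 1) (by rw [hY v, one_smul]), map_smul, map_one]
    rw [(hsc _ _ hz).1, one_smul]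
  obtain ⟨a, ha, hsupp⟩ := exists_exp hK (isCharacter_chr X) (over_chr hXv)
  have hsing : ∀ b : ZMod p, b ≠ 0 → chr X (D.x ^ b.val) = ∑ k, (n k : ℂ) * ZMod.stdAddChar (k * b) := by
    intro b hb
    have hpb : ¬ p ∣ b.val := fun h => hb (by
      rw [← ZMod.natCast_zmod_val b, (ZMod.natCast_eq_zero_iff _ p).2 h])
    have h := hsumtr (D.x ^ b.val)
    rw [hvan D.x D.ord b.val hpb, add_zero, hS, trace_reindexRep] at h
    have hxb : D.x ^ b.val = ((E.Δ.x ^ b.val : nrm P) : G) := by rw [Subgroup.coe_pow, E.coe_x]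
    have Linst : Local (localSubring hM) (P : Subgroup G) (nrm P) := by
      refine ⟨Lk.le, Lk.ti, Ψ.unit _ ?_, Ψ.unit _ ?_⟩
      · rw [map_natCast]; exact Lk.index.ne_zero
      · rw [map_natCast]; exact Lk.relIndex.ne_zero
    rw [hxb, Induce.trace_ind_mem Linst Y (by rw [← hxb]; exact pow_mem D.x_mem _) ?_, ← hxb] at h
    · rw [chr, ← h, hn, ZMod.natCast_zmod_val]
    · rw [← hxb]
      intro hone
      exact hb (by
        have := orderOf_dvd_of_pow_eq_one hone
        rw [D.ord] at this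
        exact absurd this hpb)
  refine ⟨m, X, hfree, ?_, hXv, a, n, ha, hsupp, hsing, hsum, ?_, ?_⟩
  · have h1' : StEq (redRep Ψ S) ((redRep Ψ (Induce.ind Y))) := by
      have : redRep Ψ S = reindexRep e (redRep Ψ (Induce.ind Y)) := by
        ext g i j
        rfl
      rw [this]
      exact (stEq_reindex e _).symm
    refine ((stEq_res (nrm P) (hst.symm.trans h1'))).trans ?_
    rw [Induce.red_ind]
    exact Induce.stEq_ind Lk (redRep Ψ Y)
  · exact (B.sign_of_pattern ha hsupp hsing h0 h1).1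
  · intro hδ
    simpa using (B.sign_of_pattern ha hsupp hsing h0 h1).2 hδ

theorem good_dsum {ι κ ι' κ' : Type} [Fintype ι] [DecidableEq ι] [Fintype κ] [DecidableEq κ] [Fintype ι']
    [DecidableEq ι'] [Fintype κ'] [DecidableEq κ'] {Z : G →* Matrix ι ι (localSubring hM)}
    {Y : nrm P →* Matrix κ κ (localSubring hM)} {Z' : G →* Matrix ι' ι' (localSubring hM)}
    {Y' : nrm P →* Matrix κ' κ' (localSubring hM)} {cs q cs' q' : ℕ} (h : Good B Z Y cs q)
    (h' : Good B Z' Y' cs' q') : Good B (dsum Z Z') (dsum Y Y') (cs + cs') (q + q') := by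
  set Ψ := Indec.sys hM
  have hred : ∀ {A : Type u} [Group A] {α β : Type} [Fintype α] [DecidableEq α] [Fintype β] [DecidableEq β]
      (S : A →* Matrix α α (localSubring hM)) (T : A →* Matrix β β (localSubring hM)),
      redRep Ψ (dsum S T) = dsum (redRep Ψ S) (redRep Ψ T) := by
    intro A _ α β _ _ _ _ S T
    ext g (i | i) (j | j) <;> simp [redRep_apply, Lattice.red, dsum_apply]
  obtain ⟨a, n, ha, hs, hn, hsum, hp1, hm1⟩ := h.pat
  obtain ⟨a', n', ha', hs', hn', hsum', hp1', hm1'⟩ := h'.pat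
  refine ⟨?_, ?_, fun v => ?_, fun φ => a φ + a' φ, fun k => n k + n' k, fun g => ?_, fun φ hφ => ?_, fun b hb => ?_,
    ?_, fun hδ => ?_, fun hδ => ?_⟩
  · rw [hred]; exact h.free.dsum h'.free
  · rw [hred, hred]
    exact h.st.dsum h'.st
  · rw [dsum_apply, h.scal, h'.scal, fromBlocks_one]
  · rw [chr, trace_dsum, AddMemClass.coe_add]
    rw [show ((Z g).trace : ℂ) = chr Z g from rfl, show ((Z' g).trace : ℂ) = chr Z' g from rfl, ha, ha',
      ← Finset.sum_add_distrib]
    exact Finset.sum_congr rfl fun φ _ => by push_cast; ring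
  · by_cases h0 : a φ = 0
    · exact hs' φ (by simpa [h0] using hφ)
    · exact hs φ h0
  · rw [chr, trace_dsum, AddMemClass.coe_add]
    rw [show ((Z (D.x ^ b.val)).trace : ℂ) = chr Z (D.x ^ b.val) from rfl,
      show ((Z' (D.x ^ b.val)).trace : ℂ) = chr Z' (D.x ^ b.val) from rfl, hn b hb, hn' b hb,
      ← Finset.sum_add_distrib]
    exact Finset.sum_congr rfl fun k _ => by push_cast; ring
  · rw [Finset.sum_add_distrib]
    push_cast
    linear_combination hsum + hsum'
  · rw [B.sA_add]; linarith [hp1 hδ, hp1' hδ]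
  · rw [B.sA_add]; push_cast; linarith [hm1 hδ, hm1' hδ]

theorem pw_coe (s : ZMod p) :
    ((Gauss.pw (Indec.sys hM) s : localSubring hM) : ℂ) = (ZMod.stdAddChar s : ℂ) := by
  rw [Gauss.pw, SubmonoidClass.coe_pow]
  show (Indec.zeta hM : ℂ) ^ s.val = _
  rw [Indec.coe_zeta, ← AddChar.map_nsmul_eq_pow, nsmul_one, ZMod.natCast_zmod_val]

/-- A sum over the automizer as a sum against an indicator. -/
theorem sum_range_eq {inst : Fintype E.Δ.ε.range} (m : (ZMod p)ˣ) (f : ZMod p → ℂ) :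
    ∑ u : E.Δ.ε.range, f ((m * u : (ZMod p)ˣ) : ZMod p) = ∑ k, (((if k ∈ cos D m then 1 else 0 : ℤ)) : ℂ) * f k := by
  simp only [Int.cast_ite, Int.cast_one, Int.cast_zero, ite_mul, one_mul, zero_mul, Finset.sum_ite_mem,
    Finset.univ_inter]
  rw [cos, Finset.sum_image fun a _ b _ h => Subtype.ext (mul_left_cancel (Units.ext h))]
  exact Fintype.sum_equiv (MulEquiv.subgroupCongr (Norm.range_eps E)).toEquiv _ _ fun u => rfl

theorem exists_avoid (h3 : 3 * Nat.card D.act.range ≤ p - 1) (c c' : (ZMod p)ˣ) :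
    ∃ m : (ZMod p)ˣ, (m : ZMod p) ∉ cos D c ∧ (m : ZMod p) ∉ cos D c' := by
  by_contra h
  push Not at h
  have hle : (Finset.univ.erase (0 : ZMod p)).card ≤ (cos D c ∪ cos D c').card := Finset.card_le_card fun k hk => by
    rw [Finset.mem_union]
    by_contra hk'
    push Not at hk'
    exact hk'.2 (by simpa using h (Units.mk0 k (Finset.ne_of_mem_erase hk)) (by simpa using hk'.1))
  have := Finset.card_union_le (cos D c) (cos D c')
  rw [card_cos, card_cos] at this
  rw [Finset.card_erase_of_mem (Finset.mem_univ _), Finset.card_univ, ZMod.card] at hle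
  have := hp.out.two_le
  omega

variable [CharP (Residue hM) p]

set_option maxHeartbeats 2000000 in
/-- The family of pieces for the chains of lengths `2 f + 1`, `s ≤ f < s + r`. -/
theorem exists_family (hK : D.K0 = Subgroup.center G) (h3 : 3 * Nat.card D.act.range ≤ p - 1)
    (β₀ : E.Δ.A →* Residue hM) (hβ : ∀ a : E.Δ.A, E.Δ.ε a = 1 → β₀ a = 1) :
    ∀ r s : ℕ, 2 * s + r = Nat.card D.act.range →
      ∃ (ι κ K : Type) (_ : Fintype ι) (_ : DecidableEq ι) (_ : Fintype κ) (_ : DecidableEq κ) (_ : Fintype K)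
        (Z : G →* Matrix ι ι (localSubring hM)) (Y : nrm P →* Matrix κ κ (localSubring hM)) (f : K → ℕ)
        (v : K → κ → Residue hM),
        Good B Z Y r ((r + 1) / 2) ∧ Function.Injective f ∧ Set.range f = Set.Ico s (s + r) ∧
          IsChains E.Δ (redRep (Indec.sys hM) Y) (fun c => 2 * f c + 1)
            (fun c => β₀ * Translation.εk E.Δ (Residue hM) ^ (Nat.card D.act.range - 1 - f c)) v := by
  haveI := Indec.isLocalRing hM
  haveI := BrouePuig.charP_residue hM
  set e := Nat.card D.act.range with he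
  set Ψ := Indec.sys hM
  have hp2 : 2 < p := by
    have := Nat.card_pos (α := D.act.range)
    omega
  obtain ⟨Γ⟩ := Gauss.exists_data Ψ hp2
  have hrange : Nat.card E.Δ.ε.range = e := by rw [Norm.range_eps]
  have hβk : ∀ (j : ℕ) (a : E.Δ.A), E.Δ.ε a = 1 →
      (β₀ * Translation.εk E.Δ (Residue hM) ^ j : E.Δ.A →* Residue hM) a = 1 := fun j a ha => by
    rw [MonoidHom.mul_apply, hβ a ha, one_mul, MonoidHom.pow_apply, Translation.εk_eq, ha, Units.val_one,
      ZMod.val_one, Nat.cast_one, one_pow]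
  have hone : ∀ {κ : Type} [Fintype κ] [DecidableEq κ] (Y : nrm P →* Matrix κ κ (localSubring hM))
      (β : E.Δ.A →* Residue hM), (∀ a : E.Δ.A, E.Δ.ε a = 1 → β a = 1 → Y (a : nrm P) = 1) →
      (∀ a : E.Δ.A, E.Δ.ε a = 1 → β a = 1) → ∀ v : D.K0, Y ⟨v, D.K0_le_nrm v.2⟩ = 1 := by
    intro κ _ _ Y β hY hb v
    obtain ⟨a, ha, hea⟩ := Norm.exists_of_K0 E v
    rw [show (⟨v, D.K0_le_nrm v.2⟩ : nrm P) = (a : nrm P) from Subtype.ext ha.symm]
    exact hY a hea (hb a hea)
  intro r
  induction r using Nat.strong_induction_on with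
  | _ r ih =>
  intro s hs
  match r, ih, hs with
  | 0, _, _ =>
    refine ⟨Fin 0, Fin 0, Fin 0, inferInstance, inferInstance, inferInstance, inferInstance, inferInstance, 1, 1,
      Fin.elim0, Fin.elim0, good_empty B, fun a => a.elim0, ?_, ⟨fun c => c.elim0, fun c => c.elim0, ?_, by simp⟩⟩
    · ext l; simp
    · exact linearIndependent_empty_type
  | 1, _, hs =>
    obtain ⟨Y, v, hch, htr, hYA⟩ := Lifts.exists_single Γ E.Δ hp2 hrange 1
      (β₀ * Translation.εk E.Δ (Residue hM) ^ (e - 1 - s))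
    obtain ⟨m₀, hm₀, -⟩ := exists_avoid h3 (1 : (ZMod p)ˣ) 1
    obtain ⟨m, Z, hZ⟩ := good_piece E B hK Y (hone Y _ hYA (hβk _))
      (n := fun k => if k ∈ cos D (1 : (ZMod p)ˣ) then 1 else 0) (fun b => by
        rw [htr, AddSubmonoidClass.coe_finsetSum,
          ← sum_range_eq E (inst := Fintype.ofFinite _) 1 (fun k => (ZMod.stdAddChar (k * (b : ZMod p)) : ℂ))]
        exact Finset.sum_congr (Finset.ext fun u => by simp) fun u _ => by rw [pw_coe, mul_comm])
      (cs := 1) (by
        rw [if_neg (zero_notMem_cos D 1), Finset.sum_ite_mem, Finset.univ_inter, Finset.sum_const, card_cos]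
        simp)
      (m₀ := m₀) (m₁ := 1) (by rw [if_neg hm₀, if_neg (zero_notMem_cos D 1)]) (by
        rw [if_pos ((mem_cos_iff D 1 1).2 (by rw [inv_mul_cancel]; exact one_mem _)),
          if_neg (zero_notMem_cos D 1), zero_add])
    refine ⟨Fin m, Fin e, Unit, inferInstance, inferInstance, inferInstance, inferInstance, inferInstance, Z, Y,
      fun _ => s, fun _ => v, hZ, fun a b _ => rfl, ?_, ?_⟩
    · ext l; simp [Set.range_const]; omega
    · rwa [show (fun _ : Unit => e) = fun _ => 2 * s + 1 from funext fun _ => by omega] at hch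
  | r' + 2, ih, hs =>
    obtain ⟨ι, κ, K, i1, i2, i3, i4, i5, Z, Y, f, v, hZ, hf, hrf, hch⟩ := ih r' (by omega) (s + 1) (by omega)
    obtain ⟨m', hm', -⟩ := exists_avoid h3 (1 : (ZMod p)ˣ) 1
    obtain ⟨Y₂, v₂, hch₂, htr, hYA⟩ := Lifts.exists_pair Γ E.Δ hp2 hrange (n := r' + 1) (by omega) (by omega) 1 m'
      (fun h => hm' ((mem_cos_iff D 1 m').2 (Norm.range_eps E ▸ h))) (β₀ * Translation.εk E.Δ (Residue hM) ^ s)
    obtain ⟨m₀, hm₀, hm₀'⟩ := exists_avoid h3 (1 : (ZMod p)ˣ) m'
    have hdisj : ∀ k, k ∈ cos D (1 : (ZMod p)ˣ) → k ∉ cos D m' := by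
      intro k h1 h2
      obtain ⟨u, hu, rfl⟩ := (mem_cos D).1 h2
      have := (mem_cos_iff D 1 (m' * u)).1 h1
      rw [← mul_assoc] at this
      exact hm' ((mem_cos_iff D 1 m').2 ((Subgroup.mul_mem_cancel_right _ hu).1 this))
    obtain ⟨m, Z₂, hZ₂⟩ := good_piece E B hK Y₂ (hone Y₂ _ hYA (hβk _))
      (n := fun k => (if k ∈ cos D m' then 1 else 0) + (if k ∈ cos D (1 : (ZMod p)ˣ) then 1 else 0)) (fun b => by
        rw [htr, AddMemClass.coe_add, AddSubmonoidClass.coe_finsetSum, AddSubmonoidClass.coe_finsetSum]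
        simp only [Int.cast_add, add_mul, Finset.sum_add_distrib]
        rw [← sum_range_eq E (inst := Fintype.ofFinite _) m' (fun k => (ZMod.stdAddChar (k * (b : ZMod p)) : ℂ)),
          ← sum_range_eq E (inst := Fintype.ofFinite _) 1 (fun k => (ZMod.stdAddChar (k * (b : ZMod p)) : ℂ))]
        congr 1 <;> exact Finset.sum_congr (Finset.ext fun u => by simp) fun u _ => by rw [pw_coe, mul_comm])
      (cs := 2) (by
        simp only [if_neg (zero_notMem_cos D _), Finset.sum_add_distrib, Finset.sum_ite_mem, Finset.univ_inter,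
          Finset.sum_const, card_cos, nsmul_eq_mul, mul_one]
        push_cast
        ring)
      (m₀ := m₀) (m₁ := 1) (by simp [hm₀, hm₀', zero_notMem_cos]) (by
        have h1 : ((1 : (ZMod p)ˣ) : ZMod p) ∈ cos D (1 : (ZMod p)ˣ) :=
          (mem_cos_iff D 1 1).2 (by rw [inv_mul_cancel]; exact one_mem _)
        rw [if_neg (hdisj _ h1), if_pos h1, if_neg (zero_notMem_cos D m'), if_neg (zero_notMem_cos D 1)]
        ring)
    refine ⟨ι ⊕ Fin m, κ ⊕ (Fin e ⊕ Fin e), K ⊕ Bool, inferInstance, inferInstance, inferInstance, inferInstance,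
      inferInstance, dsum Z Z₂, dsum Y Y₂, Sum.elim f (fun c => cond c (s + (r' + 1)) s),
      Sum.elim (fun c => Sum.elim (v c) 0) (fun c => Sum.elim 0 (v₂ c)), ?_, ?_, ?_, ?_⟩
    pick_goal 4
    · have h := hch.dsum hch₂
      have hred : redRep Ψ (dsum Y Y₂) = dsum (redRep Ψ Y) (redRep Ψ Y₂) := by
        ext g (i | i) (j | j) <;> simp [redRep_apply, Lattice.red, dsum_apply]
      rw [hred]
      convert h using 2 with c c
      · rcases c with c | (_ | _) <;> simp <;> omega
      · rcases c with c | (_ | _)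
        · rfl
        · simp only [Sum.elim_inr, cond_false, mul_assoc, ← pow_add]
          congr 2
          omega
        · simp only [Sum.elim_inr, cond_true]
          congr 2
          omega
    · have h := good_dsum B hZ hZ₂
      rwa [show (r' + 1) / 2 + 1 = (r' + 2 + 1) / 2 by omega] at h
    · have hm : ∀ c, s + 1 ≤ f c ∧ f c < s + 1 + r' := fun c => by
        have : f c ∈ Set.range f := ⟨c, rfl⟩
        rw [hrf] at this
        exact this
      refine Function.Injective.sumElim hf (fun a b h => ?_) fun a b h => ?_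
      · rcases a <;> rcases b <;> simp at h <;> first | rfl | omega
      · have := hm a
        rcases b <;> simp at h <;> omega
    · rw [Set.Sum.elim_range, hrf]
      ext l
      simp only [Set.mem_union, Set.mem_Ico, Set.mem_range, Bool.exists_bool, cond_false, cond_true]
      omega

set_option maxHeartbeats 1000000 in
/-- The sign of a lattice stably equal to the tensor square of a chain of length `e`. -/
theorem sign_sA (hK : D.K0 = Subgroup.center G) (h3 : 3 * Nat.card D.act.range ≤ p - 1)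
    {d : ℕ} (S : G →* Matrix (Fin d) (Fin d) (localSubring hM)) (hS : ∀ v : D.K0, S (v : G) = 1)
    {W : Type} [Fintype W] [DecidableEq W] (T : nrm P →* Matrix W W (Residue hM))
    (hT : StEq ((redRep (Indec.sys hM) S).comp (nrm P).subtype) T) (hTfree : IsFreeRep T)
    (β₀ : E.Δ.A →* Residue hM) (hβ : ∀ a : E.Δ.A, E.Δ.ε a = 1 → β₀ a = 1)
    {v : Fin (Nat.card D.act.range) → W → Residue hM}
    (hch : IsChains E.Δ T (fun m : Fin (Nat.card D.act.range) => 2 * (m : ℕ) + 1)
      (fun m => β₀ * Translation.εk E.Δ (Residue hM) ^ (Nat.card D.act.range - 1 - (m : ℕ))) v)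
    {a : IrrCharacter G → ℕ} (ha : ∀ g, chr S g = ∑ φ, (a φ : ℂ) * (φ : G → ℂ) g)
    {n : ZMod p → ℤ} (hn : ∀ b : ZMod p, b ≠ 0 → chr S (D.x ^ b.val) = ∑ k, (n k : ℂ) * ZMod.stdAddChar (k * b))
    (hsum : (∑ k, n k) - (p : ℤ) * n 0 = (Nat.card D.act.range : ℤ) * Nat.card D.act.range) :
    (B.δ = 1 → 0 ≤ B.sA a) ∧
      (B.δ = -1 → B.sA a ≤ -(((Nat.card D.act.range + 1) / 2 : ℕ) : ℤ)) := by
  haveI := Indec.isLocalRing hM
  haveI := BrouePuig.charP_residue hM
  set Ψ := Indec.sys hM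
  set e := Nat.card D.act.range
  obtain ⟨ι, κ, K, i1, i2, i3, i4, i5, Z, Y, f, w, hZ, hf, hrf, hY⟩ :=
    exists_family E B hK h3 β₀ hβ e 0 (by simp [e])
  have hlt : ∀ c, f c < e := fun c => by
    have : f c ∈ Set.range f := ⟨c, rfl⟩
    rw [hrf] at this
    simpa using this.2
  let eq : K ≃ Fin e := Equiv.ofBijective (fun c => (⟨f c, hlt c⟩ : Fin e))
    ⟨fun a b h => hf (Fin.ext_iff.1 h), fun m => by
      have : (m : ℕ) ∈ Set.range f := by rw [hrf]; exact ⟨Nat.zero_le _, by simp⟩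
      obtain ⟨c, hc⟩ := this
      exact ⟨c, Fin.ext hc⟩⟩
  obtain ⟨A, A', hA, hA1, hA2⟩ := hY.iso hch eq (fun c => rfl) fun c => rfl
  obtain ⟨m, m', X, Q, hfree, hst, htr, hvan, hsc⟩ := exists_strip (p := p) Ψ S
  have hXv : ∀ u : D.K0, X (u : G) = 1 ∧ Q (u : G) = 1 := fun u => by
    obtain ⟨h1, h2⟩ := hsc (u : G) 1 (by show S (u : G) = _; rw [hS, one_smul])
    exact ⟨by rw [h1, one_smul], by rw [h2, one_smul]⟩
  -- the reductions agree
  have hN : StEq ((redRep Ψ X).comp (nrm P).subtype) ((redRep Ψ Z).comp (nrm P).subtype) :=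
    ((stEq_res (nrm P) hst).symm.trans hT).trans ((StEq.of_inv hA hA1 hA2).symm.trans hZ.st.symm)
  obtain ⟨I, J, hI, hIJ, hJI⟩ := (StEq.induce (Norm.local_nrm D) hN).iso hfree hZ.free
  have hreg : ∀ g : G, ¬ p ∣ orderOf g → chr X g = chr Z g := fun g hg => by
    rw [chr, chr, trace_eq_of_iso Ψ X Z hI hIJ hJI (isUnit_of_regular hg)]
  obtain ⟨aX, haX, hsX⟩ := exists_exp hK (isCharacter_chr X) (over_chr fun u => (hXv u).1)
  obtain ⟨aQ, haQ, hsQ⟩ := exists_exp hK (isCharacter_chr Q) (over_chr fun u => (hXv u).2)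
  obtain ⟨aZ, nZ, haZ, hsZ, hnZ, hsumZ, hpZ, hmZ⟩ := hZ.pat
  have hQ0 : ∀ b : ZMod p, b ≠ 0 → chr Q (D.x ^ b.val) = 0 := fun b hb => by
    rw [chr, hvan D.x D.ord b.val fun h => hb (by
      rw [← ZMod.natCast_zmod_val b, (ZMod.natCast_eq_zero_iff _ p).2 h])]
    rfl
  have hsplit : ∀ g, chr S g = chr X g + chr Q g := fun g => by
    rw [chr, chr, chr, htr]
    rfl
  have hnX : ∀ b : ZMod p, b ≠ 0 → chr X (D.x ^ b.val) = ∑ k, (n k : ℂ) * ZMod.stdAddChar (k * b) := fun b hb => by
    rw [← hn b hb, hsplit, hQ0 b hb, add_zero]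
  have hadd : a = fun φ => aX φ + aQ φ := by
    funext φ
    have h := eq_zero_of_rel (c := fun φ => (a φ : ℂ) - (aX φ : ℂ) - (aQ φ : ℂ)) (fun g => by
      simp only [sub_mul, Finset.sum_sub_distrib]
      rw [← ha, ← haX, ← haQ, hsplit]
      ring) φ
    have h' : (a φ : ℂ) = ((aX φ + aQ φ : ℕ) : ℂ) := by push_cast; linear_combination h
    exact_mod_cast h'
  have hXZ : B.sA aX = B.sA aZ :=
    B.sA_eq haX haZ hsX hsZ hnX hnZ (by rw [hsum, hsumZ]) hreg
  have hQ := B.sign_of_zero haQ hsQ hQ0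
  refine ⟨fun hδ => ?_, fun hδ => ?_⟩
  · rw [hadd, B.sA_add, hXZ]
    linarith [hpZ hδ, hQ.1 hδ]
  · rw [hadd, B.sA_add, hXZ]
    linarith [hmZ hδ, hQ.2 hδ]

end CfsgLib.Char.FeitDegree.Pieces
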