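import Cfsg.Agent.Lib.Char.FeitDegree.Kernel
import Cfsg.Agent.Lib.Char.FeitDegree.Indec
import Cfsg.Agent.Lib.Char.FeitDegree.Pieces
import Mathlib.FieldTheory.IntermediateField.Adjoin.Basic

/-!
# The reduction of a faithful lattice

The element of order `p` acts nontrivially, and unipotently of index bounded by the number of its
eigenvalues. Elements of the residue field lie in finite fields.
-/

set_option autoImplicit false

open scoped Classical

namespace CfsgLib.Char.FeitDegree.Reduction

open Cfsg CfsgLib CfsgLib.Blocks CfsgLib.Blocks.DefectOne CfsgLib.Blocks.ResidueAlgebra CfsgLib.CharDeep.ExactP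
open Matrix hiding trace
open Polynomial hiding funext

universe u

variable {p : ℕ} [hp : Fact p.Prime] {M₀ : Ideal AlgInt} {hM : IsPModular p M₀}

/-- Every element of the residue field lies in a finite field. -/
theorem residue_pow (a : Residue hM) : ∃ n : ℕ, 0 < n ∧ a ^ (p ^ n) = a := by
  haveI := BrouePuig.charP_residue hM
  letI : Algebra (ZMod p) (Residue hM) := ZMod.algebra (Residue hM) p
  obtain ⟨z, rfl⟩ := TwoCharacters.redInt_surjective hM a
  have hz : IsIntegral ℤ z := by
    obtain ⟨Q, hQm, hQ⟩ := (z.2 : IsIntegral ℤ (z : ℂ))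
    refine ⟨Q, hQm, Subtype.ext ?_⟩
    refine (hom_eval₂ Q _ (SubringClass.subtype AlgInt : AlgInt →+* ℂ) z).trans ?_
    rw [RingHom.ext_int ((SubringClass.subtype AlgInt : AlgInt →+* ℂ).comp (algebraMap ℤ AlgInt)) (algebraMap ℤ ℂ)]
    exact hQ
  have h1 : IsIntegral ℤ (TwoCharacters.redInt hM z) := hz.map (TwoCharacters.redInt hM).toIntAlgHom
  haveI : IsScalarTower ℤ (ZMod p) (Residue hM) := IsScalarTower.of_algebraMap_eq' (RingHom.ext_int _ _)
  have hint : IsIntegral (ZMod p) (TwoCharacters.redInt hM z) := h1.tower_top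
  set F := IntermediateField.adjoin (ZMod p) {TwoCharacters.redInt hM z}
  haveI : FiniteDimensional (ZMod p) F := IntermediateField.adjoin.finiteDimensional hint
  haveI : Finite F := Module.finite_of_finite (ZMod p)
  letI : Fintype F := Fintype.ofFinite F
  have hcard : Fintype.card F = p ^ Module.finrank (ZMod p) F := by
    rw [Module.card_eq_pow_finrank (K := ZMod p) (V := F), ZMod.card]
  refine ⟨Module.finrank (ZMod p) F, Module.finrank_pos, ?_⟩
  have := congrArg Subtype.val (FiniteField.pow_card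
    (⟨TwoCharacters.redInt hM z, IntermediateField.mem_adjoin_simple_self (ZMod p) _⟩ : F))
  rwa [hcard, SubmonoidClass.coe_pow] at this

variable {G : Type u} [Group G] [Fintype G] {P : Sylow p G} {D : Frame P} {ζ : IrrCharacter G} {n : ℕ}
  {S : G →* Matrix (Fin n) (Fin n) (localSubring hM)}

/-- The element of order `p` acts nontrivially on the reduction. -/
theorem tee_ne_zero (hnn : ¬ (P : Subgroup G).Normal)
    (hfaith : ∀ g : G, (ζ : G → ℂ) g = (ζ : G → ℂ) 1 → g = 1) (hS : ∀ g, (ζ : G → ℂ) g = Pieces.chr S g) :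
    Lattice.redRep (Indec.sys hM) S D.x - 1 ≠ 0 := by
  set Ψ := Indec.sys hM
  intro h0
  set K := (Lattice.redRep Ψ S).toHomUnits.ker with hKdef
  have hmem : ∀ g, g ∈ K ↔ Lattice.redRep Ψ S g = 1 := fun g => by
    rw [hKdef, MonoidHom.mem_ker, Units.ext_iff]
    rfl
  have hxK : D.x ∈ K := (hmem _).2 (sub_eq_zero.1 h0)
  have hreg : ∀ g ∈ K, ¬ p ∣ orderOf g → g = 1 := by
    intro g hg hgp
    refine hfaith g ?_
    have h := Lattice.trace_eq_of_iso Ψ (S.comp K.subtype) (1 : K →* Matrix (Fin n) (Fin n) (localSubring hM))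
      (a := 1) (b := 1) (fun v => ?_) (one_mul 1) (one_mul 1) (g := ⟨g, hg⟩)
      (by rw [Subgroup.orderOf_mk]; exact Pieces.isUnit_of_regular hgp)
    · rw [hS, hS, Pieces.chr, Pieces.chr, show (S g).trace = (S.comp K.subtype ⟨g, hg⟩).trace from rfl, h, map_one,
        MonoidHom.one_apply]
    · show Lattice.red Ψ ((1 : K →* Matrix (Fin n) (Fin n) (localSubring hM)) v) * 1
        = 1 * Lattice.redRep Ψ S (v : G)
      rw [MonoidHom.one_apply, Lattice.red_one, (hmem _).1 v.2]
  have hpK : IsPGroup p K := by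
    refine IsPGroup.of_card (Nat.eq_prime_pow_of_unique_prime_dvd (p := p) (Nat.card_pos (α := K)).ne'
      fun {q} hq hqK => ?_)
    haveI := Fact.mk hq
    obtain ⟨y, hy⟩ := exists_prime_orderOf_dvd_card' q hqK
    by_contra hne
    have hyo : orderOf (y : G) = q := by rw [Subgroup.orderOf_coe]; exact hy
    have h1 := hreg _ y.2 (by
      rw [hyo]
      exact fun h => hne ((Nat.prime_dvd_prime_iff_eq hp.out hq).1 h).symm)
    rw [h1, orderOf_one] at hyo
    exact hq.one_lt.ne hyo
  have hKP : K ≤ (P : Subgroup G) :=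
    le_trans le_sup_left (P.3 (IsPGroup.to_sup_of_normal_left hpK P.2) le_sup_right).le
  have hKeq : K = (P : Subgroup G) :=
    le_antisymm hKP (D.zp ▸ Subgroup.zpowers_le.2 hxK)
  exact hnn (hKeq ▸ MonoidHom.normal_ker _)

/-- Few eigenvalues give a small index of nilpotency. -/
theorem tee_pow_of_supp (hS : ∀ g, (ζ : G → ℂ) g = Pieces.chr S g) (C : Finset (ZMod p))
    (hC : ∀ k ∉ C, nP D ζ k = 0) : (Lattice.redRep (Indec.sys hM) S D.x - 1) ^ C.card = 0 := by
  set Ψ := Indec.sys hM
  set ιM := ((localSubring hM).subtype).mapMatrix (m := Fin n) with hιM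
  set F : ZMod p → Matrix (Fin n) (Fin n) ℂ := fun a => ιM (S (D.x ^ a.val)) with hFdef
  have hFadd : ∀ a b, F a * F b = F (a + b) := fun a b => by
    simp only [hFdef]
    rw [← map_mul, ← map_mul, D.xpow_add]
  have hF0 : F 0 = 1 := by simp [hFdef]
  have hFtr : ∀ a, (F a).trace = (ζ : G → ℂ) (D.x ^ a.val) := fun a => by
    rw [hS, Pieces.chr]
    exact (AddMonoidHom.map_trace (localSubring hM).subtype _).symm
  have hp0 : (p : ℂ) ≠ 0 := Nat.cast_ne_zero.2 hp.out.ne_zero
  set π : ZMod p → Matrix (Fin n) (Fin n) ℂ := fun s =>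
    (p : ℂ)⁻¹ • ∑ a, (ZMod.stdAddChar (-(s * a)) : ℂ) • F a with hπdef
  have hshift : ∀ s b, F b * π s = (ZMod.stdAddChar (s * b) : ℂ) • π s := fun s b => by
    simp only [hπdef]
    rw [Matrix.mul_smul, smul_comm (ZMod.stdAddChar (s * b) : ℂ) (p : ℂ)⁻¹]
    congr 1
    rw [Finset.mul_sum, Finset.smul_sum]
    refine Fintype.sum_equiv (Equiv.addLeft b) _ _ fun a => ?_
    rw [Equiv.coe_addLeft, Matrix.mul_smul, hFadd, smul_smul, ← AddChar.map_add_eq_mul]
    congr 2
    ring
  have hidem : ∀ s, π s * π s = π s := fun s => by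
    conv_lhs => arg 1; simp only [hπdef]
    rw [Matrix.smul_mul, Finset.sum_mul, Finset.sum_congr rfl (g := fun _ => π s) fun a _ => by
      rw [Matrix.smul_mul, hshift, smul_smul, ← AddChar.map_add_eq_mul, neg_add_cancel, AddChar.map_zero_eq_one,
        one_smul],
      Finset.sum_const, Finset.card_univ, ZMod.card, ← Nat.cast_smul_eq_nsmul ℂ, smul_smul, inv_mul_cancel₀ hp0,
      one_smul]
  have htr : ∀ s, (π s).trace = (nP D ζ s : ℂ) := fun s => by
    simp only [hπdef, Matrix.trace_smul, Matrix.trace_sum, smul_eq_mul, hFtr, apply_xpow D, Finset.mul_sum]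
    rw [Finset.sum_comm, Finset.sum_eq_single s]
    · rw [Finset.sum_congr rfl (g := fun _ : ZMod p => (p : ℂ)⁻¹ * nP D ζ s) fun a _ => by
        rw [mul_left_comm (ZMod.stdAddChar (-(s * a)) : ℂ), ← AddChar.map_add_eq_mul, neg_add_cancel,
          AddChar.map_zero_eq_one, mul_one],
        Finset.sum_const, Finset.card_univ, ZMod.card, nsmul_eq_mul, ← mul_assoc, mul_inv_cancel₀ hp0, one_mul]
    · intro k _ hk
      simp only [mul_left_comm (ZMod.stdAddChar (-(s * _)) : ℂ), ← AddChar.map_add_eq_mul,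
        fun a : ZMod p => show -(s * a) + k * a = (k - s) * a by ring, ← Finset.mul_sum, Frame.sum_std',
        if_neg (sub_ne_zero.2 hk), mul_zero]
    · exact fun h => absurd (Finset.mem_univ s) h
  have hzero : ∀ s ∉ C, π s = 0 := fun s hs => by
    refine Matrix.toLin'.injective ?_
    rw [map_zero]
    refine LinearMap.IsIdempotentElem.eq_zero_of_trace_eq_zero ?_ ?_
    · show Matrix.toLin' (π s) * Matrix.toLin' (π s) = Matrix.toLin' (π s)
      rw [Module.End.mul_eq_comp, ← Matrix.toLin'_mul, hidem]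
    · rw [Matrix.trace_toLin'_eq, htr, hC s hs, Nat.cast_zero]
  have hsum : ∑ s, π s = 1 := by
    simp only [hπdef, ← Finset.smul_sum]
    rw [Finset.sum_comm, Finset.sum_eq_single (0 : ZMod p)]
    · simp [hF0, ← Nat.cast_smul_eq_nsmul ℂ, smul_smul, hp0]
    · intro a _ ha
      rw [← Finset.sum_smul, show (∑ s : ZMod p, (ZMod.stdAddChar (-(s * a)) : ℂ)) = 0 from ?_, zero_smul]
      simp only [← mul_neg, Frame.sum_std, if_neg (neg_ne_zero.2 ha)]
    · exact fun h => absurd (Finset.mem_univ _) h
  -- the polynomial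
  set fR : (localSubring hM)[X] := ∏ s ∈ C, (Polynomial.X - Polynomial.C (Gauss.pw Ψ s)) with hfR
  have heig : ∀ (q : ℂ[X]) s, aeval (F 1) q * π s = q.eval (ZMod.stdAddChar s : ℂ) • π s := by
    intro q s
    induction q using Polynomial.induction_on' with
    | add q q' h h' => rw [map_add, Matrix.add_mul, h, h', eval_add, add_smul]
    | monomial j c =>
      rw [aeval_monomial, ← Algebra.smul_def, Matrix.smul_mul, eval_monomial, mul_smul]
      congr 1
      induction j with
      | zero => simp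
      | succ j ih =>
        rw [pow_succ, Matrix.mul_assoc, hshift, mul_one, Matrix.mul_smul, ih, smul_smul, pow_succ, mul_comm]
  have hC0 : aeval (F 1) (fR.map (localSubring hM).subtype) = 0 := by
    rw [← mul_one (aeval (F 1) _), ← hsum, Finset.mul_sum]
    refine Finset.sum_eq_zero fun s _ => ?_
    by_cases hs : s ∈ C
    · rw [heig, hfR, Polynomial.map_prod, eval_prod, Finset.prod_eq_zero hs, zero_smul]
      rw [Polynomial.map_sub, Polynomial.map_X, Polynomial.map_C, eval_sub, eval_X, eval_C, sub_eq_zero]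
      exact (Pieces.pw_coe s).symm
    · rw [hzero s hs, Matrix.mul_zero]
  have hFx : F 1 = ιM (S D.x) := by
    simp only [hFdef]
    rw [ZMod.val_one, pow_one]
  have hR : aeval (S D.x) fR = 0 := by
    refine Matrix.map_injective (f := (localSubring hM).subtype) Subtype.val_injective ?_
    show ιM (aeval (S D.x) fR) = ιM 0
    rw [map_zero, ← hC0, hFx, aeval_def, aeval_def, hom_eval₂, eval₂_map]
    congr 1
    refine RingHom.ext fun r => ?_
    ext i j
    simp [hιM, Algebra.algebraMap_eq_smul_one, Matrix.one_apply]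
    split_ifs <;> rfl
  have h := congrArg (Ψ.π.mapMatrix (m := Fin n)) hR
  rw [map_zero, aeval_def, hom_eval₂] at h
  have hcomp : (Ψ.π.mapMatrix (m := Fin n)).comp (algebraMap (localSubring hM) (Matrix (Fin n) (Fin n) (localSubring hM)))
      = (algebraMap (Residue hM) (Matrix (Fin n) (Fin n) (Residue hM))).comp Ψ.π := by
    refine RingHom.ext fun r => ?_
    ext i j
    simp [Algebra.algebraMap_eq_smul_one, Matrix.one_apply, apply_ite Ψ.π]
  rw [hcomp, ← eval₂_map, hfR, Polynomial.map_prod, Finset.prod_congr rfl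
    (g := fun _ => (Polynomial.X : (Residue hM)[X]) - 1) fun s _ => ?_, Finset.prod_const] at h
  · rw [← aeval_def, map_pow, map_sub, aeval_X, map_one] at h
    exact h
  · rw [Polynomial.map_sub, Polynomial.map_X, Polynomial.map_C, Gauss.red_pw, map_one]

end CfsgLib.Char.FeitDegree.Reduction
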