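import Cfsg.Agent.Lib.Char.FeitDegree.Pieces

/-!
# Central elements act on a lattice as scalars
-/

set_option autoImplicit false

open scoped Classical ComplexConjugate

namespace CfsgLib.Char.FeitDegree.Scalar

open Cfsg CfsgLib CfsgLib.Blocks CfsgLib.Blocks.DefectOne CfsgLib.Blocks.ResidueAlgebra CfsgLib.CharDeep.ExactP Matrix
open CfsgLib.Char.DegHalf (Over norm_linear)

universe u

variable {G : Type u} [Group G] [Fintype G] {p : ℕ} [hp : Fact p.Prime] {P : Sylow p G} {D : Frame P}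
  {M₀ : Ideal AlgInt} {hM : IsPModular p M₀} {θ : IrrCharacter D.K0}

theorem apply_inv (_hθ : fdeg D θ = 1) (v : D.K0) : (θ : D.K0 → ℂ) v⁻¹ = conj ((θ : D.K0 → ℂ) v) :=
  Char.IsIrrCharacter.apply_inv θ.2 v

theorem exists_scalar (_hK : D.K0 = Subgroup.center G) (hθ : fdeg D θ = 1) {φ : IrrCharacter G}
    (hov : Over θ (φ : G → ℂ)) {n : ℕ} {L : G →* Matrix (Fin n) (Fin n) (localSubring hM)}
    (hL : ∀ g, (φ : G → ℂ) g = Pieces.chr L g) (v : D.K0) :
    ∃ r : localSubring hM, L (v : G) = r • 1 ∧ (r : ℂ) = (θ : D.K0 → ℂ) v := by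
  let f : Matrix (Fin n) (Fin n) (localSubring hM) →+* Module.End ℂ (Fin n → ℂ) :=
    (Matrix.toLinAlgEquiv' (R := ℂ)).toRingEquiv.toRingHom.comp (localSubring hM).subtype.mapMatrix
  let ρ : Representation ℂ G (Fin n → ℂ) := f.toMonoidHom.comp L
  have hρ : ∀ g, ρ.character g = (φ : G → ℂ) g := fun g => by
    rw [hL]
    show LinearMap.trace ℂ (Fin n → ℂ) (Matrix.toLin' ((L g).map (localSubring hM).subtype)) = _
    rw [Matrix.trace_toLin'_eq, Pieces.chr, ← AddMonoidHom.map_trace]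
    rfl
  have hn : (n : ℂ) = (φ : G → ℂ) 1 := by
    rw [← hρ 1, Representation.char_one]
    simp
  have hv : (φ : G → ℂ) (v : G) = (θ : D.K0 → ℂ) v * (n : ℂ) := by
    have := hov 1 v
    rwa [one_mul, ← hn] at this
  obtain ⟨ω, -, hω, hωc⟩ := Char.exists_scalar_of_norm_char_eq ρ (v : G) (by
    rw [hρ, hv, norm_mul, norm_linear hθ, one_mul, Complex.norm_natCast]
    simp)
  have hn0 : n ≠ 0 := fun h0 => irr_one_ne_zero φ (by rw [← hn, h0, Nat.cast_zero])
  have hωθ : ω = (θ : D.K0 → ℂ) v := by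
    rw [hρ, hv, Module.finrank_fintype_fun_eq_card, Fintype.card_fin, mul_comm] at hωc
    exact (mul_left_cancel₀ (Nat.cast_ne_zero.2 hn0) hωc).symm
  subst hωθ
  have hent : ∀ i j, ((L (v : G) i j : localSubring hM) : ℂ) = if i = j then (θ : D.K0 → ℂ) v else 0 := by
    intro i j
    have h := congrFun (LinearMap.congr_fun hω (Pi.single j 1)) i
    have h' : Matrix.toLin' ((L (v : G)).map (localSubring hM).subtype) (Pi.single j 1) i
        = ((θ : D.K0 → ℂ) v • (LinearMap.id : (Fin n → ℂ) →ₗ[ℂ] Fin n → ℂ)) (Pi.single j 1) i := h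
    simpa [Matrix.toLin'_apply, Pi.single_apply] using h'
  obtain ⟨i₀⟩ : Nonempty (Fin n) := ⟨⟨0, Nat.pos_of_ne_zero hn0⟩⟩
  refine ⟨L (v : G) i₀ i₀, ?_, by rw [hent, if_pos rfl]⟩
  ext i j
  rw [Matrix.smul_apply, Matrix.one_apply, smul_eq_mul, mul_ite, mul_one, mul_zero, hent]
  split_ifs
  · rw [hent, if_pos rfl]
  · rfl

end CfsgLib.Char.FeitDegree.Scalar
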