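import Cfsg.Agent.Lib.Char.DegHalf.Data

/-!
# Faithful characters of degree at most `p - 2`: the multiplicities over the centralizer

Either the eigenvalues of an element of order `p` lie in one orbit of a small automizer, or the
degree is half of `p - 1`, or it is `p - e` and the eigenvalues avoid exactly one orbit.
-/

set_option autoImplicit false

open scoped ComplexConjugate Classical

namespace CfsgLib.Char.FeitDegree.Setup

open Cfsg CfsgLib CfsgLib.Blocks CfsgLib.Blocks.DefectOne CfsgLib.CharDeep.ExactP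
open CfsgLib.Char.DegHalf (Over exists_scalar)

universe u

variable {G : Type u} [Group G] [Fintype G] {p : ℕ} [hp : Fact p.Prime] {P : Sylow p G} (D : Frame P)

/-- The orbit of `c` under the automizer. -/
noncomputable def cos (c : (ZMod p)ˣ) : Finset (ZMod p) :=
  (Finset.univ : Finset D.act.range).image fun u : D.act.range => ((c * u : (ZMod p)ˣ) : ZMod p)

theorem mem_cos {c : (ZMod p)ˣ} {k : ZMod p} :
    k ∈ cos D c ↔ ∃ u ∈ D.act.range, ((c * u : (ZMod p)ˣ) : ZMod p) = k := by
  simp only [cos, Finset.mem_image, Finset.mem_univ, true_and]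
  exact ⟨fun ⟨⟨u, hu⟩, h⟩ => ⟨u, hu, h⟩, fun ⟨u, hu, h⟩ => ⟨⟨u, hu⟩, h⟩⟩

theorem mem_cos_iff (c m : (ZMod p)ˣ) : (m : ZMod p) ∈ cos D c ↔ c⁻¹ * m ∈ D.act.range := by
  rw [mem_cos]
  constructor
  · rintro ⟨u, hu, h⟩
    rwa [← Units.ext h, inv_mul_cancel_left]
  · exact fun h => ⟨_, h, by rw [mul_inv_cancel_left]⟩

theorem zero_notMem_cos (c : (ZMod p)ˣ) : (0 : ZMod p) ∉ cos D c := fun h => by
  obtain ⟨u, -, h⟩ := (mem_cos D).1 h
  exact Units.ne_zero _ h

theorem card_cos (c : (ZMod p)ˣ) : (cos D c).card = Nat.card D.act.range := by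
  rw [cos, Finset.card_image_of_injective _ fun a b h => Subtype.ext (mul_left_cancel (Units.ext h)),
    Finset.card_univ, Nat.card_eq_fintype_card]

/-- The eigenvalues of `x` fill at most one small orbit. -/
structure Few (ζ : IrrCharacter G) : Prop where
  small : 3 * Nat.card D.act.range ≤ p - 1
  supp : ∃ c : (ZMod p)ˣ, ∀ k ∉ cos D c, nP D ζ k = 0

/-- The eigenvalues of `x` avoid exactly one orbit. -/
structure Minus (ζ : IrrCharacter G) (θ : IrrCharacter D.K0) (c : (ZMod p)ˣ) : Prop where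
  theta_one : fdeg D θ = 1
  K0_eq : D.K0 = Subgroup.center G
  deg : charDegree (ζ : G → ℂ) + Nat.card D.act.range = p
  mult_eq : ∀ k, mult D θ ζ k = if k ∈ cos D c then 0 else 1
  mult_ne : ∀ θ', θ' ≠ θ → ∀ k, mult D θ' ζ k = 0
  ov : Over θ (ζ : G → ℂ)

variable {D}

theorem inf_center (D : Frame P) (hnn : ¬ (P : Subgroup G).Normal) : (P : Subgroup G) ⊓ Subgroup.center G = ⊥ := by
  by_contra hne
  obtain ⟨w, hw, hw1⟩ := (Subgroup.bot_or_exists_ne_one _).resolve_left hne
  refine hnn ?_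
  have hle : (P : Subgroup G) ≤ Subgroup.center G := by
    rw [← PrimeOrder.zpowers_eq P D.card_P hw.1 hw1, Subgroup.zpowers_le]
    exact hw.2
  exact ⟨fun v hv g => by rwa [Subgroup.mem_center_iff.1 (hle hv) g, mul_inv_cancel_right]⟩

/-- The assembled data in the case of degree `p - e`. -/
theorem exists_minus_of (hnn : ¬ (P : Subgroup G).Normal) (ζ : IrrCharacter G)
    (hfaith : ∀ g : G, (ζ : G → ℂ) g = (ζ : G → ℂ) 1 → g = 1) {θ : IrrCharacter D.K0} {c : (ZMod p)ˣ}
    (hθ : fdeg D θ = 1) (hm : ∀ k, mult D θ ζ k = if k ∈ cos D c then 0 else 1)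
    (hne : ∀ θ', θ' ≠ θ → ∀ k, mult D θ' ζ k = 0) : Minus D ζ θ c := by
  have hsum : ∑ k, mult D θ ζ k + Nat.card D.act.range = p := by
    rw [← card_cos D c, ← Finset.sum_compl_add_sum (cos D c),
      Finset.sum_congr rfl (s₁ := cos D c) fun k hk => by rw [hm, if_pos hk],
      Finset.sum_congr rfl (s₁ := (cos D c)ᶜ) fun k hk => by rw [hm, if_neg (Finset.mem_compl.1 hk)],
      Finset.sum_const_zero, add_zero, Finset.sum_const, smul_eq_mul, mul_one, Finset.card_compl_add_card,
      ZMod.card]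
  have hd : charDegree (ζ : G → ℂ) = ∑ k, mult D θ ζ k := by
    rw [deg_eq' D, Finset.sum_eq_single θ (fun θ' _ h => by
      rw [Finset.sum_eq_zero fun k _ => hne θ' h k, mul_zero]) (fun h => absurd (Finset.mem_univ _) h), hθ, one_mul]
  have hval : ∀ v : D.K0, (ζ : G → ℂ) (v : G) = (θ : D.K0 → ℂ) v * (charDegree (ζ : G → ℂ) : ℂ) := by
    intro v
    have h := D.apply_mk ζ 0 v
    rw [D.el_zero, Finset.sum_eq_single θ (fun θ' _ h => by
        rw [sec_eq, Finset.sum_eq_zero fun k _ => by rw [hne θ' h k, Nat.cast_zero, zero_mul], zero_mul])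
      (fun h => absurd (Finset.mem_univ _) h), sec_eq] at h
    rw [h, hd, Nat.cast_sum, mul_comm]
    simp only [mul_zero, AddChar.map_zero_eq_one, mul_one]
  have hK : D.K0 = Subgroup.center G := by
    refine le_antisymm ?_ (center_le_K0 D (inf_center D hnn))
    intro v hv
    refine DegreeTools.mem_center_of_norm_eq ζ hfaith v ?_
    have h := hval ⟨v, hv⟩
    rw [show (v : G) = ((⟨v, hv⟩ : D.K0) : G) from rfl, h, norm_mul, DegHalf.norm_linear hθ, one_mul,
      Complex.norm_natCast]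
  refine ⟨hθ, hK, by rw [hd]; exact hsum, hm, hne, fun g v => ?_⟩
  obtain ⟨w, hw, -⟩ := exists_scalar hK ζ v
  rw [hw]
  congr 1
  have h := hw 1
  rw [one_mul, hval, irr_one_eq] at h
  exact (mul_right_cancel₀ (Nat.cast_ne_zero.2 (charDegree_pos ζ).ne') h).symm

set_option maxHeartbeats 1000000 in
/-- The three shapes. -/
theorem cases (hp5 : 5 ≤ p) (hnn : ¬ (P : Subgroup G).Normal) (ζ : IrrCharacter G)
    (hfaith : ∀ g : G, (ζ : G → ℂ) g = (ζ : G → ℂ) 1 → g = 1) (hd : charDegree (ζ : G → ℂ) + 2 ≤ p) :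
    2 * charDegree (ζ : G → ℂ) + 1 = p ∨ Few D ζ ∨ ∃ θ c, Minus D ζ θ c := by
  set d := charDegree (ζ : G → ℂ) with hddef
  have hxne : D.x ≠ 1 := fun e => by have := D.ord; rw [e, orderOf_one] at this; omega
  obtain ⟨θ, k₀, hk₀, hpos⟩ := exists_mult_pos D (ψ := ζ) ⟨D.x, D.x_mem, fun e => hxne (hfaith _ e)⟩
  set e := Nat.card D.act.range with he
  set e' := Nat.card (D.autE θ) with he'
  set r := (D.orb θ).card with hr
  set f := fdeg D θ with hf
  set S0 := ∑ k, mult D θ ζ k with hS0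
  set m0 := mult D θ ζ 0 with hm0def
  have hf0 : 0 < f := fdeg_pos D θ
  have he'0 : 0 < e' := Nat.card_pos
  have hr0 : 0 < r := Finset.card_pos.2 ⟨θ, D.self_mem_orb θ⟩
  have hre : r * e' = e := D.card_orb_mul θ
  have hbig : ∀ θ' : IrrCharacter D.K0, IsConst D θ' ζ → ∀ k, mult D θ' ζ k = 0 := by
    intro θ' hc k
    by_contra h
    have h1 := sum_mult_le_deg D ζ θ'
    rw [Finset.sum_congr rfl fun l _ => (hc l).trans (hc k).symm, Finset.sum_const, Finset.card_univ, ZMod.card,
      smul_eq_mul, ← hddef] at h1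
    have := Nat.le_mul_of_pos_right p (Nat.pos_of_ne_zero h)
    omega
  have hnc : ¬ IsConst D θ ζ := fun hc => hpos.ne' (hbig θ hc k₀)
  have hout : ∀ θ' : IrrCharacter D.K0, θ' ∉ D.orb θ → ∀ k, mult D θ' ζ k = 0 := fun θ' hθ' =>
    hbig θ' (by by_contra h; exact hθ' (mem_orb_of_not_isConst D hnc h))
  have horbsum : ∀ θ' ∈ D.orb θ, fdeg D θ' * ∑ k, mult D θ' ζ k = f * S0 := by
    intro θ' hθ'
    obtain ⟨g, rfl⟩ := D.mem_orb.1 hθ'
    rw [fdeg_tw, hS0, hf]
    congr 1
    exact Fintype.sum_equiv (Units.mulRight (D.act g)⁻¹) _ _ fun k => mult_tw D θ ζ g k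
  have hdeq : d = r * (f * S0) := by
    rw [hddef, deg_eq' D, ← Finset.sum_sdiff (Finset.subset_univ (D.orb θ)), Finset.sum_congr rfl horbsum,
      Finset.sum_const, smul_eq_mul, Finset.sum_eq_zero fun θ' hθ' => by
        rw [Finset.sum_eq_zero fun k _ => hout θ' (Finset.mem_sdiff.1 hθ').2 k, mul_zero], zero_add]
  have hS0d : S0 ≤ d := sum_mult_le_deg D ζ θ
  have hallpos : ¬ ∀ k : ZMod p, k ≠ 0 → 0 < mult D θ ζ k := fun h => by
    have h2 : ∑ _k ∈ (Finset.univ : Finset (ZMod p)).erase 0, 1 ≤ S0 :=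
      (Finset.sum_le_sum fun k hk => h k (Finset.ne_of_mem_erase hk)).trans
        (Finset.sum_le_sum_of_subset (Finset.subset_univ _))
    rw [Finset.sum_const, Finset.card_erase_of_mem (Finset.mem_univ _), Finset.card_univ, ZMod.card, smul_eq_mul,
      mul_one] at h2
    omega
  have hinv : ∀ u ∈ D.autE θ, ∀ k : ZMod p, mult D θ ζ (k * (u : ZMod p)) = mult D θ ζ k := by
    rintro _ ⟨g, hg, rfl⟩ k
    have h := mult_tw D θ ζ g (k * (D.act g : ZMod p))
    rwa [(Frame.mem_stab D).1 hg, mul_assoc, Units.mul_inv, mul_one] at h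
  set c₀ : (ZMod p)ˣ := Units.mk0 k₀ hk₀
  set T₀ := (Finset.univ : Finset (D.autE θ)).image fun u : D.autE θ => ((c₀ * u : (ZMod p)ˣ) : ZMod p) with hT₀
  have hT₀card : T₀.card = e' := by
    rw [hT₀, Finset.card_image_of_injective _ fun a b h => Subtype.ext (mul_left_cancel (Units.ext h)),
      Finset.card_univ, ← Nat.card_eq_fintype_card]
  have hT₀pos : ∀ k ∈ T₀, 0 < mult D θ ζ k := by
    intro k hk
    obtain ⟨⟨u, hu⟩, -, rfl⟩ := Finset.mem_image.1 hk
    rw [Units.val_mul, show ((c₀ : (ZMod p)ˣ) : ZMod p) = k₀ from rfl, hinv u hu]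
    exact hpos
  have horb1 : r = 1 → D.autE θ = D.act.range ∧ D.orb θ = {θ} := fun h1 => by
    refine ⟨Subgroup.eq_of_le_of_card_ge (Subgroup.map_le_range _ _) ?_, ?_⟩
    · rw [h1, one_mul] at hre
      exact hre.ge
    · obtain ⟨z, hz⟩ := Finset.card_eq_one.1 h1
      have := D.self_mem_orb θ
      rw [hz, Finset.mem_singleton] at this
      rw [hz, this]
  have hothers : r = 1 → ∀ θ', θ' ≠ θ → ∀ k, mult D θ' ζ k = 0 := fun h1 θ' hne =>
    hout θ' (by rw [(horb1 h1).2, Finset.mem_singleton]; exact hne)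
  by_cases h3 : 3 * e' ≤ p - 1
  · rcases pattern_sums D h3 ζ with ⟨hc, -⟩ | ⟨s, -, -, hkk, -⟩ | ⟨δ, hδ, -, ⟨T, hT0, hTc, hTk⟩, hs1, -⟩
    · exact absurd hc hnc
    · refine absurd (fun k hk => ?_) hallpos
      have h1 := hkk k hk
      have h2 := hkk k₀ hk₀
      omega
    rw [← hS0, ← hm0def] at hs1
    rcases hδ with rfl | rfl
    · -- one orbit
      have hm0 : m0 = 0 := by
        by_contra h
        have : (p : ℤ) * 1 ≤ p * m0 := mul_le_mul_of_nonneg_left (by omega) (Nat.cast_nonneg _)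
        omega
      have hTT : T₀ = T := Finset.eq_of_subset_of_card_le (fun k hk => by
        by_contra hkT
        have h1 := hTk k
        rw [if_neg hkT, ← hm0def, hm0] at h1
        have := hT₀pos k hk
        omega) (by rw [hTc, hT₀card])
      have hde : d = f * e := by
        have hS : S0 = e' := by
          rw [hm0, Nat.cast_zero, mul_zero, zero_add, one_mul] at hs1
          exact_mod_cast hs1
        rw [hdeq, hS, ← hre]; ring
      by_cases hsmall : 3 * e ≤ p - 1
      · refine Or.inr (Or.inl ⟨hsmall, c₀, fun k hk => Finset.sum_eq_zero fun θ' _ => ?_⟩)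
        by_cases hθ' : θ' ∈ D.orb θ
        · obtain ⟨g, rfl⟩ := D.mem_orb.1 hθ'
          rw [mult_tw]
          have h1 := hTk (k * (((D.act g)⁻¹ : (ZMod p)ˣ) : ZMod p))
          rw [if_neg, ← hm0def, hm0] at h1
          · rw [show mult D θ ζ (k * (((D.act g)⁻¹ : (ZMod p)ˣ) : ZMod p)) = 0 by omega, mul_zero]
          rw [← hTT, Finset.mem_image]
          rintro ⟨⟨u, w, hw, rfl⟩, -, hu⟩
          refine hk ((mem_cos D).2 ⟨D.act (w * g), ⟨_, rfl⟩, ?_⟩)
          rw [map_mul, ← mul_assoc, Units.val_mul, hu, mul_assoc, Units.inv_mul, mul_one]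
        · rw [hout θ' hθ' k, mul_zero]
      · left
        have hdvd : e ∣ p - 1 := by
          have h := D.act.range.card_subgroup_dvd_card
          rwa [Nat.card_eq_fintype_card (α := (ZMod p)ˣ), ZMod.card_units] at h
        obtain ⟨t, ht⟩ := hdvd
        have ht3 : t < 3 := by
          by_contra h
          have := Nat.mul_le_mul_left e (not_lt.1 h)
          omega
        have hfe : e ≤ f * e := Nat.le_mul_of_pos_left _ hf0
        interval_cases t
        · omega
        · omega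
        · have hf1 : f = 1 := by
            by_contra h
            have : 2 * e ≤ f * e := Nat.mul_le_mul_right e (by omega : 2 ≤ f)
            omega
          rw [hf1, one_mul] at hde
          omega
    · -- degree `p - e`
      have hm0 : 1 ≤ m0 := by
        by_contra h
        have h0 : (m0 : ℤ) = 0 := by omega
        have h1 : (0 : ℤ) ≤ (S0 : ℤ) := Nat.cast_nonneg _
        rw [h0] at hs1
        omega
      have hrf : r * f = 1 := by
        by_contra h
        have h2 : 2 ≤ r * f := by have := Nat.mul_pos hr0 hf0; omega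
        have h4 : 2 * S0 ≤ d := by rw [hdeq, ← mul_assoc]; exact Nat.mul_le_mul_right _ h2
        have : (p : ℤ) * 1 ≤ p * m0 := mul_le_mul_of_nonneg_left (by omega) (Nat.cast_nonneg _)
        omega
      have hm1 : m0 = 1 := by
        by_contra h
        have : (p : ℤ) * 2 ≤ p * m0 := mul_le_mul_of_nonneg_left (by omega) (Nat.cast_nonneg _)
        omega
      have hr1 : r = 1 := Nat.eq_one_of_mul_eq_one_right hrf
      obtain ⟨k₁, hk₁⟩ := Finset.card_pos.1 (hTc ▸ he'0 : 0 < T.card)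
      have hk₁0 : k₁ ≠ 0 := fun h => hT0 (h ▸ hk₁)
      set c₁ : (ZMod p)ˣ := Units.mk0 k₁ hk₁0
      have hcos : cos D c₁ = T := by
        refine Finset.eq_of_subset_of_card_le (fun k hk => ?_)
          (by rw [card_cos, hTc]; exact le_of_eq (by rw [hr1, one_mul] at hre; exact hre))
        obtain ⟨u, hu, rfl⟩ := (mem_cos D).1 hk
        have h1 := hinv u (by rw [(horb1 hr1).1]; exact hu) k₁
        have h2 := hTk k₁
        have h3 := hTk (k₁ * (u : ZMod p))
        rw [if_pos hk₁] at h2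
        rw [Units.val_mul, show ((c₁ : (ZMod p)ˣ) : ZMod p) = k₁ from rfl]
        by_contra hn
        rw [if_neg hn] at h3
        omega
      refine Or.inr (Or.inr ⟨θ, c₁, exists_minus_of hnn ζ hfaith (Nat.eq_one_of_mul_eq_one_left hrf) (fun k => ?_)
        (hothers hr1)⟩)
      have h1 := hTk k
      rw [← hm0def, hm1] at h1
      rw [hcos]
      split_ifs at h1 ⊢ <;> omega
  -- large automizer
  obtain ⟨t, ht⟩ : e' ∣ p - 1 := D.autE_dvd θ
  have ht3 : t < 3 := by
    by_contra h
    have := Nat.mul_le_mul_left e' (not_lt.1 h)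
    omega
  have ht2 : t = 2 := by
    interval_cases t
    · omega
    · refine absurd (fun k hk => ?_) hallpos
      have hall : D.autE θ = ⊤ := Subgroup.eq_top_of_card_eq _ (by
        rw [Nat.card_eq_fintype_card (α := (ZMod p)ˣ), ZMod.card_units]; omega)
      have h := hinv (Units.mk0 (k₀⁻¹ * k) (mul_ne_zero (inv_ne_zero hk₀) hk)) (by rw [hall]; trivial) k₀
      rw [Units.val_mk0, ← mul_assoc, mul_inv_cancel₀ hk₀, one_mul] at h
      rwa [h]
    · rfl
  have hhalf : p - 1 = 2 * e' := by rw [ht, ht2, mul_comm]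
  have hS0e : e' ≤ S0 := by
    rw [← hT₀card]
    refine le_trans ?_ (Finset.sum_le_sum_of_subset (Finset.subset_univ T₀))
    simpa using Finset.card_nsmul_le_sum T₀ (fun k => mult D θ ζ k) 1 hT₀pos
  have hrf : r * f = 1 := by
    by_contra h
    have h2 : 2 ≤ r * f := by have := Nat.mul_pos hr0 hf0; omega
    have h4 : 2 * S0 ≤ d := by rw [hdeq, ← mul_assoc]; exact Nat.mul_le_mul_right _ h2
    omega
  have hr1 : r = 1 := Nat.eq_one_of_mul_eq_one_right hrf
  have hf1 : f = 1 := Nat.eq_one_of_mul_eq_one_left hrf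
  have hee : e' = e := by rw [← hre, hr1, one_mul]
  obtain ⟨hautE, horbθ⟩ := horb1 hr1
  have hdS : d = S0 := by rw [hdeq, hr1, hf1, one_mul, one_mul]
  -- the other orbit
  obtain ⟨c₁, hc₁⟩ : ∃ c₁ : (ZMod p)ˣ, (c₁ : ZMod p) ∉ cos D c₀ := by
    by_contra h
    push Not at h
    have hle : (Finset.univ.erase (0 : ZMod p)).card ≤ (cos D c₀).card := Finset.card_le_card fun k hk => by
      simpa using h (Units.mk0 k (Finset.ne_of_mem_erase hk))
    rw [card_cos, Finset.card_erase_of_mem (Finset.mem_univ _), Finset.card_univ, ZMod.card] at hle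
    omega
  have hdisj : Disjoint (cos D c₀) (cos D c₁) := by
    rw [Finset.disjoint_left]
    intro k h0 h1
    obtain ⟨u, hu, rfl⟩ := (mem_cos D).1 h1
    have := (mem_cos_iff D c₀ (c₁ * u)).1 h0
    rw [← mul_assoc] at this
    exact hc₁ ((mem_cos_iff D c₀ c₁).2 ((Subgroup.mul_mem_cancel_right _ hu).1 this))
  have hcover : ∀ k : ZMod p, k ≠ 0 → k ∈ cos D c₀ ∨ k ∈ cos D c₁ := by
    intro k hk
    have h : Finset.univ.erase (0 : ZMod p) = cos D c₀ ∪ cos D c₁ :=
      (Finset.eq_of_subset_of_card_le (fun l hl => Finset.mem_erase.2 ⟨fun e0 => by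
          subst e0
          rcases Finset.mem_union.1 hl with h | h <;> exact zero_notMem_cos D _ h, Finset.mem_univ _⟩) (by
        rw [Finset.card_union_of_disjoint hdisj, card_cos, card_cos,
          Finset.card_erase_of_mem (Finset.mem_univ _), Finset.card_univ, ZMod.card]
        omega)).symm
    exact Finset.mem_union.1 (h ▸ Finset.mem_erase.2 ⟨hk, Finset.mem_univ _⟩)
  have hconst : ∀ c k, k ∈ cos D c → mult D θ ζ k = mult D θ ζ (c : ZMod p) := by
    intro c k hk
    obtain ⟨u, hu, rfl⟩ := (mem_cos D).1 hk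
    rw [Units.val_mul, hinv u (by rw [hautE]; exact hu)]
  have hzero1 : mult D θ ζ (c₁ : ZMod p) = 0 := by
    by_contra h
    refine hallpos fun k hk => ?_
    rcases hcover k hk with h0 | h1
    · rw [hconst c₀ k h0]; exact hpos
    · rw [hconst c₁ k h1]; exact Nat.pos_of_ne_zero h
  set a := mult D θ ζ k₀
  have hS : S0 = m0 + e * a := by
    have h := Finset.add_sum_erase (Finset.univ : Finset (ZMod p)) (fun k => mult D θ ζ k) (Finset.mem_univ 0)
    have hsub : cos D c₀ ⊆ Finset.univ.erase (0 : ZMod p) := fun k hk =>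
      Finset.mem_erase.2 ⟨fun e0 => zero_notMem_cos D c₀ (by rw [e0] at hk; exact hk), Finset.mem_univ _⟩
    rw [hS0, ← h, ← Finset.sum_subset hsub (f := fun k => mult D θ ζ k) fun k hk hk0 => by
        show mult D θ ζ k = 0
        rw [hconst c₁ k ((hcover k (Finset.ne_of_mem_erase hk)).resolve_left hk0), hzero1],
      Finset.sum_congr rfl (g := fun _ => a) fun k hk => hconst c₀ k hk, Finset.sum_const, card_cos, smul_eq_mul]
  have ha1 : a = 1 := by
    by_contra h
    have : e * 2 ≤ e * a := Nat.mul_le_mul_left e (by omega : 2 ≤ a)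
    omega
  rw [ha1, mul_one] at hS
  obtain ⟨M, hM⟩ := exists_isPModular hp.out
  obtain ⟨B, hB⟩ := D.exists_induced hM θ
  obtain ⟨Sh⟩ := exists_shape D hM hB
  have hfd : charDegree (θ : D.K0 → ℂ) = 1 := hf1
  rcases (Sh.mem_iff ζ).1 (mem_induced D hM hnc hB) with hX | hY
  · exfalso
    have h := Sh.deg_X ζ hX
    rw [hfd, mul_one, ← hr, hr1, Nat.cast_one, mul_one, ← hddef] at h
    obtain ⟨z, hz⟩ := Int.modEq_iff_dvd.1 h
    rcases lt_trichotomy z 0 with h1 | h1 | h1
    · have : (p : ℤ) * z ≤ p * (-1) := mul_le_mul_of_nonneg_left (by omega) (Nat.cast_nonneg _)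
      rcases Sh.sgn_X ζ hX with e1 | e1 <;> omega
    · subst h1; rcases Sh.sgn_X ζ hX with e1 | e1 <;> omega
    · have : (p : ℤ) * 1 ≤ p * z := mul_le_mul_of_nonneg_left (by omega) (Nat.cast_nonneg _)
      rcases Sh.sgn_X ζ hX with e1 | e1 <;> omega
  have h := Sh.deg_Y ζ hY
  rw [hfd, mul_one, ← hddef] at h
  obtain ⟨z, hz⟩ := Int.modEq_iff_dvd.1 h
  rcases Sh.sgn_A with hA | hA <;> rw [hA] at hz
  · -- degree `p - e`
    have hz1 : z = -1 := by
      rcases lt_trichotomy z (-1) with h1 | h1 | h1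
      · have : (p : ℤ) * z ≤ p * (-2) := mul_le_mul_of_nonneg_left (by omega) (Nat.cast_nonneg _)
        omega
      · exact h1
      · have : (p : ℤ) * 0 ≤ p * z := mul_le_mul_of_nonneg_left (by omega) (Nat.cast_nonneg _)
        omega
    subst hz1
    refine Or.inr (Or.inr ⟨θ, c₁, exists_minus_of hnn ζ hfaith hf1 (fun k => ?_) (hothers hr1)⟩)
    by_cases hk : k = 0
    · subst hk
      rw [if_neg (zero_notMem_cos D c₁), ← hm0def]
      omega
    · rcases hcover k hk with h0 | h1
      · rw [if_neg (Finset.disjoint_left.1 hdisj h0), hconst c₀ k h0]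
        exact ha1
      · rw [if_pos h1, hconst c₁ k h1, hzero1]
  · left
    have hz0 : z = 0 := by
      rcases lt_trichotomy z 0 with h1 | h1 | h1
      · have : (p : ℤ) * z ≤ p * (-1) := mul_le_mul_of_nonneg_left (by omega) (Nat.cast_nonneg _)
        omega
      · exact h1
      · have : (p : ℤ) * 1 ≤ p * z := mul_le_mul_of_nonneg_left (by omega) (Nat.cast_nonneg _)
        omega
    subst hz0
    omega

end CfsgLib.Char.FeitDegree.Setup
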