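import Cfsg.Agent.Lib.Char.FeitDegree.Block

/-!
# The signed number of nonexceptional constituents

It only depends on the values on regular elements and on the pattern of multiplicities on `P`; its
sign is forced by a pattern with values in `{0, 1}`.
-/

set_option autoImplicit false

open scoped Classical ComplexConjugate

namespace CfsgLib.Char.FeitDegree.Block

open Cfsg CfsgLib CfsgLib.Blocks CfsgLib.Blocks.DefectOne CfsgLib.CharDeep.ExactP
open CfsgLib.Char.DegHalf (Over)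
open Setup Weight

universe u

variable {G : Type u} [Group G] [Fintype G] {p : ℕ} [hp : Fact p.Prime] {P : Sylow p G} {D : Frame P}

/-- A function whose transform vanishes off `0` is constant. -/
theorem const_of_off {f : ZMod p → ℂ} (h : ∀ b : ZMod p, b ≠ 0 → ∑ k, f k * ZMod.stdAddChar (k * b) = 0)
    (k : ZMod p) : f k = f 0 := by
  have hf : f = fun _ => (∑ l, f l) / (p : ℂ) := by
    refine coeff_unique fun b => ?_
    rw [← Finset.mul_sum]
    by_cases hb : b = 0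
    · subst hb
      simp only [mul_zero, AddChar.map_zero_eq_one, mul_one, Finset.sum_const, Finset.card_univ, ZMod.card,
        nsmul_eq_mul]
      have : (p : ℂ) ≠ 0 := Nat.cast_ne_zero.2 hp.out.ne_zero
      field_simp
    · have h0 : ∑ l : ZMod p, (ZMod.stdAddChar (l * b) : ℂ) = 0 := by
        have h1 := Frame.sum_std' (p := p) b
        rw [if_neg hb] at h1
        rw [← h1]
        exact Finset.sum_congr rfl fun l _ => by rw [mul_comm l]
      rw [h b hb, h0, mul_zero]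
  rw [hf]

/-- A relation between the irreducible characters is trivial. -/
theorem eq_zero_of_rel {c : IrrCharacter G → ℂ} (h : ∀ g, ∑ φ, c φ * (φ : G → ℂ) g = 0) (φ : IrrCharacter G) :
    c φ = 0 := by
  have h1 : classInner (fun g => ∑ ψ, c ψ * (ψ : G → ℂ) g) (φ : G → ℂ) = c φ := by
    have e : classInner (fun g => ∑ ψ, c ψ * (ψ : G → ℂ) g) (φ : G → ℂ)
        = ∑ ψ, c ψ * classInner (ψ : G → ℂ) (φ : G → ℂ) := by
      simp only [Cfsg.classInner, Finset.sum_mul, Finset.mul_sum]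
      rw [Finset.sum_comm]
      exact Finset.sum_congr rfl fun ψ _ => Finset.sum_congr rfl fun g _ => by ring
    rw [e]
    simp only [Char.classInner_irrCharacter, mul_ite, mul_one, mul_zero, Finset.sum_ite_eq', Finset.mem_univ,
      if_true]
  rw [← h1, funext h]
  simp [Cfsg.classInner]

namespace Blk

variable {μ : IrrCharacter D.K0} (B : Blk D μ)

/-- The pattern, given only off the identity, differs from that of the multiplicities by a constant. -/
theorem exists_shift {ψ : G → ℂ} {a : IrrCharacter G → ℕ} (hexp : ∀ g, ψ g = ∑ φ, (a φ : ℂ) * (φ : G → ℂ) g)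
    {n : ZMod p → ℤ}
    (hn : ∀ b : ZMod p, b ≠ 0 → ψ (D.x ^ b.val) = ∑ k, (n k : ℂ) * ZMod.stdAddChar (k * b)) :
    ∃ (n' : ZMod p → ℤ) (c : ℤ), (∀ k, n' k = n k + c) ∧
      ∀ b : ZMod p, ψ (D.x ^ b.val) = ∑ k, (n' k : ℂ) * ZMod.stdAddChar (k * b) := by
  set n' : ZMod p → ℤ := fun k => ∑ φ, (a φ : ℤ) * (nP D φ k : ℤ) with hn'
  have h2 : ∀ b : ZMod p, ψ (D.x ^ b.val) = ∑ k, (n' k : ℂ) * ZMod.stdAddChar (k * b) := fun b => by
    rw [hexp]
    simp only [hn', Int.cast_sum, Int.cast_mul, Int.cast_natCast, Finset.sum_mul, apply_xpow, Finset.mul_sum]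
    rw [Finset.sum_comm]
    exact Finset.sum_congr rfl fun k _ => Finset.sum_congr rfl fun φ _ => by ring
  refine ⟨n', n' 0 - n 0, fun k => ?_, h2⟩
  have h := const_of_off (f := fun k => (n' k : ℂ) - (n k : ℂ)) (fun b hb => by
    simp only [sub_mul, Finset.sum_sub_distrib]
    rw [← h2, hn b hb, sub_self]) k
  have h' : n' k - n k = n' 0 - n 0 := by exact_mod_cast h
  omega

theorem key_off {ψ : G → ℂ} {a : IrrCharacter G → ℕ} (hexp : ∀ g, ψ g = ∑ φ, (a φ : ℂ) * (φ : G → ℂ) g)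
    (hsupp : ∀ φ, a φ ≠ 0 → Over μ (φ : G → ℂ)) {n : ZMod p → ℤ}
    (hn : ∀ b : ZMod p, b ≠ 0 → ψ (D.x ^ b.val) = ∑ k, (n k : ℂ) * ZMod.stdAddChar (k * b)) (m : (ZMod p)ˣ) :
    n (m : ZMod p) - n 0 = B.δ * a (B.ζ m) - B.sA a := by
  obtain ⟨n', c, hc, h2⟩ := exists_shift hexp hn
  rw [← B.key hexp hsupp h2 m, hc, hc]
  ring

theorem key_sum_off {ψ : G → ℂ} {a : IrrCharacter G → ℕ} (hexp : ∀ g, ψ g = ∑ φ, (a φ : ℂ) * (φ : G → ℂ) g)
    (hsupp : ∀ φ, a φ ≠ 0 → Over μ (φ : G → ℂ)) {n : ZMod p → ℤ}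
    (hn : ∀ b : ZMod p, b ≠ 0 → ψ (D.x ^ b.val) = ∑ k, (n k : ℂ) * ZMod.stdAddChar (k * b)) :
    (∑ k, n k) - (p : ℤ) * n 0
      = B.δ * ((Nat.card D.act.range : ℤ) * B.numY a) - ((p : ℤ) - 1) * B.sA a := by
  obtain ⟨n', c, hc, h2⟩ := exists_shift hexp hn
  rw [← B.key_sum hexp hsupp h2]
  simp only [hc, Finset.sum_add_distrib, Finset.sum_const, Finset.card_univ, ZMod.card, nsmul_eq_mul]
  ring

theorem card_Y_mul : (p : ℤ) - 1 = (Nat.card D.act.range : ℤ) * B.Y.card := by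
  have h := B.sum_units_ζ fun _ => 1
  simp only [Nat.cast_one, Finset.sum_const, Finset.card_univ, ZMod.card_units, nsmul_eq_mul, mul_one, numY] at h
  rw [Nat.cast_sub hp.out.one_le] at h
  simpa using h

theorem sA_add (a a' : IrrCharacter G → ℕ) : B.sA (fun φ => a φ + a' φ) = B.sA a + B.sA a' := by
  simp only [sA, Nat.cast_add, mul_add, Finset.sum_add_distrib]

theorem numY_add (a a' : IrrCharacter G → ℕ) : B.numY (fun φ => a φ + a' φ) = B.numY a + B.numY a' := by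
  simp only [numY, Finset.sum_add_distrib]

set_option maxHeartbeats 1000000 in
/-- Two characters equal on the regular elements with equally large patterns. -/
theorem sA_eq {ψ ψ' : G → ℂ} {a a' : IrrCharacter G → ℕ}
    (hexp : ∀ g, ψ g = ∑ φ, (a φ : ℂ) * (φ : G → ℂ) g) (hexp' : ∀ g, ψ' g = ∑ φ, (a' φ : ℂ) * (φ : G → ℂ) g)
    (hsupp : ∀ φ, a φ ≠ 0 → Over μ (φ : G → ℂ)) (hsupp' : ∀ φ, a' φ ≠ 0 → Over μ (φ : G → ℂ))
    {n n' : ZMod p → ℤ}
    (hn : ∀ b : ZMod p, b ≠ 0 → ψ (D.x ^ b.val) = ∑ k, (n k : ℂ) * ZMod.stdAddChar (k * b))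
    (hn' : ∀ b : ZMod p, b ≠ 0 → ψ' (D.x ^ b.val) = ∑ k, (n' k : ℂ) * ZMod.stdAddChar (k * b))
    (hsum : (∑ k, n k) - (p : ℤ) * n 0 = (∑ k, n' k) - (p : ℤ) * n' 0)
    (hreg : ∀ g : G, ¬ p ∣ orderOf g → ψ g = ψ' g) : B.sA a = B.sA a' := by
  set A : ℤ := B.sA a - B.sA a' with hA
  set c : IrrCharacter G → ℤ := fun φ =>
    (a φ : ℤ) - (a' φ : ℤ) - if φ ∈ B.Y then (a φ : ℤ) - (a' φ : ℤ) - B.δ * A else 0 with hc
  have hδ : B.δ * B.δ = 1 := by rcases B.hδ with e | e <;> rw [e] <;> norm_num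
  -- the exceptional part has weight zero
  have hY0 : ∑ φ ∈ B.Y, ((a φ : ℤ) - (a' φ : ℤ) - B.δ * A) = 0 := by
    have h1 := B.key_sum_off hexp hsupp hn
    have h2 := B.key_sum_off hexp' hsupp' hn'
    rw [hsum] at h1
    rw [h2, B.card_Y_mul] at h1
    have he : (Nat.card D.act.range : ℤ) ≠ 0 := Int.natCast_ne_zero.2 Nat.card_pos.ne'
    simp only [Finset.sum_sub_distrib, Finset.sum_const, nsmul_eq_mul]
    simp only [numY, Nat.cast_sum] at h1
    refine mul_left_cancel₀ he ?_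
    rw [hA]
    linear_combination (-B.δ) * h1
      - ((Nat.card D.act.range : ℤ) * ((∑ φ ∈ B.Y, (a φ : ℤ)) - ∑ φ ∈ B.Y, (a' φ : ℤ))) * hδ
  have hrel : ∀ g, ∑ φ, (c φ : ℂ) * (φ : G → ℂ) g = 0 := by
    have hsplit : ∀ g, ∑ φ, (c φ : ℂ) * (φ : G → ℂ) g
        = ψ g - ψ' g - ∑ φ ∈ B.Y, (((a φ : ℤ) - (a' φ : ℤ) - B.δ * A : ℤ) : ℂ) * (φ : G → ℂ) g := by
      intro g
      rw [hexp, hexp', ← Finset.sum_sub_distrib, ← Finset.univ_inter B.Y, ← Finset.sum_ite_mem,
        ← Finset.sum_sub_distrib]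
      refine Finset.sum_congr rfl fun φ _ => ?_
      simp only [hc]
      split_ifs <;> push_cast <;> ring
    intro g
    by_cases hg : p ∣ orderOf g
    swap
    · rw [hsplit, hreg g hg, sub_self, Finset.sum_congr rfl fun φ hφ => by
        rw [B.agree φ hφ (B.ζ 1) (B.mem_ζ 1) g hg], ← Finset.sum_mul, ← Int.cast_sum, hY0, Int.cast_zero,
        zero_mul, sub_zero]
    obtain ⟨w, b, v, hb, he⟩ := D.exists_conj_el hg
    have hcl : ∀ φ : IrrCharacter G, (φ : G → ℂ) g = (φ : G → ℂ) (D.el b v : G) := fun φ => by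
      rw [← he]
      exact ((Char.IsIrrCharacter.isClassFunction φ.2) g w).symm
    have hov : ∀ φ, c φ ≠ 0 → Over μ (φ : G → ℂ) := by
      intro φ hφ
      by_cases hY : φ ∈ B.Y
      · exact B.ov φ (Or.inr hY)
      · by_cases ha : a φ = 0
        · by_cases ha' : a' φ = 0
          · exact absurd (by simp [hc, ha, ha', hY]) hφ
          · exact hsupp' φ ha'
        · exact hsupp φ ha
    rw [Finset.sum_congr rfl (g := fun φ => (μ : D.K0 → ℂ) v * ((c φ : ℂ) * (φ : G → ℂ) (D.x ^ b.val)))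
      fun φ _ => ?_, ← Finset.mul_sum]
    swap
    · by_cases hφ : c φ = 0
      · simp [hφ]
      · rw [hcl, D.coe_el, hov φ hφ]; ring
    refine mul_eq_zero_of_right _ ?_
    rw [hsplit, hn b hb, hn' b hb]
    simp only [apply_xpow, Finset.mul_sum]
    rw [Finset.sum_comm (s := B.Y), ← Finset.sum_sub_distrib, ← Finset.sum_sub_distrib]
    set f : ZMod p → ℤ :=
      fun k => n k - n' k - ∑ φ ∈ B.Y, ((a φ : ℤ) - (a' φ : ℤ) - B.δ * A) * (nP D φ k : ℤ)
    have hf : ∀ k, f k = f 0 := by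
      intro k
      by_cases hk : k = 0
      · rw [hk]
      set m : (ZMod p)ˣ := Units.mk0 k hk
      have h1 := B.key_off hexp hsupp hn m
      have h2 := B.key_off hexp' hsupp' hn' m
      have h3 : ∑ φ ∈ B.Y, ((a φ : ℤ) - (a' φ : ℤ) - B.δ * A) * ((nP D φ k : ℤ) - (nP D φ 0 : ℤ))
          = ((a (B.ζ m) : ℤ) - (a' (B.ζ m) : ℤ) - B.δ * A) * B.δ := by
        rw [Finset.sum_eq_single (B.ζ m)]
        · rw [B.diffY m k, if_pos (show k ∈ cos D m from (mem_cos_iff D m m).2 (by rw [inv_mul_cancel]; exact one_mem _))]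
          ring
        · intro η hη hne
          obtain ⟨l, rfl⟩ := (B.mem_Y η).1 hη
          rw [B.diffY l k, if_neg, add_zero, sub_self, mul_zero]
          intro h
          exact hne ((B.ζ_iff l m).2 ((mem_cos_iff D l m).1 h))
        · exact fun h => absurd (B.mem_ζ m) h
      simp only [mul_sub, Finset.sum_sub_distrib] at h3
      rw [show (m : ZMod p) = k from rfl] at h1 h2
      show n k - n' k - _ = n 0 - n' 0 - _
      rw [hA] at h3 ⊢
      linear_combination h1 - h2 - h3 + (B.sA a - B.sA a') * hδ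
    rw [Finset.sum_congr rfl (g := fun k => (f 0 : ℂ) * ZMod.stdAddChar (k * b)) fun k _ => ?_, ← Finset.mul_sum,
      Finset.sum_congr rfl (g := fun l => (ZMod.stdAddChar (b * l) : ℂ)) fun l _ => by rw [mul_comm l],
      Frame.sum_std', if_neg hb, mul_zero]
    rw [← hf k]
    simp only [f, Int.cast_sub, Int.cast_sum, Int.cast_mul, Int.cast_natCast, sub_mul, Finset.sum_mul]
    congr 1
    refine Finset.sum_congr rfl fun φ _ => ?_
    ring
  have hzero : ∀ φ, c φ = 0 := fun φ => by exact_mod_cast eq_zero_of_rel hrel φ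
  simp only [sA]
  refine Finset.sum_congr rfl fun χ hχ => ?_
  have h := hzero χ
  simp only [hc, if_neg (Finset.disjoint_left.1 B.disj hχ), sub_zero] at h
  rw [show (a χ : ℤ) = a' χ by omega]

/-- A pattern with values `0` and `1`. -/
theorem sign_of_pattern {ψ : G → ℂ} {a : IrrCharacter G → ℕ} (hexp : ∀ g, ψ g = ∑ φ, (a φ : ℂ) * (φ : G → ℂ) g)
    (hsupp : ∀ φ, a φ ≠ 0 → Over μ (φ : G → ℂ)) {n : ZMod p → ℤ}
    (hn : ∀ b : ZMod p, b ≠ 0 → ψ (D.x ^ b.val) = ∑ k, (n k : ℂ) * ZMod.stdAddChar (k * b))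
    {m₀ m₁ : (ZMod p)ˣ} (h0 : n (m₀ : ZMod p) = n 0) (h1 : n (m₁ : ZMod p) = n 0 + 1) :
    (B.δ = 1 → 0 ≤ B.sA a) ∧ (B.δ = -1 → B.sA a ≤ -1) := by
  have e0 := B.key_off hexp hsupp hn m₀
  have e1 := B.key_off hexp hsupp hn m₁
  refine ⟨fun h => ?_, fun h => ?_⟩ <;> rw [h] at e0 e1 <;> omega

/-- A character vanishing on `P \ {1}`. -/
theorem sign_of_zero {ψ : G → ℂ} {a : IrrCharacter G → ℕ} (hexp : ∀ g, ψ g = ∑ φ, (a φ : ℂ) * (φ : G → ℂ) g)
    (hsupp : ∀ φ, a φ ≠ 0 → Over μ (φ : G → ℂ)) (hz : ∀ b : ZMod p, b ≠ 0 → ψ (D.x ^ b.val) = 0) :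
    (B.δ = 1 → 0 ≤ B.sA a) ∧ (B.δ = -1 → B.sA a ≤ 0) := by
  have e := B.key_off hexp hsupp (n := fun _ => 0) (fun b hb => by simp [hz b hb]) 1
  refine ⟨fun h => ?_, fun h => ?_⟩ <;> rw [h] at e <;> omega

end Blk

end CfsgLib.Char.FeitDegree.Block
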