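import Cfsg.Agent.Lib.Char.FeitDegree.Scalar

/-!
# The product of two exceptional characters

The size `e` of the automizer is below the number `t` of its orbits, or below `2 t` when even.
-/

set_option autoImplicit false

open scoped Classical ComplexConjugate Kronecker

namespace CfsgLib.Char.FeitDegree.StageOne

open Cfsg CfsgLib CfsgLib.Blocks CfsgLib.Blocks.DefectOne CfsgLib.Blocks.ResidueAlgebra CfsgLib.CharDeep.ExactP Matrix
open CfsgLib.Char.DegHalf (Over conj_linear_mul)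
open Setup Weight Block Stable Chains Lattice Pieces

universe u

/-- The contragredient lattice. -/
def dualR {R : Type*} [CommRing R] {G : Type*} [Group G] {ι : Type*} [Fintype ι] [DecidableEq ι]
    (S : G →* Matrix ι ι R) : G →* Matrix ι ι R where
  toFun g := (S g⁻¹)ᵀ
  map_one' := by simp
  map_mul' a b := by simp [Matrix.transpose_mul]

theorem red_dualR {p : ℕ} {R k : Type*} [CommRing R] [Field k] (Ψ : Sys p R k) {G : Type*} [Group G] {ι : Type*}
    [Fintype ι] [DecidableEq ι] (S : G →* Matrix ι ι R) :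
    redRep Ψ (dualR S) = Omega.dualRep (redRep Ψ S) := by
  ext g i j
  rfl

theorem red_kron {p : ℕ} {R k : Type*} [CommRing R] [Field k] (Ψ : Sys p R k) {G : Type*} [Group G] {ι κ : Type*}
    [Fintype ι] [DecidableEq ι] [Fintype κ] [DecidableEq κ] (S : G →* Matrix ι ι R) (T : G →* Matrix κ κ R) :
    redRep Ψ (Translation.kronRep S T) = Translation.kronRep (redRep Ψ S) (redRep Ψ T) := by
  ext g i j
  simp [redRep_apply, Lattice.red, Translation.kronRep_apply]

variable {G : Type u} [Group G] [Fintype G] {p : ℕ} [hp : Fact p.Prime] {P : Sylow p G} {D : Frame P}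
  {M₀ : Ideal AlgInt} {hM : IsPModular p M₀}

theorem xpow_inv (D : Frame P) (b : ZMod p) : (D.x ^ b.val)⁻¹ = D.x ^ (-b).val := by
  refine (eq_inv_of_mul_eq_one_left ?_).symm
  rw [← pow_add, ← orderOf_dvd_iff_pow_eq_one, D.ord, ← ZMod.natCast_eq_zero_iff, Nat.cast_add,
    ZMod.natCast_zmod_val, ZMod.natCast_zmod_val, neg_add_cancel]

variable (E : Norm.Split D) (B₀ : Blk D (triv D))

set_option maxHeartbeats 1000000 in
/-- The sign for a product of two lattices with reduced chains of length `p - e`. -/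
theorem sign_tensor (hK : D.K0 = Subgroup.center G) (h3 : 3 * Nat.card D.act.range ≤ p - 1) {d : ℕ}
    (hd : d + Nat.card D.act.range = p) (L₁ L₂ : G →* Matrix (Fin d) (Fin d) (localSubring hM))
    {β₁ β₂ : E.Δ.A →* Residue hM} {v₁ v₂ : Unit → Fin d → Residue hM}
    (h₁ : IsChains E.Δ ((redRep (Indec.sys hM) L₁).comp (nrm P).subtype) (fun _ : Unit => d) (fun _ => β₁) v₁)
    (h₂ : IsChains E.Δ ((redRep (Indec.sys hM) L₂).comp (nrm P).subtype) (fun _ : Unit => d) (fun _ => β₂) v₂)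
    (hz : ∀ v : D.K0, Translation.kronRep L₁ L₂ (v : G) = 1)
    {a : IrrCharacter G → ℕ}
    (ha : ∀ g, chr L₁ g * chr L₂ g = ∑ φ, (a φ : ℂ) * (φ : G → ℂ) g) {n : ZMod p → ℤ}
    (hn : ∀ b : ZMod p, b ≠ 0 →
      chr L₁ (D.x ^ b.val) * chr L₂ (D.x ^ b.val) = ∑ k, (n k : ℂ) * ZMod.stdAddChar (k * b))
    (hsum : (∑ k, n k) - (p : ℤ) * n 0 = (Nat.card D.act.range : ℤ) * Nat.card D.act.range) :
    (B₀.δ = 1 → 0 ≤ B₀.sA a) ∧
      (B₀.δ = -1 → B₀.sA a ≤ -(((Nat.card D.act.range + 1) / 2 : ℕ) : ℤ)) := by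
  haveI := BrouePuig.charP_residue hM
  haveI := Indec.isAlgClosed hM
  set e := Nat.card D.act.range with he
  have he0 : 0 < e := Nat.card_pos
  set S₁ := (redRep (Indec.sys hM) L₁).comp (nrm P).subtype with hS₁
  set S₂ := (redRep (Indec.sys hM) L₂).comp (nrm P).subtype with hS₂
  obtain ⟨E₁, E₂, γ₁, γ₂, u₁, u₂, hE₁, hE₂, hst⟩ :=
    Omega.tensor_stEq E.Δ (Norm.comm E hK) (show 0 < d by omega) (show d < p by omega) h₁ h₂
  have hpd : p - d = e := by omega
  obtain ⟨w, hw⟩ := Translation.tensor_chains (e := p - d) (by omega) hE₁ hE₂ (by omega)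
  set T := Translation.kronRep E₁ E₂
  set S := reindexRep (finProdFinEquiv : Fin d × Fin d ≃ Fin (d * d)) (Translation.kronRep L₁ L₂)
  have hST : StEq ((redRep (Indec.sys hM) S).comp (nrm P).subtype) T := by
    have e1 : redRep (Indec.sys hM) S
        = reindexRep finProdFinEquiv (redRep (Indec.sys hM) (Translation.kronRep L₁ L₂)) := by
      ext g i j
      rfl
    rw [e1]
    refine (stEq_res (nrm P) (stEq_reindex _ _).symm).trans ?_
    rw [red_kron]
    exact hst
  have hX : (T E.Δ.x - 1) ^ (p - 1) = 0 := by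
    have hall : ∀ wi : Σ c : Fin (p - d), Fin (2 * (c : ℕ) + 1),
        tee E.Δ T ^ (p - 1) *ᵥ (tee E.Δ T ^ (wi.2 : ℕ) *ᵥ w wi.1) = 0 := fun wi => by
      have h1 := wi.1.isLt
      rw [mulVec_mulVec, ← pow_add, show p - 1 + (wi.2 : ℕ) = (p - 1 + wi.2 - (2 * (wi.1 : ℕ) + 1)) + (2 * (wi.1 : ℕ) + 1)
        by omega, pow_add, ← mulVec_mulVec, hw.kill, mulVec_zero]
    have hsp := hw.indep.span_eq_top_of_card_eq_finrank' (by
      rw [Module.finrank_fintype_fun_eq_card, Fintype.card_sigma]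
      simpa using hw.card)
    refine Matrix.toLin'.injective ?_
    rw [map_zero]
    refine LinearMap.ext_on hsp ?_
    rintro _ ⟨wi, rfl⟩
    rw [Matrix.toLin'_apply, LinearMap.zero_apply]
    exact hall wi
  have hfree : IsFreeRep T := Summand.isFreeRep E.Δ.ord hX
  -- the weights are trivial on the kernel of the action
  have hker : ∀ a : E.Δ.A, E.Δ.ε a = 1 → (γ₁ * γ₂) a = 1 := by
    intro a hea
    have hK0 := Norm.mem_K0_of_eps E hea
    obtain ⟨A, B, hA, -, -, hI⟩ := hST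
    have hSa : (redRep (Indec.sys hM) S).comp (nrm P).subtype (a : nrm P) = 1 := by
      show Lattice.red (Indec.sys hM) (S ((a : nrm P) : G)) = 1
      have : S ((a : nrm P) : G) = 1 := by
        show (Matrix.reindexAlgEquiv (localSubring hM) (localSubring hM) finProdFinEquiv)
          (Translation.kronRep L₁ L₂ ((a : nrm P) : G)) = 1
        rw [hz ⟨_, hK0⟩, map_one]
      rw [this, Lattice.red_one]
    have h1 : (T (a : nrm P) - 1) * (A * B) = 0 := by
      have := hA (a : nrm P)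
      rw [hSa, Matrix.mul_one] at this
      rw [← Matrix.mul_assoc, Matrix.sub_mul, Matrix.one_mul, this, sub_self, Matrix.zero_mul]
    have hu : IsUnit (A * B) := by
      have := hfree _ hI.neg
      rwa [show 1 + -(1 - A * B) = A * B by abel] at this
    have hT1 : T (a : nrm P) = 1 := sub_eq_zero.1 (hu.mul_left_eq_zero.1 h1)
    set m₀ : Fin (p - d) := ⟨0, by omega⟩
    have hv := hw.eig m₀ a
    rw [hT1, one_mulVec] at hv
    have hne : w m₀ ≠ 0 := by
      have := hw.indep.ne_zero ⟨m₀, ⟨0, by omega⟩⟩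
      simpa using this
    have hval : (γ₁ * γ₂ * Translation.εk E.Δ (Residue hM) ^ (p - d - 1 - (m₀ : ℕ))) a = 1 := by
      by_contra hne1
      have h0 : ((γ₁ * γ₂ * Translation.εk E.Δ (Residue hM) ^ (p - d - 1 - (m₀ : ℕ))) a - 1) • w m₀ = 0 := by
        rw [sub_smul, one_smul, ← hv, sub_self]
      exact hne ((smul_eq_zero.1 h0).resolve_left (sub_ne_zero.2 hne1))
    rw [MonoidHom.mul_apply, MonoidHom.pow_apply, Translation.εk_eq, hea, Units.val_one, ZMod.val_one,
      Nat.cast_one, one_pow, mul_one] at hval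
    exact hval
  have hchS : ∀ g, chr S g = chr L₁ g * chr L₂ g := fun g => by
    rw [chr, chr, chr, trace_reindexRep, Translation.kronRep_apply, Matrix.trace_kronecker]
    rfl
  have hw' : IsChains E.Δ T (fun m : Fin e => 2 * (m : ℕ) + 1)
      (fun m => γ₁ * γ₂ * Translation.εk E.Δ (Residue hM) ^ (e - 1 - (m : ℕ))) (fun m => w (Fin.cast hpd.symm m)) := by
    refine ⟨fun m b => ?_, fun m => ?_, ?_, ?_⟩
    · have := hw.eig (Fin.cast hpd.symm m) b
      simpa [hpd] using this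
    · exact hw.kill (Fin.cast hpd.symm m)
    · exact hw.indep.comp (fun s : Σ m : Fin e, Fin (2 * (m : ℕ) + 1) =>
          (⟨Fin.cast hpd.symm s.1, s.2⟩ : Σ c : Fin (p - d), Fin (2 * (c : ℕ) + 1)))
        fun s s' h => by
          obtain ⟨m, i⟩ := s
          obtain ⟨m', i'⟩ := s'
          simp only [Sigma.mk.injEq, Fin.cast_inj] at h
          obtain ⟨rfl, h2⟩ := h
          simpa using h2
    · rw [← hw.card]
      exact Fintype.sum_equiv (finCongr hpd.symm) _ _ fun m => rfl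
  refine Pieces.sign_sA E B₀ hK h3 S (fun v => ?_) T hST hfree (γ₁ * γ₂) hker hw' (fun g => by rw [hchS, ha])
    (fun b hb => by rw [hchS, hn b hb]) hsum
  show (Matrix.reindexAlgEquiv (localSubring hM) (localSubring hM) finProdFinEquiv)
    (Translation.kronRep L₁ L₂ (v : G)) = 1
  rw [hz, map_one]

variable {ζ : IrrCharacter G} {θ : IrrCharacter D.K0} {c : (ZMod p)ˣ}

/-- The indicator of the complement of an orbit. -/
noncomputable def off (D : Frame P) (l : (ZMod p)ˣ) (k : ZMod p) : ℤ := if k ∈ cos D l then 0 else 1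

theorem sum_off (l : (ZMod p)ˣ) : ∑ k, off D l k = (p : ℤ) - Nat.card D.act.range := by
  rw [Finset.sum_congr rfl (g := fun k => (1 : ℤ) - if k ∈ cos D l then 1 else 0) fun k _ => by
    unfold off; split_ifs <;> norm_num, Finset.sum_sub_distrib, Finset.sum_ite_mem, Finset.univ_inter,
    Finset.sum_const, Finset.sum_const, card_cos, Finset.card_univ, ZMod.card]
  simp

theorem sum_off_mul {i j : (ZMod p)ˣ} (hij : (j : ZMod p) ∉ cos D i) :
    ∑ k, off D i k * off D j k = (p : ℤ) - 2 * Nat.card D.act.range := by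
  have hdisj : ∀ k, k ∈ cos D i → k ∉ cos D j := by
    intro k h1 h2
    obtain ⟨u, hu, rfl⟩ := (mem_cos D).1 h2
    have := (mem_cos_iff D i (j * u)).1 h1
    rw [← mul_assoc] at this
    exact hij ((mem_cos_iff D i j).2 ((Subgroup.mul_mem_cancel_right _ hu).1 this))
  rw [Finset.sum_congr rfl (g := fun k => off D i k + off D j k - 1) fun k _ => by
    unfold off
    by_cases h1 : k ∈ cos D i
    · simp [h1, hdisj k h1]
    · simp [h1], Finset.sum_sub_distrib, Finset.sum_add_distrib, sum_off, sum_off, Finset.sum_const,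
    Finset.card_univ, ZMod.card]
  simp
  ring

variable (hfaith : ∀ g : G, (ζ : G → ℂ) g = (ζ : G → ℂ) 1 → g = 1) (hd : charDegree (ζ : G → ℂ) + 2 ≤ p)
  (hnn : ¬ (P : Subgroup G).Normal) (h3 : 3 * Nat.card D.act.range ≤ p - 1)

include hfaith hd hnn h3 in
set_option maxHeartbeats 1000000 in
/-- The product of two exceptional characters in the principal block. -/
theorem product_data (M : Minus D ζ θ c) {t : ℕ} (ht : Nat.card D.act.range * t = p - 1) (B : Blk D θ)
    (B₀ : Blk D (triv D)) :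
    ∃ (j : (ZMod p)ˣ) (a : IrrCharacter G → ℕ),
      (∀ g, (B.ζ 1 : G → ℂ) g * conj ((B.ζ j : G → ℂ) g) = ∑ φ, (a φ : ℂ) * (φ : G → ℂ) g) ∧
      (Nat.card D.act.range : ℤ) = B₀.δ * B₀.numY a - (t : ℤ) * B₀.sA a ∧ (B₀.numY a : ℤ) ≤ (t : ℤ) - 1 ∧
      (B₀.δ = 1 → 0 ≤ B₀.sA a) ∧ (B₀.δ = -1 → B₀.sA a ≤ -(((Nat.card D.act.range + 1) / 2 : ℕ) : ℤ)) := by
  obtain ⟨M₁, hM⟩ := exists_isPModular hp.out
  haveI := BrouePuig.charP_residue hM
  haveI := Indec.isAlgClosed hM
  set e := Nat.card D.act.range with he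
  have he0 : 0 < e := Nat.card_pos
  have ht3 : 3 ≤ t := Nat.le_of_mul_le_mul_left (show e * 3 ≤ e * t by omega) he0
  obtain ⟨E⟩ := Norm.exists_split D
  have hA := Norm.comm E M.K0_eq
  obtain ⟨α, -, -, hα⟩ := Members.exists_alpha h3 E M B
  obtain ⟨j, hj⟩ := Members.exists_off h3 (1 : (ZMod p)ˣ)
  set d := charDegree (ζ : G → ℂ) with hddef
  have hde : d + e = p := M.deg
  -- lattices
  have hlat : ∀ l : (ZMod p)ˣ, ∃ L : G →* Matrix (Fin d) (Fin d) (localSubring hM),
      (∀ g, (B.ζ l : G → ℂ) g = chr L g) ∧ ∀ f : Matrix (Fin d) (Fin d) (Residue hM), IsIdempotentElem f →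
        IsEq (redRep (Indec.sys hM) L) (redRep (Indec.sys hM) L) f → f = 0 ∨ f = 1 := by
    intro l
    obtain ⟨n, L, hL, hind⟩ := Indec.exists_indec hM (B.ζ l)
    have hn : n = d := by
      have h := hL 1
      rw [map_one, Matrix.trace_one, Fintype.card_fin, irr_one_eq,
        (Members.minus hfaith hd h3 M B l).2.1] at h
      exact_mod_cast h.symm
    subst hn
    exact ⟨L, hL, hind⟩
  obtain ⟨L₁, hL₁, hind₁⟩ := hlat 1
  obtain ⟨L₂, hL₂, hind₂⟩ := hlat j
  have hind₂' : ∀ f : Matrix (Fin d) (Fin d) (Residue hM), IsIdempotentElem f →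
      IsEq (redRep (Indec.sys hM) (dualR L₂)) (redRep (Indec.sys hM) (dualR L₂)) f → f = 0 ∨ f = 1 := by
    intro f hf hfe
    rw [red_dualR] at hfe
    have h := Omega.isEq_dual hfe
    rw [Omega.dual_dual] at h
    rcases hind₂ fᵀ (by show fᵀ * fᵀ = fᵀ; rw [← Matrix.transpose_mul, hf.eq]) h with e1 | e1
    · exact Or.inl (Matrix.transpose_eq_zero.1 e1)
    · exact Or.inr (Matrix.transpose_eq_one.1 e1)
  have Loc : Stable.Local (Residue hM) (P : Subgroup G) (nrm P) := Norm.local_nrm D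
  obtain ⟨β₁, v₁, hc₁⟩ := Indec.exists_single Loc E.Δ hA (show d < p by omega) (by omega) _ hind₁
  obtain ⟨β₂, v₂, hc₂⟩ := Indec.exists_single Loc E.Δ hA (show d < p by omega) (by omega) _ hind₂'
  have hdual : ∀ g, chr (dualR L₂) g = conj ((B.ζ j : G → ℂ) g) := fun g => by
    rw [← Char.IsIrrCharacter.apply_inv (B.ζ j).2, hL₂, chr, chr]
    show ((Matrix.trace (L₂ g⁻¹)ᵀ : localSubring hM) : ℂ) = _
    rw [Matrix.trace_transpose]
  -- the product
  set ψ : G → ℂ := fun g => (B.ζ 1 : G → ℂ) g * conj ((B.ζ j : G → ℂ) g) with hψ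
  have hψchr : ∀ g, ψ g = chr L₁ g * chr (dualR L₂) g := fun g => by rw [hdual, ← hL₁]
  have hov : Over (triv D) ψ := fun g v => by
    show (B.ζ 1 : G → ℂ) (g * v) * conj ((B.ζ j : G → ℂ) (g * v)) = 1 * ψ g
    rw [B.ov_ζ 1, B.ov_ζ j, map_mul, hψ]
    linear_combination ((B.ζ 1 : G → ℂ) g * conj ((B.ζ j : G → ℂ) g)) * conj_linear_mul M.theta_one v
  obtain ⟨a, ha, hsupp⟩ := exists_exp M.K0_eq
    (Char.IsCharacter.mul (Char.isCharacter_irr (B.ζ 1)) (Char.IsCharacter.conj' (Char.isCharacter_irr (B.ζ j)))) hov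
  set n : ZMod p → ℤ := fun k => ∑ s, off D 1 s * off D j (s - k) with hn
  have hpat : ∀ b : ZMod p, ψ (D.x ^ b.val) = ∑ k, (n k : ℂ) * ZMod.stdAddChar (k * b) := by
    intro b
    have hval : ∀ (l : (ZMod p)ˣ) (b : ZMod p),
        (B.ζ l : G → ℂ) (D.x ^ b.val) = ∑ k, (off D l k : ℂ) * ZMod.stdAddChar (k * b) := fun l b => by
      rw [apply_xpow]
      refine Finset.sum_congr rfl fun k _ => ?_
      rw [Members.nP_all h3 M B l k]
      unfold off
      split_ifs <;> simp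
    show (B.ζ 1 : G → ℂ) (D.x ^ b.val) * conj ((B.ζ j : G → ℂ) (D.x ^ b.val)) = _
    rw [← Char.IsIrrCharacter.apply_inv (B.ζ j).2, xpow_inv, hval, hval, Finset.sum_mul]
    simp only [hn, Int.cast_sum, Int.cast_mul, Finset.sum_mul, Finset.mul_sum]
    conv_rhs => rw [Finset.sum_comm]
    refine Finset.sum_congr rfl fun s _ => ?_
    refine Fintype.sum_equiv (Equiv.subLeft s) _ _ fun r => ?_
    rw [Equiv.subLeft_apply, sub_sub_cancel, show (s - r) * b = s * b + r * -b by ring, AddChar.map_add_eq_mul]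
    ring
  have hn0 : n 0 = (p : ℤ) - 2 * e := by
    simp only [hn, sub_zero]
    exact sum_off_mul hj
  have hsum : (∑ k, n k) - (p : ℤ) * n 0 = (e : ℤ) * e := by
    have h : ∑ k, n k = ((p : ℤ) - e) * ((p : ℤ) - e) := by
      simp only [hn]
      rw [Finset.sum_comm]
      simp only [← Finset.mul_sum]
      rw [Finset.sum_congr rfl (g := fun s => off D 1 s * ((p : ℤ) - e)) fun s _ => ?_, ← Finset.sum_mul, sum_off]
      rw [Fintype.sum_equiv (Equiv.subLeft s) (fun k => off D j (s - k)) (fun k => off D j k) fun k => rfl, sum_off]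
    rw [h, hn0]
    ring
  have hz : ∀ v : D.K0, Translation.kronRep L₁ (dualR L₂) (v : G) = 1 := by
    intro v
    have hL : ∀ (l : (ZMod p)ˣ) (L : G →* Matrix (Fin d) (Fin d) (localSubring hM)),
        (∀ g, (B.ζ l : G → ℂ) g = chr L g) →
        ∃ r : localSubring hM, L (v : G) = r • 1 ∧ (r : ℂ) = (θ : D.K0 → ℂ) v := by
      intro l L hL
      exact Scalar.exists_scalar M.K0_eq M.theta_one (B.ov_ζ l) hL v
    obtain ⟨r₁, h₁, hr₁⟩ := hL 1 L₁ hL₁
    obtain ⟨r₂, h₂, hr₂⟩ := hL j L₂ hL₂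
    obtain ⟨r₂', h₂', hr₂'⟩ := Scalar.exists_scalar M.K0_eq M.theta_one (B.ov_ζ j) hL₂ (v⁻¹ : D.K0)
    rw [Translation.kronRep_apply, h₁, show dualR L₂ (v : G) = (L₂ ((v : G)⁻¹))ᵀ from rfl, ← Subgroup.coe_inv, h₂',
      Matrix.transpose_smul, Matrix.transpose_one, Matrix.smul_kronecker, Matrix.kronecker_smul,
      Matrix.one_kronecker_one, smul_smul]
    have : r₁ * r₂' = 1 := Subtype.ext (by
      show (r₁ : ℂ) * (r₂' : ℂ) = 1
      rw [hr₁, hr₂', Scalar.apply_inv M.theta_one, conj_linear_mul M.theta_one])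
    rw [this, one_smul]
  have hsgn := sign_tensor E B₀ M.K0_eq h3 hde L₁ (dualR L₂) hc₁ hc₂ hz (fun g => by rw [← hψchr]; exact ha g)
    (fun b _ => by rw [← hψchr]; exact hpat b) hsum
  -- the cap
  obtain ⟨w, hwx, hext, hcap⟩ :=
    B₀.exists_cap (Char.isCharacter_irr ζ) hfaith hd hnn h3 E fdeg_triv hA
  have hr : wInner ψ w = (((if w = 1 then 1 else 0) + ((t : ℤ) - 2) : ℤ) : ℂ) := by
    refine mul_left_cancel₀ (Char.card_ne_zero (G := nrm P)) ?_
    rw [wInner_split fdeg_triv hov (n := fun k => (n k : ℂ)) hpat hwx hext]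
    have hone : ∀ g : nrm P, D.act g = 1 → w⁻¹ g = 1 := by
      intro g hg
      obtain ⟨i, a, rfl⟩ := E.Δ.decomp g
      rw [map_mul, map_pow, act_x, one_pow, one_mul, ← E.eps] at hg
      have hK0 := Norm.mem_K0_of_eps E hg
      have h1 : w (a : nrm P) = 1 := Units.ext ((hext ⟨_, hK0⟩).trans rfl)
      rw [MonoidHom.inv_apply, map_mul, map_pow, hwx, h1]
      simp
    rw [Finset.sum_congr rfl (g := fun g : nrm P => ((w⁻¹ g : ℂˣ) : ℂ)) fun g hg => ?_, sum_hom_off w⁻¹ hone]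
    · have hcard : (Nat.card (nrm P) : ℂ) = (e : ℂ) * ((p : ℂ) * Nat.card D.K0) := by
        rw [card_nrm_eq' D]
        push_cast
        ring
      have hp1 : (p : ℂ) - 1 = (e : ℂ) * t := by
        rw [← Nat.cast_one, ← Nat.cast_sub hp.out.one_le, ← ht, Nat.cast_mul]
      rw [hn0, hcard]
      push_cast
      have hiff : (w⁻¹ = 1) ↔ w = 1 := by
        constructor <;> intro h <;> refine MonoidHom.ext fun g => ?_
        · have := DFunLike.congr_fun h g
          simpa using this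
        · simp [h]
      rw [if_congr hiff rfl rfl]
      split_ifs <;> linear_combination ((p : ℂ) * Nat.card D.K0) * hp1
    · rw [show ψ (g : G) = (B.ζ 1 : G → ℂ) g * conj ((B.ζ j : G → ℂ) g) from rfl,
        hα 1 g (Finset.mem_filter.1 hg).2, hα j g (Finset.mem_filter.1 hg).2, conj_mul_self, one_mul,
        MonoidHom.inv_apply, Units.val_inv_eq_inv_val]
      exact eq_inv_of_mul_eq_one_right (conj_mul_self w g)
  have hle := hcap ψ a ha _ hr
  have hkey := B₀.key_sum_off ha hsupp (n := n) (fun b _ => hpat b)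
  rw [hsum, show (p : ℤ) - 1 = (e : ℤ) * t by
    have : ((e * t : ℕ) : ℤ) = ((p - 1 : ℕ) : ℤ) := by rw [ht]
    push_cast [Nat.cast_sub hp.out.one_le] at this
    linarith] at hkey
  have hkey' : (e : ℤ) = B₀.δ * B₀.numY a - (t : ℤ) * B₀.sA a := by
    refine mul_left_cancel₀ (show (e : ℤ) ≠ 0 by omega) ?_
    linear_combination hkey
  have hY : (B₀.numY a : ℤ) ≤ (t : ℤ) - 1 := hle.trans (by split_ifs <;> omega)
  exact ⟨j, a, ha, hkey', hY, hsgn.1, hsgn.2⟩

include hfaith hd hnn h3 in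
set_option maxHeartbeats 1000000 in
/-- The bound from the product of two exceptional characters. -/
theorem bound (M : Minus D ζ θ c) {t : ℕ} (ht : Nat.card D.act.range * t = p - 1) :
    (Odd (Nat.card D.act.range) → 3 ≤ Nat.card D.act.range → Nat.card D.act.range + 1 ≤ t) ∧
      (4 ≤ Nat.card D.act.range → Nat.card D.act.range < 2 * t) := by
  obtain ⟨B⟩ := exists_blk M.K0_eq h3 M.theta_one
  obtain ⟨B₀⟩ := exists_blk M.K0_eq h3 (fdeg_triv (D := D))
  obtain ⟨j, a, -, hkey', hY, hsgn1, hsgn2⟩ := product_data hfaith hd hnn h3 M ht B B₀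
  set e := Nat.card D.act.range with he
  have he0 : 0 < e := Nat.card_pos
  have ht3 : 3 ≤ t := Nat.le_of_mul_le_mul_left (show e * 3 ≤ e * t by omega) he0
  have hY0 : (0 : ℤ) ≤ (B₀.numY a : ℤ) := Nat.cast_nonneg _
  rcases B₀.hδ with hδ | hδ <;> rw [hδ] at hkey'
  · have hA0 := hsgn1 hδ
    have h0 : 0 ≤ (t : ℤ) * B₀.sA a := mul_nonneg (by positivity) hA0
    exact ⟨fun _ _ => by omega, fun _ => by omega⟩
  · have hA1 := mul_le_mul_of_nonneg_left (hsgn2 hδ) (show (0 : ℤ) ≤ t by positivity)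
    refine ⟨fun ho he3 => ?_, fun he4 => ?_⟩
    · exfalso
      obtain ⟨m, hm⟩ := ho
      rw [show (e + 1) / 2 = m + 1 by omega] at hA1
      push_cast at hA1
      have hm1 : (1 : ℤ) ≤ m := by omega
      nlinarith [mul_nonneg (show (0 : ℤ) ≤ (m : ℤ) - 1 by omega) (show (0 : ℤ) ≤ (t : ℤ) - 3 by omega)]
    · by_contra hlt
      have hm2 : (2 : ℤ) * (((e + 1) / 2 : ℕ) : ℤ) ≥ e := by omega
      have : (t : ℤ) * e ≤ t * (2 * (((e + 1) / 2 : ℕ) : ℤ)) := mul_le_mul_of_nonneg_left hm2 (by positivity)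
      nlinarith [mul_nonneg (show (0 : ℤ) ≤ (e : ℤ) - 6 by omega) (show (0 : ℤ) ≤ (t : ℤ) - 3 by omega)]

end CfsgLib.Char.FeitDegree.StageOne
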