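import Mathlib
import Cfsg.Agent.Lib.TraceTI.Orbits

/-!
# Stable equivalence of matrix representations

`InI S T f` says that `f` is a trace from the trivial subgroup; two matrix representations are
stably equivalent when they are inverse to each other modulo such maps.  For a Sylow subgroup of
prime order, stable equivalence over the normalizer is stable equivalence over the group.
-/

set_option autoImplicit false

namespace CfsgLib.Char.FeitDegree.Stable

open Matrix

section Def

variable {R : Type*} [CommRing R] {G : Type*} [Group G]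
  {ι κ μ : Type*} [Fintype ι] [DecidableEq ι] [Fintype κ] [DecidableEq κ] [Fintype μ] [DecidableEq μ]
  (S : G →* Matrix ι ι R) (T : G →* Matrix κ κ R) (U : G →* Matrix μ μ R)

/-- Conjugation on the maps from `S` to `T`. -/
def cj (g : G) (f : Matrix κ ι R) : Matrix κ ι R := T g * f * S g⁻¹

/-- The equivariant maps. -/
def IsEq (f : Matrix κ ι R) : Prop := ∀ g, T g * f = f * S g

variable {S T U}

theorem mul_inv_eq_one (g : G) : S g * S g⁻¹ = 1 := by rw [← map_mul, mul_inv_cancel, map_one]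

theorem inv_mul_eq_one' (g : G) : S g⁻¹ * S g = 1 := by rw [← map_mul, inv_mul_cancel, map_one]

theorem cj_mul (g h : G) (f : Matrix κ ι R) : cj S T (g * h) f = cj S T g (cj S T h f) := by
  simp only [cj, map_mul, _root_.mul_inv_rev, Matrix.mul_assoc]

theorem cj_one (f : Matrix κ ι R) : cj S T 1 f = f := by simp [cj]

theorem cj_add (g : G) (f f' : Matrix κ ι R) : cj S T g (f + f') = cj S T g f + cj S T g f' := by
  simp [cj, Matrix.mul_add, Matrix.add_mul]

theorem cj_zero (g : G) : cj S T g 0 = 0 := by simp [cj]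

theorem cj_smul (g : G) (c : R) (f : Matrix κ ι R) : cj S T g (c • f) = c • cj S T g f := by
  simp [cj]

variable (S T) in
/-- Conjugation as an additive map. -/
def cjHom (g : G) : Matrix κ ι R →+ Matrix κ ι R where
  toFun := cj S T g
  map_zero' := cj_zero g
  map_add' := cj_add g

theorem isEq_iff_cj (f : Matrix κ ι R) : IsEq S T f ↔ ∀ g, cj S T g f = f := by
  refine ⟨fun h g => ?_, fun h g => ?_⟩
  · rw [cj, h g, Matrix.mul_assoc, mul_inv_eq_one, Matrix.mul_one]
  · conv_rhs => rw [← h g, cj, Matrix.mul_assoc, inv_mul_eq_one', Matrix.mul_one]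

theorem cj_comp (g : G) (b : Matrix μ κ R) (f : Matrix κ ι R) :
    cj S U g (b * f) = cj T U g b * cj S T g f := by
  simp only [cj, Matrix.mul_assoc]
  rw [← Matrix.mul_assoc (T g⁻¹), inv_mul_eq_one', Matrix.one_mul]

theorem cj_mul_left {b : Matrix μ κ R} (hb : IsEq T U b) (g : G) (f : Matrix κ ι R) :
    cj S U g (b * f) = b * cj S T g f := by rw [cj_comp (T := T), (isEq_iff_cj b).1 hb g]

theorem cj_mul_right {a : Matrix κ ι R} (ha : IsEq S T a) (g : G) (f : Matrix μ κ R) :
    cj S U g (f * a) = cj T U g f * a := by rw [cj_comp (T := T), (isEq_iff_cj a).1 ha g]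

theorem IsEq.one : IsEq S S (1 : Matrix ι ι R) := fun g => by rw [Matrix.mul_one, Matrix.one_mul]

theorem IsEq.zero : IsEq S T (0 : Matrix κ ι R) := fun g => by simp

theorem IsEq.add {f f' : Matrix κ ι R} (h : IsEq S T f) (h' : IsEq S T f') : IsEq S T (f + f') :=
  fun g => by rw [Matrix.mul_add, Matrix.add_mul, h g, h' g]

theorem IsEq.sub {f f' : Matrix κ ι R} (h : IsEq S T f) (h' : IsEq S T f') : IsEq S T (f - f') :=
  fun g => by rw [Matrix.mul_sub, Matrix.sub_mul, h g, h' g]

theorem IsEq.smul {f : Matrix κ ι R} (h : IsEq S T f) (c : R) : IsEq S T (c • f) :=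
  fun g => by rw [Matrix.mul_smul, Matrix.smul_mul, h g]

theorem IsEq.comp {b : Matrix μ κ R} {a : Matrix κ ι R} (hb : IsEq T U b) (ha : IsEq S T a) :
    IsEq S U (b * a) :=
  fun g => by rw [← Matrix.mul_assoc, hb g, Matrix.mul_assoc, ha g, Matrix.mul_assoc]

theorem IsEq.res {f : Matrix κ ι R} (h : IsEq S T f) {H : Type*} [Group H] (φ : H →* G) :
    IsEq (S.comp φ) (T.comp φ) f := fun g => h (φ g)

end Def

section Trace

variable {R : Type*} [CommRing R] {G : Type*} [Group G] [Fintype G]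
  {ι κ μ : Type*} [Fintype ι] [DecidableEq ι] [Fintype κ] [DecidableEq κ] [Fintype μ] [DecidableEq μ]
  (S : G →* Matrix ι ι R) (T : G →* Matrix κ κ R) {U : G →* Matrix μ μ R}

/-- The trace from the trivial subgroup. -/
def trOne (f : Matrix κ ι R) : Matrix κ ι R := ∑ g : G, cj S T g f

/-- Being a trace from the trivial subgroup. -/
def InI (f : Matrix κ ι R) : Prop := ∃ f₀, trOne S T f₀ = f

variable {S T}

theorem cj_trOne (g : G) (f : Matrix κ ι R) : cj S T g (trOne S T f) = trOne S T f := by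
  show cjHom S T g (∑ h : G, cj S T h f) = _
  rw [map_sum]
  exact Fintype.sum_equiv (Equiv.mulLeft g) _ _ fun h => (cj_mul g h f).symm

theorem trOne_isEq (f : Matrix κ ι R) : IsEq S T (trOne S T f) :=
  (isEq_iff_cj _).2 fun g => cj_trOne g f

theorem InI.isEq {f : Matrix κ ι R} (h : InI S T f) : IsEq S T f := by
  obtain ⟨f₀, rfl⟩ := h
  exact trOne_isEq f₀

theorem InI.zero : InI S T (0 : Matrix κ ι R) := ⟨0, by simp [trOne, cj_zero]⟩

theorem InI.add {f f' : Matrix κ ι R} (h : InI S T f) (h' : InI S T f') : InI S T (f + f') := by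
  obtain ⟨a, rfl⟩ := h; obtain ⟨b, rfl⟩ := h'
  exact ⟨a + b, by simp [trOne, cj_add, Finset.sum_add_distrib]⟩

theorem InI.smul {f : Matrix κ ι R} (h : InI S T f) (c : R) : InI S T (c • f) := by
  obtain ⟨a, rfl⟩ := h
  exact ⟨c • a, by simp [trOne, cj_smul, Finset.smul_sum]⟩

theorem InI.neg {f : Matrix κ ι R} (h : InI S T f) : InI S T (-f) := by
  simpa using h.smul (-1)

theorem InI.sub {f f' : Matrix κ ι R} (h : InI S T f) (h' : InI S T f') : InI S T (f - f') := by
  simpa [sub_eq_add_neg] using h.add h'.neg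

theorem InI.mul_left {b : Matrix μ κ R} (hb : IsEq T U b) {f : Matrix κ ι R} (h : InI S T f) :
    InI S U (b * f) := by
  obtain ⟨a, rfl⟩ := h
  exact ⟨b * a, by rw [trOne, trOne, Matrix.mul_sum]; exact Finset.sum_congr rfl fun g _ => cj_mul_left hb g a⟩

theorem InI.mul_right {a : Matrix κ ι R} (ha : IsEq S T a) {f : Matrix μ κ R} (h : InI T U f) :
    InI S U (f * a) := by
  obtain ⟨b, rfl⟩ := h
  exact ⟨b * a, by rw [trOne, trOne, Matrix.sum_mul]; exact Finset.sum_congr rfl fun g _ => cj_mul_right ha g b⟩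

variable (S T) in
/-- Stable equivalence. -/
def StEq : Prop :=
  ∃ (a : Matrix κ ι R) (b : Matrix ι κ R), IsEq S T a ∧ IsEq T S b ∧ InI S S (1 - b * a) ∧ InI T T (1 - a * b)

theorem StEq.refl : StEq S S :=
  ⟨1, 1, IsEq.one, IsEq.one, by simpa using InI.zero, by simpa using InI.zero⟩

theorem StEq.symm (h : StEq S T) : StEq T S := by
  obtain ⟨a, b, ha, hb, h1, h2⟩ := h
  exact ⟨b, a, hb, ha, h2, h1⟩

theorem StEq.trans (h : StEq S T) (h' : StEq T U) : StEq S U := by
  obtain ⟨a, b, ha, hb, h1, h2⟩ := h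
  obtain ⟨a', b', ha', hb', h1', h2'⟩ := h'
  refine ⟨a' * a, b * b', ha'.comp ha, hb.comp hb', ?_, ?_⟩
  · have e : (1 : Matrix ι ι R) - b * b' * (a' * a) = (1 - b * a) + b * ((1 - b' * a') * a) := by
      simp only [Matrix.sub_mul, Matrix.mul_sub, Matrix.one_mul, Matrix.mul_assoc]; abel
    rw [e]
    exact h1.add ((h1'.mul_right ha).mul_left hb)
  · have e : (1 : Matrix μ μ R) - a' * a * (b * b') = (1 - a' * b') + a' * ((1 - a * b) * b') := by
      simp only [Matrix.sub_mul, Matrix.mul_sub, Matrix.one_mul, Matrix.mul_assoc]; abel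
    rw [e]
    exact h2'.add ((h2.mul_right hb').mul_left ha')

/-- An equivariant isomorphism gives a stable equivalence. -/
theorem StEq.of_inv {a : Matrix κ ι R} {b : Matrix ι κ R} (ha : IsEq S T a) (hba : b * a = 1)
    (hab : a * b = 1) : StEq S T := by
  refine ⟨a, b, ha, fun g => ?_, by rw [hba, sub_self]; exact InI.zero,
    by rw [hab, sub_self]; exact InI.zero⟩
  calc S g * b = b * a * (S g * b) := by rw [hba, Matrix.one_mul]
    _ = b * (a * S g) * b := by simp only [Matrix.mul_assoc]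
    _ = b * (T g * a) * b := by rw [← ha g]
    _ = b * T g * (a * b) := by simp only [Matrix.mul_assoc]
    _ = b * T g := by rw [hab, Matrix.mul_one]

variable (S) in
/-- No nonzero summand is a trace from the trivial subgroup. -/
def IsFreeRep : Prop := ∀ i, InI S S i → IsUnit (1 + i)

/-- A representation on which every trace is nilpotent. -/
theorem IsFreeRep.of_nilpotent (h : ∀ i, InI S S i → IsNilpotent i) : IsFreeRep S :=
  fun i hi => (h i hi).isUnit_one_add

/-- Stably equivalent representations without projective summands are isomorphic. -/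
theorem StEq.iso (h : StEq S T) (hS : IsFreeRep S) (hT : IsFreeRep T) :
    ∃ (a : Matrix κ ι R) (b : Matrix ι κ R), IsEq S T a ∧ b * a = 1 ∧ a * b = 1 := by
  obtain ⟨a, b, ha, hb, h1, h2⟩ := h
  obtain ⟨u, hu⟩ : IsUnit (b * a) := by
    have := hS _ h1.neg
    rwa [neg_sub, add_sub_cancel] at this
  obtain ⟨v, hv⟩ : IsUnit (a * b) := by
    have := hT _ h2.neg
    rwa [neg_sub, add_sub_cancel] at this
  set r : Matrix κ κ R := ↑v⁻¹
  set l : Matrix ι ι R := ↑u⁻¹
  have hla : (l * b) * a = 1 := by rw [Matrix.mul_assoc, ← hu]; exact u.inv_mul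
  have har : a * (b * r) = 1 := by rw [← Matrix.mul_assoc, ← hv]; exact v.mul_inv
  have e : b * r = l * b := by
    calc b * r = (l * b) * a * (b * r) := by rw [hla, Matrix.one_mul]
      _ = (l * b) * (a * (b * r)) := by rw [Matrix.mul_assoc]
      _ = l * b := by rw [har, Matrix.mul_one]
  exact ⟨a, l * b, ha, hla, e ▸ har⟩

end Trace

section SumDef

variable {R : Type*} [CommRing R] {G : Type*} [Group G]
  {ι κ : Type*} [Fintype ι] [DecidableEq ι] [Fintype κ] [DecidableEq κ]
  (S : G →* Matrix ι ι R) (T : G →* Matrix κ κ R)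

/-- The direct sum. -/
def dsum : G →* Matrix (ι ⊕ κ) (ι ⊕ κ) R where
  toFun g := fromBlocks (S g) 0 0 (T g)
  map_one' := by simp [fromBlocks_one]
  map_mul' g h := by simp [fromBlocks_multiply]

theorem dsum_apply (g : G) : dsum S T g = fromBlocks (S g) 0 0 (T g) := rfl

end SumDef

section Sum

variable {R : Type*} [CommRing R] {G : Type*} [Group G] [Fintype G]
  {ι κ ι' κ' : Type*} [Fintype ι] [DecidableEq ι] [Fintype κ] [DecidableEq κ]
  [Fintype ι'] [DecidableEq ι'] [Fintype κ'] [DecidableEq κ']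
  (S : G →* Matrix ι ι R) (T : G →* Matrix κ κ R)

variable {S T} {S' : G →* Matrix ι' ι' R} {T' : G →* Matrix κ' κ' R}

theorem cj_fromBlocks (g : G) (A : Matrix ι' ι R) (B : Matrix ι' κ R) (C : Matrix κ' ι R) (D : Matrix κ' κ R) :
    cj (dsum S T) (dsum S' T') g (fromBlocks A B C D) =
      fromBlocks (cj S S' g A) (cj T S' g B) (cj S T' g C) (cj T T' g D) := by
  simp [cj, dsum_apply, fromBlocks_multiply]

theorem trOne_fromBlocks (A : Matrix ι' ι R) (B : Matrix ι' κ R) (C : Matrix κ' ι R) (D : Matrix κ' κ R) :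
    trOne (dsum S T) (dsum S' T') (fromBlocks A B C D) =
      fromBlocks (trOne S S' A) (trOne T S' B) (trOne S T' C) (trOne T T' D) := by
  ext (i | i) (j | j) <;> simp [trOne, cj_fromBlocks, Matrix.sum_apply]

theorem InI.fromBlocks {A : Matrix ι' ι R} {B : Matrix ι' κ R} {C : Matrix κ' ι R} {D : Matrix κ' κ R}
    (hA : InI S S' A) (hB : InI T S' B) (hC : InI S T' C) (hD : InI T T' D) :
    InI (dsum S T) (dsum S' T') (fromBlocks A B C D) := by
  obtain ⟨a, rfl⟩ := hA; obtain ⟨b, rfl⟩ := hB; obtain ⟨c, rfl⟩ := hC; obtain ⟨d, rfl⟩ := hD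
  exact ⟨_, trOne_fromBlocks a b c d⟩

theorem StEq.dsum (h : StEq S S') (h' : StEq T T') : StEq (Stable.dsum S T) (Stable.dsum S' T') := by
  obtain ⟨a, b, ha, hb, h1, h2⟩ := h
  obtain ⟨a', b', ha', hb', h1', h2'⟩ := h'
  refine ⟨Matrix.fromBlocks a 0 0 a', Matrix.fromBlocks b 0 0 b', fun g => ?_, fun g => ?_, ?_, ?_⟩
  · simp [dsum_apply, fromBlocks_multiply, ha g, ha' g]
  · simp [dsum_apply, fromBlocks_multiply, hb g, hb' g]
  · rw [fromBlocks_multiply, ← fromBlocks_one, sub_eq_add_neg, fromBlocks_neg, fromBlocks_add]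
    simpa [← sub_eq_add_neg] using InI.fromBlocks h1 InI.zero InI.zero h1'
  · rw [fromBlocks_multiply, ← fromBlocks_one, sub_eq_add_neg, fromBlocks_neg, fromBlocks_add]
    simpa [← sub_eq_add_neg] using InI.fromBlocks h2 InI.zero InI.zero h2'

/-- A direct sum of representations without projective summands has none. -/
theorem IsFreeRep.dsum (hS : IsFreeRep S) (hT : IsFreeRep T) : IsFreeRep (Stable.dsum S T) := by
  rintro i ⟨f, rfl⟩
  rw [← fromBlocks_toBlocks f, trOne_fromBlocks]
  set A := trOne S S f.toBlocks₁₁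
  set B := trOne T S f.toBlocks₁₂
  set C := trOne S T f.toBlocks₂₁
  set D := trOne T T f.toBlocks₂₂
  rw [← fromBlocks_one, fromBlocks_add, zero_add, zero_add]
  have hA : IsUnit (1 + A) := hS _ ⟨_, rfl⟩
  obtain ⟨u, hu⟩ := hA
  have huq : IsEq S S (↑u⁻¹ : Matrix ι ι R) := fun g => by
    have hc : Commute (S g) (u : Matrix ι ι R) := by
      rw [hu]; exact (IsEq.one.add (trOne_isEq (S := S) (T := S) f.toBlocks₁₁)) g
    exact hc.units_inv_right.eq
  haveI : Invertible (1 + A) := u.invertible.copy _ hu.symm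
  rw [Matrix.isUnit_fromBlocks_iff_of_invertible₁₁]
  have hinv : ⅟(1 + A) = (↑u⁻¹ : Matrix ι ι R) := invOf_eq_right_inv (by rw [← hu]; exact u.mul_inv)
  rw [hinv, add_sub_assoc]
  refine hT _ ((show InI T T D from ⟨_, rfl⟩).sub ?_)
  exact InI.mul_left (U := T) ((trOne_isEq (S := S) (T := T) f.toBlocks₂₁).comp huq)
    (show InI T S B from ⟨_, rfl⟩)

end Sum

section Normalizer

variable {R : Type*} [CommRing R] {G : Type*} [Group G] [Fintype G] {P N : Subgroup G}
  [Fintype N] [Fintype (G ⧸ N)]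
  {ι κ : Type*} [Fintype ι] [DecidableEq ι] [Fintype κ] [DecidableEq κ]
  {S : G →* Matrix ι ι R} {T : G →* Matrix κ κ R}

variable (S T N) in
/-- The trace from `N`. -/
noncomputable def trN (f : Matrix κ ι R) : Matrix κ ι R := ∑ q : G ⧸ N, cj S T q.out f

theorem cj_out_eq {f : Matrix κ ι R} (hf : IsEq (S.comp N.subtype) (T.comp N.subtype) f) (g : G) :
    cj S T (g : G ⧸ N).out f = cj S T g f := by
  obtain ⟨n, hn⟩ := QuotientGroup.mk_out_eq_mul N g
  rw [hn, cj_mul]
  exact congrArg (cj S T g) ((isEq_iff_cj _).1 hf n)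

theorem isEq_trN {f : Matrix κ ι R} (hf : IsEq (S.comp N.subtype) (T.comp N.subtype) f) :
    IsEq S T (trN N S T f) := by
  refine (isEq_iff_cj _).2 fun g => ?_
  show cjHom S T g (∑ q : G ⧸ N, cj S T q.out f) = _
  rw [map_sum]
  refine Fintype.sum_equiv (MulAction.toPerm g) _ _ fun q => ?_
  show cj S T g (cj S T q.out f) = cj S T (g • q).out f
  rw [← cj_mul, ← cj_out_eq hf]
  congr 1
  conv_rhs => rw [← QuotientGroup.out_eq' q]
  rfl

theorem trN_trOne (f₀ : Matrix κ ι R) :
    trN N S T (trOne (S.comp N.subtype) (T.comp N.subtype) f₀) = trOne S T f₀ := by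
  show ∑ q : G ⧸ N, cjHom S T q.out (∑ n : N, cj (S.comp N.subtype) (T.comp N.subtype) n f₀) = _
  simp only [map_sum]
  rw [← Fintype.sum_prod_type', trOne]
  refine Fintype.sum_bijective (fun x : (G ⧸ N) × N => x.1.out * (x.2 : G)) ⟨?_, ?_⟩ _ _ fun x =>
    (cj_mul _ _ f₀).symm
  · rintro ⟨q, n⟩ ⟨q', n'⟩ e
    have hq : q = q' := by
      have h := congrArg (fun g : G => (g : G ⧸ N)) e
      simpa [QuotientGroup.mk_mul_of_mem _ n.2, QuotientGroup.mk_mul_of_mem _ n'.2] using h
    subst hq
    exact Prod.ext rfl (Subtype.ext (mul_left_cancel e))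
  · intro g
    refine ⟨((g : G ⧸ N), ⟨(g : G ⧸ N).out⁻¹ * g, QuotientGroup.eq.1 (QuotientGroup.out_eq' _)⟩), ?_⟩
    simp

theorem trN_of_isEq {f : Matrix κ ι R} (hf : IsEq S T f) : trN N S T f = (N.index : R) • f := by
  rw [trN, Finset.sum_congr rfl fun q _ => (isEq_iff_cj f).1 hf _, Finset.sum_const, Finset.card_univ,
    ← Nat.card_eq_fintype_card, ← Subgroup.index, Nat.cast_smul_eq_nsmul]

/-- A trace from the trivial subgroup of the normalizer is one of the group. -/
theorem InI.of_restrict (hu : IsUnit (N.index : R)) {f : Matrix κ ι R} (hf : IsEq S T f)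
    (h : InI (S.comp N.subtype) (T.comp N.subtype) f) : InI S T f := by
  obtain ⟨f₀, h0⟩ := h
  obtain ⟨c, hc⟩ := hu
  have h1 : InI S T ((N.index : R) • f) := ⟨f₀, by rw [← trN_trOne (N := N), h0, trN_of_isEq hf]⟩
  simpa [← hc, smul_smul] using h1.smul (↑c⁻¹ : R)

/-- An invariant trace from `P` is a trace from the trivial subgroup when the index is a unit. -/
theorem InI.of_sylow [Fintype P] (hPN : P ≤ N) {c : R} (hc : c * (P.relIndex N : R) = 1)
    {f : Matrix κ ι R} (hf : IsEq (S.comp N.subtype) (T.comp N.subtype) f)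
    {f₀ : Matrix κ ι R} (h : trOne (S.comp P.subtype) (T.comp P.subtype) f₀ = f) :
    InI (S.comp N.subtype) (T.comp N.subtype) f := by
  classical
  set Q := P.subgroupOf N
  letI : Fintype Q := Fintype.ofFinite _
  letI : Fintype (N ⧸ Q) := Fintype.ofFinite _
  have hQ : trOne ((S.comp N.subtype).comp Q.subtype) ((T.comp N.subtype).comp Q.subtype) f₀ = f := by
    rw [← h]
    exact Fintype.sum_equiv (Subgroup.subgroupOfEquivOfLe hPN).toEquiv _ _ fun _ => rfl
  have h1 : InI (S.comp N.subtype) (T.comp N.subtype) ((Q.index : R) • f) :=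
    ⟨f₀, by rw [← trN_trOne (N := Q), hQ, trN_of_isEq hf]⟩
  have := h1.smul c
  rwa [smul_smul, show (Q.index : R) = (P.relIndex N : R) from rfl, hc, one_smul] at this

/-- The hypotheses on `P` and `N`. -/
structure Local (R : Type*) [CommRing R] {G : Type*} [Group G] (P N : Subgroup G) : Prop where
  le : P ≤ N
  ti : ∀ u ∈ P, ∀ g : G, g⁻¹ * u * g ∈ N → u = 1 ∨ g ∈ N
  index : IsUnit (N.index : R)
  relIndex : IsUnit (P.relIndex N : R)

/-- The trace from `N` of an equivariant map differs from it by a trace from the trivial subgroup. -/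
theorem InI.trN_sub [Fintype P] (L : Local R P N) {f : Matrix κ ι R}
    (hf : IsEq (S.comp N.subtype) (T.comp N.subtype) f) :
    InI (S.comp N.subtype) (T.comp N.subtype) (trN N S T f - f) := by
  classical
  obtain ⟨ψ, hψ⟩ := TraceTI.exists_sum_free_eq_trace (H := P) (α := G ⧸ N) (fun u => cjHom S T (u : G))
    (fun q => cj S T q.out f) (fun u q => by
      show cj S T ((u : G) • q).out f = cj S T (u : G) (cj S T q.out f)
      rw [← cj_mul, ← cj_out_eq hf ((u : G) * q.out)]
      congr 1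
      conv_lhs => rw [← QuotientGroup.out_eq' q]
      rfl)
    (Finset.univ.erase ((1 : G) : G ⧸ N)) (fun u q hq => by
      rw [Finset.mem_erase] at hq ⊢
      refine ⟨fun e => hq.1 ?_, Finset.mem_univ _⟩
      have h1 : q = ((u⁻¹ : P) : G) • ((1 : G) : G ⧸ N) := by rw [← e]; exact (inv_smul_smul u q).symm
      rw [h1]
      refine QuotientGroup.eq.2 ?_
      simpa using N.inv_mem (L.le (u⁻¹).2))
    (fun q hq u hu => by
      have hne := (Finset.mem_erase.1 hq).1
      have h1 : (u : G) • q = q := hu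
      rw [← QuotientGroup.out_eq' q] at h1
      have h2 : q.out⁻¹ * (u : G) * q.out ∈ N := by
        have := QuotientGroup.eq.1 h1.symm
        simpa [mul_assoc] using this
      rcases L.ti _ u.2 _ h2 with h | h
      · exact Subtype.ext h
      · exact absurd (by rw [← QuotientGroup.out_eq' q]; exact QuotientGroup.eq.2 (by simpa using h)) hne)
  have hsum : trN N S T f - f = ∑ q ∈ Finset.univ.erase ((1 : G) : G ⧸ N), cj S T q.out f := by
    rw [trN, ← Finset.sum_erase_add _ _ (Finset.mem_univ ((1 : G) : G ⧸ N)), cj_out_eq hf 1, cj_one,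
      add_sub_cancel_right]
  obtain ⟨c, hc⟩ := L.relIndex
  refine InI.of_sylow L.le (c := ↑c⁻¹) (by rw [← hc]; exact c.inv_mul) ?_ (f₀ := ψ) ?_
  · exact ((isEq_trN hf).res _).sub hf
  · rw [hsum, hψ]
    rfl

/-- Stable equivalence over the normalizer gives stable equivalence. -/
theorem StEq.induce [Fintype P] (L : Local R P N) (h : StEq (S.comp N.subtype) (T.comp N.subtype)) :
    StEq S T := by
  obtain ⟨a, b, ha, hb, h1, h2⟩ := h
  have hA := InI.trN_sub L ha
  have hB := InI.trN_sub L hb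
  have hA' : IsEq S T (trN N S T a) := isEq_trN ha
  have hB' : IsEq T S (trN N T S b) := isEq_trN hb
  refine ⟨trN N S T a, trN N T S b, hA', hB', InI.of_restrict L.index (IsEq.one.sub (hB'.comp hA')) ?_,
    InI.of_restrict L.index (IsEq.one.sub (hA'.comp hB')) ?_⟩
  · have e : 1 - trN N T S b * trN N S T a
        = (1 - b * a) - ((trN N T S b - b) * trN N S T a + b * (trN N S T a - a)) := by
      simp only [Matrix.sub_mul, Matrix.mul_sub]; abel
    rw [e]
    exact h1.sub ((hB.mul_right (hA'.res _)).add (hA.mul_left hb))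
  · have e : 1 - trN N S T a * trN N T S b
        = (1 - a * b) - ((trN N S T a - a) * trN N T S b + a * (trN N T S b - b)) := by
      simp only [Matrix.sub_mul, Matrix.mul_sub]; abel
    rw [e]
    exact h2.sub ((hA.mul_right (hB'.res _)).add (hB.mul_left ha))

end Normalizer

section Restrict

variable {R : Type*} [CommRing R] {G : Type*} [Group G] [Fintype G] (H : Subgroup G) [Fintype H]
  {ι κ : Type*} [Fintype ι] [DecidableEq ι] [Fintype κ] [DecidableEq κ]
  {S : G →* Matrix ι ι R} {T : G →* Matrix κ κ R}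

/-- A trace from the trivial subgroup is one in every subgroup. -/
theorem exists_trOne_restrict (f : Matrix κ ι R) :
    ∃ f', trOne (S.comp H.subtype) (T.comp H.subtype) f' = trOne S T f := by
  letI : Fintype (G ⧸ H) := Fintype.ofFinite _
  refine ⟨∑ q : G ⧸ H, cj S T q.out⁻¹ f, ?_⟩
  show ∑ u : H, cjHom S T (u : G) (∑ q : G ⧸ H, cj S T q.out⁻¹ f) = _
  simp only [map_sum]
  rw [← Fintype.sum_prod_type', trOne]
  refine Fintype.sum_bijective (fun w : H × (G ⧸ H) => (w.1 : G) * w.2.out⁻¹) ⟨?_, ?_⟩ _ _ fun w =>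
    (cj_mul _ _ f).symm
  · rintro ⟨u, q⟩ ⟨u', q'⟩ e
    have hq : q = q' := by
      have h := congrArg (fun g : G => ((g⁻¹ : G) : G ⧸ H)) e
      simpa [QuotientGroup.mk_mul_of_mem _ (H.inv_mem u.2), QuotientGroup.mk_mul_of_mem _ (H.inv_mem u'.2)]
        using h
    subst hq
    exact Prod.ext (Subtype.ext (mul_right_cancel e)) rfl
  · intro g
    have hm : g * (((g⁻¹ : G) : G ⧸ H)).out ∈ H := by
      have h := QuotientGroup.eq.1 (QuotientGroup.out_eq' ((g⁻¹ : G) : G ⧸ H)).symm
      simpa using h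
    exact ⟨(⟨_, hm⟩, ((g⁻¹ : G) : G ⧸ H)), by simp⟩

theorem InI.restrict {f : Matrix κ ι R} (h : InI S T f) : InI (S.comp H.subtype) (T.comp H.subtype) f := by
  obtain ⟨f₀, rfl⟩ := h
  exact exists_trOne_restrict H f₀

end Restrict

end CfsgLib.Char.FeitDegree.Stable
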