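import Cfsg.Agent.Lib.Char.FeitDegree.Norm
import Cfsg.Agent.Lib.Char.FeitDegree.Omega
import Cfsg.Agent.Lib.Char.Linear
import Cfsg.Agent.Lib.Char.Constituent

/-!
# Linear characters of the normalizer that are trivial on the Sylow subgroup
-/

set_option autoImplicit false

open scoped Classical ComplexConjugate

namespace CfsgLib.Char.FeitDegree.Weight

open Cfsg CfsgLib CfsgLib.Blocks CfsgLib.Blocks.DefectOne CfsgLib.CharDeep.ExactP
open CfsgLib.Char.DegHalf (Over norm_linear conj_linear_mul)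

universe u

/-- Fourier coefficients are unique. -/
theorem coeff_unique {p : ℕ} [hp : Fact p.Prime] {f g : ZMod p → ℂ}
    (h : ∀ a : ZMod p, ∑ k, f k * ZMod.stdAddChar (k * a) = ∑ k, g k * ZMod.stdAddChar (k * a)) : f = g := by
  funext l
  have hsum : ∀ u : ZMod p → ℂ,
      ∑ a : ZMod p, (∑ k, u k * ZMod.stdAddChar (k * a)) * ZMod.stdAddChar (-l * a) = (p : ℂ) * u l := by
    intro u
    simp only [Finset.sum_mul, mul_assoc, ← AddChar.map_add_eq_mul, ← add_mul]
    rw [Finset.sum_comm, Finset.sum_eq_single l]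
    · simp [mul_comm]
    · intro k _ hk
      rw [← Finset.mul_sum, Frame.sum_std', if_neg (by rwa [← sub_eq_add_neg, sub_eq_zero]), mul_zero]
    · exact fun hn => absurd (Finset.mem_univ _) hn
  have h1 := hsum f
  simp only [h, hsum g] at h1
  exact (mul_left_cancel₀ (Nat.cast_ne_zero.2 hp.out.ne_zero) h1).symm

/-- Orthogonality of the linear characters of a commutative group. -/
theorem sum_hom_apply {A : Type*} [Group A] [Finite A] [Fintype (A →* ℂˣ)] (hA : ∀ a b : A, a * b = b * a) (c : A) :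
    ∑ w : A →* ℂˣ, (w c : ℂ) = if c = 1 then (Nat.card A : ℂ) else 0 := by
  letI : CommGroup A := { ‹Group A› with mul_comm := hA }
  split_ifs with hc
  · subst hc
    simp only [map_one, Units.val_one, Finset.sum_const, Finset.card_univ, nsmul_eq_mul, mul_one,
      ← Nat.card_eq_fintype_card, CommGroup.card_monoidHom_of_hasEnoughRootsOfUnity]
  · obtain ⟨φ, hφ⟩ := CommGroup.exists_apply_ne_one_of_hasEnoughRootsOfUnity A ℂ hc
    have h : (φ c : ℂ) * ∑ w : A →* ℂˣ, (w c : ℂ) = ∑ w : A →* ℂˣ, (w c : ℂ) := by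
      rw [Finset.mul_sum]
      exact Fintype.sum_equiv (Equiv.mulLeft φ) _ _ fun w => rfl
    have h2 : ((φ c : ℂ) - 1) * ∑ w : A →* ℂˣ, (w c : ℂ) = 0 := by rw [sub_mul, h, one_mul, sub_self]
    exact (mul_eq_zero.1 h2).resolve_left (sub_ne_zero.2 fun e => hφ (Units.ext e))

variable {G : Type u} [Group G] [Fintype G] {p : ℕ} [hp : Fact p.Prime] {P : Sylow p G} {D : Frame P}
  (E : Norm.Split D)

/-- The projection to the complement. -/
noncomputable def pr : nrm P →* E.Δ.A where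
  toFun n := (E.Δ.decomp n).choose_spec.choose
  map_one' := (Translation.unique E.Δ (i := (E.Δ.decomp 1).choose) (j := 0) (b := 1)
    ((E.Δ.decomp 1).choose_spec.choose_spec.symm.trans (by simp))).1
  map_mul' n n' := by
    have h := (E.Δ.decomp (n * n')).choose_spec.choose_spec
    have h1 := (E.Δ.decomp n).choose_spec.choose_spec
    have h2 := (E.Δ.decomp n').choose_spec.choose_spec
    set a := (E.Δ.decomp n).choose_spec.choose
    set b := (E.Δ.decomp n').choose_spec.choose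
    set i := (E.Δ.decomp n).choose
    set j := (E.Δ.decomp n').choose
    refine (Translation.unique E.Δ (h.symm.trans (?_ : n * n'
      = E.Δ.x ^ (i + ((E.Δ.ε a : (ZMod p)ˣ) : ZMod p).val * j) * ((a * b : E.Δ.A) : nrm P)))).1
    conv_lhs => rw [h1, h2]
    rw [pow_add, pow_mul, ← E.Δ.conj, _root_.conj_pow, Subgroup.coe_mul]
    group

theorem pr_mul (i : ℕ) (a : E.Δ.A) : pr E (E.Δ.x ^ i * (a : nrm P)) = a :=
  (Translation.unique E.Δ (E.Δ.decomp _).choose_spec.choose_spec.symm).1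

theorem pr_x : pr E E.Δ.x = 1 := by simpa using pr_mul E 1 1

theorem act_x : D.act E.Δ.x = 1 := (D.act_eq_one_iff _).2 ((D.mem_cent_iff _).2 (by rw [E.coe_x]))

theorem eps_pr (n : nrm P) : E.Δ.ε (pr E n) = D.act n := by
  obtain ⟨i, a, rfl⟩ := E.Δ.decomp n
  rw [pr_mul, E.eps, map_mul, map_pow, act_x, one_pow, one_mul]

/-- Off the centralizer every element is conjugate to its projection. -/
theorem exists_conj {n : nrm P} (hn : D.act n ≠ 1) :
    ∃ g : nrm P, g * ((pr E n : E.Δ.A) : nrm P) * g⁻¹ = n := by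
  obtain ⟨i, a, rfl⟩ := E.Δ.decomp n
  rw [pr_mul]
  rw [map_mul, map_pow, act_x, one_pow, one_mul, ← E.eps] at hn
  set u := ((E.Δ.ε a : (ZMod p)ˣ) : ZMod p) with hu
  have hu1 : 1 - u ≠ 0 := fun h => hn (Units.ext (sub_eq_zero.1 h).symm)
  set j : ZMod p := (i : ZMod p) * (1 - u)⁻¹ with hj
  set g := E.Δ.x ^ j.val
  refine ⟨g, ?_⟩
  have h1 : (a : nrm P) * g⁻¹ = (E.Δ.x ^ (u.val * j.val))⁻¹ * (a : nrm P) := by
    rw [pow_mul, ← E.Δ.conj, _root_.conj_pow]
    simp only [g]
    group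
  rw [mul_assoc, h1, ← mul_assoc]
  congr 1
  rw [mul_inv_eq_iff_eq_mul, ← pow_add, pow_eq_pow_iff_modEq, E.Δ.ord, ← ZMod.natCast_eq_natCast_iff]
  push_cast [ZMod.natCast_zmod_val]
  rw [hj]
  field_simp
  ring

include E in
/-- Elements off the centralizer are `p`-regular. -/
theorem regular {n : nrm P} (hn : D.act n ≠ 1) : ¬ p ∣ orderOf (n : G) := by
  obtain ⟨g, hg⟩ := exists_conj E hn
  rw [Subgroup.orderOf_coe, ← hg, ← MulAut.conj_apply, MulEquiv.orderOf_eq, Subgroup.orderOf_coe]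
  exact fun h => E.Δ.reg (h.trans (orderOf_dvd_natCard _))

/-- A linear character of the complement as one of the normalizer. -/
noncomputable def lift (w : E.Δ.A →* ℂˣ) : nrm P →* ℂˣ := w.comp (pr E)

theorem lift_x (w : E.Δ.A →* ℂˣ) : lift E w E.Δ.x = 1 := by
  rw [lift, MonoidHom.comp_apply, pr_x, map_one]

/-- Restricting to `μ` on `K0`. -/
def Ext (D : Frame P) (μ : IrrCharacter D.K0) (w : nrm P →* ℂˣ) : Prop :=
  ∀ v : D.K0, ((w ⟨v, D.K0_le_nrm v.2⟩ : ℂˣ) : ℂ) = (μ : D.K0 → ℂ) v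

/-- The multiplicity of a linear character. -/
noncomputable def wInner (f : G → ℂ) (w : nrm P →* ℂˣ) : ℂ :=
  classInner (fun n : nrm P => f n) (fun n : nrm P => (w n : ℂ))

theorem wInner_sum {ι : Type*} (s : Finset ι) (c : ι → ℂ) (f : ι → G → ℂ) (w : nrm P →* ℂˣ) :
    wInner (fun g => ∑ i ∈ s, c i * f i g) w = ∑ i ∈ s, c i * wInner (f i) w := by
  simp only [wInner, Cfsg.classInner, Finset.sum_mul, Finset.mul_sum]
  rw [Finset.sum_comm]
  exact Finset.sum_congr rfl fun i _ => Finset.sum_congr rfl fun n _ => by ring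

theorem exists_nat {f : G → ℂ} (hf : Cfsg.IsCharacter G f) (w : nrm P →* ℂˣ) : ∃ m : ℕ, wInner f w = m :=
  Char.IsCharacter.classInner_nat (Char.IsCharacter.restrict hf (nrm P)) (Char.isCharacter_hom w)

theorem card_nrm_eq : Nat.card (nrm P) = p * Nat.card E.Δ.A := by
  rw [← Nat.card_congr (Omega.parts E.Δ), Nat.card_prod, Nat.card_zmod]

theorem card_nrm_eq' (D : Frame P) :
    Nat.card (nrm P) = Nat.card D.act.range * (p * Nat.card D.K0) := by rw [D.card_nrm, D.card_cent]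

variable {E}

/-- The multiplicities of the linear characters add up to the multiplicity of the trivial one on `P`. -/
theorem sum_wInner (hA : ∀ a b : E.Δ.A, a * b = b * a) [Fintype (E.Δ.A →* ℂˣ)] (φ : IrrCharacter G) :
    ∑ w : E.Δ.A →* ℂˣ, wInner (φ : G → ℂ) (lift E w) = (nP D φ 0 : ℂ) := by
  simp only [wInner, Cfsg.classInner, ← Finset.mul_sum]
  rw [Finset.sum_comm]
  simp only [← Finset.mul_sum, ← map_sum (starRingEnd ℂ), lift, MonoidHom.comp_apply, sum_hom_apply hA]
  rw [← Fintype.sum_equiv (Omega.parts E.Δ) (fun q => (φ : G → ℂ) ((E.Δ.x ^ q.1.val * (q.2 : nrm P) : nrm P) : G) *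
      conj (if q.2 = 1 then (Nat.card E.Δ.A : ℂ) else 0)) _ fun q => by
    rw [show (Omega.parts E.Δ) q = E.Δ.x ^ q.1.val * (q.2 : nrm P) from rfl]
    simp only [pr_mul],
    Fintype.sum_prod_type,
    Finset.sum_congr rfl (g := fun a : ZMod p => (φ : G → ℂ) (D.x ^ a.val) * (Nat.card E.Δ.A : ℂ)) fun a _ => ?_]
  · rw [← Finset.sum_mul, sum_xpow, card_nrm_eq E, Nat.cast_mul]
    have h1 : (p : ℂ) ≠ 0 := Nat.cast_ne_zero.2 hp.out.ne_zero
    have h2 : (Nat.card E.Δ.A : ℂ) ≠ 0 := Nat.cast_ne_zero.2 Nat.card_pos.ne'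
    field_simp
  · rw [Finset.sum_eq_single (1 : E.Δ.A) (fun b _ hb => by rw [if_neg hb, map_zero, mul_zero])
      (fun h => absurd (Finset.mem_univ _) h), if_pos rfl, map_natCast]
    simp [E.coe_x]

theorem conj_mul_self (w : nrm P →* ℂˣ) (n : nrm P) : (w n : ℂ) * conj (w n : ℂ) = 1 := by
  obtain ⟨k, hk, hk1⟩ := (isOfFinOrder_of_finite n).exists_pow_eq_one
  rw [Complex.mul_conj', Complex.norm_eq_one_of_pow_eq_one (n := k)
    (by rw [← Units.val_pow_eq_pow_val, ← map_pow, hk1, map_one, Units.val_one]) hk.ne']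
  norm_num

theorem ext_of_ne {μ : IrrCharacter D.K0} (hμ : fdeg D μ = 1) {f : G → ℂ} (hf : Over μ f) {w : nrm P →* ℂˣ}
    (hne : wInner f w ≠ 0) : Ext D μ w := by
  intro v
  set z : nrm P := ⟨v, D.K0_le_nrm v.2⟩
  have h1 : wInner f w = (μ : D.K0 → ℂ) v * conj (w z : ℂ) * wInner f w := by
    rw [wInner, Cfsg.classInner]
    conv_lhs => rw [← Fintype.sum_equiv (Equiv.mulRight z)
      (fun n : nrm P => f ((n * z : nrm P) : G) * conj ((w (n * z) : ℂˣ) : ℂ)) _ fun n => rfl]
    rw [mul_left_comm ((μ : D.K0 → ℂ) v * conj (w z : ℂ))]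
    congr 1
    rw [Finset.mul_sum]
    refine Finset.sum_congr rfl fun n _ => ?_
    rw [Subgroup.coe_mul, show ((z : nrm P) : G) = (v : G) from rfl, hf, map_mul, Units.val_mul, map_mul]
    ring
  have h2 : (μ : D.K0 → ℂ) v * conj (w z : ℂ) = 1 := (mul_eq_right₀ hne).1 h1.symm
  calc (w z : ℂ) = (w z : ℂ) * ((μ : D.K0 → ℂ) v * conj (w z : ℂ)) := by rw [h2, mul_one]
    _ = (μ : D.K0 → ℂ) v * ((w z : ℂ) * conj (w z : ℂ)) := by ring
    _ = _ := by rw [conj_mul_self, mul_one]

/-- The multiplicity splits over the centralizer and its complement. -/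
theorem wInner_split {μ : IrrCharacter D.K0} (hμ : fdeg D μ = 1) {f : G → ℂ} (hf : Over μ f) {n : ZMod p → ℂ}
    (hn : ∀ a : ZMod p, f (D.x ^ a.val) = ∑ k, n k * ZMod.stdAddChar (k * a))
    {w : nrm P →* ℂˣ} (hx : w E.Δ.x = 1) (hw : Ext D μ w) :
    (Nat.card (nrm P) : ℂ) * wInner f w
      = ∑ g ∈ Finset.univ.filter (fun g : nrm P => D.act g ≠ 1), f g * conj (w g : ℂ)
        + (p : ℂ) * Nat.card D.K0 * n 0 := by
  rw [wInner, Cfsg.classInner, ← mul_assoc, mul_inv_cancel₀ Char.card_ne_zero, one_mul,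
    ← Finset.sum_filter_add_sum_filter_not Finset.univ (fun g : nrm P => D.act g ≠ 1)]
  congr 1
  have hle : cent P ≤ nrm P := fun c hc => by
    obtain ⟨a, v, he⟩ := D.exists_el ⟨c, hc⟩
    have hh := congrArg Subtype.val he
    simp only [D.coe_el] at hh
    rw [← hh]
    exact mul_mem (pow_mem (Subgroup.le_normalizer D.x_mem) _) (D.K0_le_nrm v.2)
  let ι : ZMod p × D.K0 → nrm P := fun q => ⟨(D.el q.1 q.2 : G), hle (D.el q.1 q.2).2⟩
  rw [← Finset.sum_bij (s := (Finset.univ : Finset (ZMod p × D.K0))) (i := fun q _ => ι q)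
    (f := fun q => f (ι q : G) * conj (w (ι q) : ℂ)) ?_ ?_ ?_ (fun q _ => rfl), Fintype.sum_prod_type,
    Finset.sum_congr rfl (g := fun a : ZMod p => (Nat.card D.K0 : ℂ) * f (D.x ^ a.val)) fun a _ => ?_,
    ← Finset.mul_sum, Finset.sum_congr rfl fun a _ => hn a, Finset.sum_comm]
  · simp only [← Finset.mul_sum, Frame.sum_std']
    rw [Finset.sum_eq_single (0 : ZMod p) (fun k _ hk => by rw [if_neg hk, mul_zero])
      (fun h => absurd (Finset.mem_univ _) h), if_pos rfl]
    ring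
  · rw [Finset.sum_congr rfl (g := fun _ : D.K0 => f (D.x ^ a.val)) fun v _ => ?_, Finset.sum_const,
      Finset.card_univ, ← Nat.card_eq_fintype_card, nsmul_eq_mul]
    have hwi : (w (ι (a, v)) : ℂ) = (μ : D.K0 → ℂ) v := by
      have hsplit : ι (a, v) = E.Δ.x ^ a.val * ⟨v, D.K0_le_nrm v.2⟩ := Subtype.ext (by
        show (D.el a v : G) = _
        rw [D.coe_el, Subgroup.coe_mul, Subgroup.coe_pow, E.coe_x])
      rw [hsplit, map_mul, map_pow, hx, one_pow, one_mul, hw]
    show f (D.el a v : G) * conj (w (ι (a, v)) : ℂ) = _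
    rw [hwi, D.coe_el, hf, mul_right_comm, conj_linear_mul hμ, one_mul]
  · intro q _
    simp only [Finset.mem_filter, Finset.mem_univ, true_and, not_not]
    exact (D.act_eq_one_iff _).2 (D.el q.1 q.2).2
  · intro q _ q' _ h
    exact D.el_bijective.1 (Subtype.ext (congrArg (fun z : nrm P => (z : G)) h))
  · intro g hg
    simp only [Finset.mem_filter, Finset.mem_univ, true_and, not_not] at hg
    obtain ⟨a, v, he⟩ := D.exists_el ⟨g, (D.act_eq_one_iff g).1 hg⟩
    exact ⟨(a, v), Finset.mem_univ _, Subtype.ext (congrArg (fun z : cent P => (z : G)) he)⟩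

/-- The common multiplicity of the linear characters trivial on a set, off the centralizer. -/
theorem sum_hom_off (χ : nrm P →* ℂˣ) (hχ : ∀ g : nrm P, D.act g = 1 → χ g = 1) :
    ∑ g ∈ Finset.univ.filter (fun g : nrm P => D.act g ≠ 1), (χ g : ℂ)
      = (p : ℂ) * Nat.card D.K0 * ((if χ = 1 then (Nat.card D.act.range : ℂ) else 0) - 1) := by
  have hall : ∑ g : nrm P, (χ g : ℂ) = if χ = 1 then (Nat.card (nrm P) : ℂ) else 0 := by
    split_ifs with h
    · subst h
      simp [← Nat.card_eq_fintype_card]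
    · obtain ⟨g₀, hg₀⟩ : ∃ g₀, χ g₀ ≠ 1 := by
        by_contra hc
        push Not at hc
        exact h (MonoidHom.ext hc)
      have h2 : ((χ g₀ : ℂ) - 1) * ∑ g : nrm P, (χ g : ℂ) = 0 := by
        rw [sub_mul, one_mul, Finset.mul_sum, sub_eq_zero]
        exact Fintype.sum_equiv (Equiv.mulLeft g₀) _ _ fun g => by simp
      exact (mul_eq_zero.1 h2).resolve_left (sub_ne_zero.2 fun e => hg₀ (Units.ext e))
  have hcent : (Finset.univ.filter fun g : nrm P => ¬ D.act g ≠ 1).card = p * Nat.card D.K0 := by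
    have hker : Nat.card D.act.ker * Nat.card D.act.range = Nat.card (nrm P) := by
      rw [← Subgroup.index_ker, Subgroup.card_mul_index]
    rw [card_nrm_eq' D, mul_comm (Nat.card D.act.range)] at hker
    have h := Nat.eq_of_mul_eq_mul_right Nat.card_pos hker
    rw [← h, Nat.card_eq_fintype_card, ← Fintype.card_subtype]
    exact Fintype.card_congr (Equiv.subtypeEquivRight fun g => by simp [MonoidHom.mem_ker])
  have h := Finset.sum_filter_add_sum_filter_not Finset.univ (fun g : nrm P => D.act g ≠ 1) (fun g => (χ g : ℂ))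
  rw [hall, Finset.sum_congr rfl (s₁ := Finset.univ.filter fun g : nrm P => ¬ D.act g ≠ 1) (g := fun _ => (1 : ℂ))
    (fun g hg => by
      rw [hχ g (by simpa using hg), Units.val_one]), Finset.sum_const, hcent, nsmul_eq_mul, mul_one] at h
  rw [eq_sub_of_add_eq h, card_nrm_eq' D]
  push_cast
  split_ifs <;> ring

end CfsgLib.Char.FeitDegree.Weight
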